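import Groth.Agent.Dual22Lib.BCAlg

/-!
# Base change maps followed by a map, on full subcategories
-/

set_option autoImplicit false
set_option linter.style.haveILetI false

universe v₁ v₂ v₃ v₄ v₅ v₆ u₁ u₂ u₃ u₄ u₅ u₆

open CategoryTheory
open Groth.Agent.Dual22Lib

namespace Groth.Agent.BCFlat16

variable {A : Type u₁} [Category.{v₁} A] {B : Type u₂} [Category.{v₂} B]
  {A' : Type u₃} [Category.{v₃} A'] {B' : Type u₄} [Category.{v₄} B']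
  {F : A ⥤ B} {F' : A' ⥤ B'} {L : B ⥤ B'} {R : B' ⥤ B} {L' : A ⥤ A'} {R' : A' ⥤ A}
  {A₀ : Type u₅} [Category.{v₅} A₀] {B₀ : Type u₆} [Category.{v₆} B₀]
  {A₀' : Type u₃} [Category.{v₃} A₀'] {B₀' : Type u₄} [Category.{v₄} B₀']
  {iA : A₀ ⥤ A} {iB : B₀ ⥤ B} {iA' : A₀' ⥤ A'} {iB' : B₀' ⥤ B'}
  {F₀ : A₀ ⥤ B₀} {F₀' : A₀' ⥤ B₀'} {L₀ : B₀ ⥤ B₀'} {R₀ : B₀' ⥤ B₀} {L₀' : A₀ ⥤ A₀'} {R₀' : A₀' ⥤ A₀}

/-- Invertibility of a base change map followed by a map transfers to full subcategories. -/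
theorem isIso_theta_conj_iff (hA : iA.FullyFaithful) (hA' : iA'.FullyFaithful) (hB : iB.FullyFaithful)
    (hB' : iB'.FullyFaithful) (adj : L ⊣ R) (adj' : L' ⊣ R') (cF : iA ⋙ F ≅ F₀ ⋙ iB)
    (cF' : iA' ⋙ F' ≅ F₀' ⋙ iB') (cL : iB ⋙ L ≅ L₀ ⋙ iB') (cR : iB' ⋙ R ≅ R₀ ⋙ iB)
    (cL' : iA ⋙ L' ≅ L₀' ⋙ iA') (cR' : iA' ⋙ R' ≅ R₀' ⋙ iA) (e : R' ⋙ F ≅ F' ⋙ R) (E : A₀)
    {N₀ : A₀'} (κ₀ : L₀'.obj E ⟶ N₀) :
    IsIso ((BCAlg.bc adj adj' e).app (iA.obj E) ≫ F'.map (cL'.hom.app E ≫ iA'.map κ₀)) ↔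
      IsIso ((BCAlg.bc (adj.restrictFullyFaithful hB hB' cL cR) (adj'.restrictFullyFaithful hA hA' cL' cR')
          (BCAlg.conjE hB cF cF' cR cR' e)).app E ≫ F₀'.map κ₀) := by
  let b₀ := (BCAlg.bc (adj.restrictFullyFaithful hB hB' cL cR) (adj'.restrictFullyFaithful hA hA' cL' cR')
    (BCAlg.conjE hB cF cF' cR cR' e)).app E
  have h := BCAlg.map_bc_conj hA hA' hB hB' adj adj' cF cF' cL cR cL' cR' e E
  have hn := cF'.hom.naturality κ₀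
  dsimp at hn
  have key : (BCAlg.bc adj adj' e).app (iA.obj E) ≫ F'.map (cL'.hom.app E ≫ iA'.map κ₀) ≫ cF'.hom.app N₀ =
      L.map (cF.hom.app E) ≫ cL.hom.app (F₀.obj E) ≫ iB'.map (b₀ ≫ F₀'.map κ₀) := by
    rw [F'.map_comp, Category.assoc, hn, reassoc_of% h, iB'.map_comp]
  haveI := hB'.full
  haveI := hB'.faithful
  constructor
  · intro hh
    haveI := hh
    have h' : IsIso (L.map (cF.hom.app E) ≫ cL.hom.app (F₀.obj E) ≫ iB'.map (b₀ ≫ F₀'.map κ₀)) := by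
      rw [← key, ← Category.assoc]
      infer_instance
    rw [isIso_comp_left_iff, isIso_comp_left_iff] at h'
    exact isIso_of_reflects_iso _ iB'
  · intro hh
    haveI : IsIso (b₀ ≫ F₀'.map κ₀) := hh
    have h' : IsIso (((BCAlg.bc adj adj' e).app (iA.obj E) ≫ F'.map (cL'.hom.app E ≫ iA'.map κ₀)) ≫
        cF'.hom.app N₀) := by
      rw [Category.assoc, key]
      infer_instance
    rwa [isIso_comp_right_iff] at h'

end Groth.Agent.BCFlat16
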