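import Groth.Agent.BCFlat16.Trunc
import Groth.Agent.BCFlat16.Conj
import Groth.Agent.Dual22Lib.BCMain
import Groth.Agent.Dual22Lib.RpushBound
import Groth.Agent.Dual22Lib.RepLib
import Groth.Agent.DQCoh.PscFinite
import Groth.Agent.DQCoh.RHomQCoh
import Groth.Agent.DCat.PullPerf

/-!
# Base change for modules flat over the base: squares
-/

set_option autoImplicit false
set_option backward.isDefEq.respectTransparency false
set_option backward.defeqAttrib.useBackward true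
set_option linter.style.haveILetI false
set_option linter.unusedSectionVars false
set_option synthInstance.maxHeartbeats 100000

universe u

open CategoryTheory CategoryTheory.Limits CategoryTheory.Pretriangulated AlgebraicGeometry DerivedCategory
open Groth.Agent.DCat Groth.Agent.DCat.PerfLocal Groth.Agent.Dual22Lib Groth.Agent.Dual22Lib.BCSquare
open Groth.Agent.Coherent

attribute [local instance] HasDerivedCategory.standard

namespace Groth.Agent.BCFlat16

section Bounds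

variable {X Y : Scheme.{u}}

theorem exists_tr_Lpull (g : X ⟶ Y) [DCoh.HasLpull g] (M : Y.Modules) :
    ∃ (N : DCoh.D X) (κ : (DCoh.Lpull g).obj (DCoh.inD Y M) ⟶ N), Tr 0 κ := by
  haveI := PullPerf.isLE_Lpull g (DCoh.inD Y M) 0 inferInstance
  exact exists_tr 0 _

theorem Tr.rd (j : X ⟶ Y) [IsOpenImmersion j] {n : ℤ} {K N : DCoh.D Y} {κ : K ⟶ N} (h : Tr n κ) :
    Tr n ((rd j).map κ) :=
  h.map (PerfLocal.rd j) (TenLocal.triExact_rd j) (isLE_rd j K n h.le)
    (haveI := h.geN; DQCoh.isGE_rd j N n) fun C hC _ => isLE_rd j C _ hC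

theorem Tr.Lpull_open (j : X ⟶ Y) [IsOpenImmersion j] [DCoh.HasLpull j] {n : ℤ} {K N : DCoh.D Y} {κ : K ⟶ N}
    (h : Tr n κ) : Tr n ((DCoh.Lpull j).map κ) := by
  obtain ⟨a⟩ := nonempty_Lpull_rd j
  have h' := (h.rd j).precomp (a.hom.app K) |>.comp_iso (a.inv.app N)
  have he : (DCoh.Lpull j).map κ = (a.hom.app K ≫ (PerfLocal.rd j).map κ) ≫ a.inv.app N := by
    rw [← a.hom.naturality κ, Category.assoc, Iso.hom_inv_id_app, Category.comp_id]
  rw [he]
  exact h'

/-- Affine direct images do not raise degrees. -/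
theorem isLE_Rpush_affine (f : X ⟶ Y) [IsAffineHom f] [DCoh.HasRpush f] (K : DCoh.D X)
    (hK : DCoh.IsQCohD K) (a : ℤ) [K.IsLE a] : ((DCoh.Rpush f).obj K).IsLE a := by
  refine (DerivedCategory.isLE_iff _ _).2 fun i hi => DQCoh.isZero_of_restrict_cover _
    (fun V : Y.affineOpens => V.1) (fun y => ?_) fun V => ?_
  · obtain ⟨W, hW, hy, -⟩ := exists_isAffineOpen_mem_and_subset (x := y) (U := (⊤ : Y.Opens)) trivial
    exact ⟨⟨W, hW⟩, hy⟩
  obtain ⟨d, hd⟩ := DQCoh.exists_bound f V.1 V.2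
  let n := ((d : ℤ) + 1 - i).toNat
  haveI := hd K hK i n (by omega)
  let Z := CohCx.truncTower K n
  haveI : Z.IsGE (-(n : ℤ)) := (inferInstance :
    ((DerivedCategory.TStructure.t (C := X.Modules)).truncGE (-(n : ℤ)) |>.obj K).IsGE (-(n : ℤ)))
  haveI : Z.IsLE a := (inferInstance :
    ((DerivedCategory.TStructure.t (C := X.Modules)).truncGE (-(n : ℤ)) |>.obj K).IsLE a)
  have hZ : DCoh.IsQCohD Z :=
    WayOut.prop_homology_truncGE (fun M => Coh.IsQCoh M) (fun M hM => Coherent.isQCoh_of_isZero hM) K _ hK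
  haveI : ((DCoh.Rpush f).obj Z).IsLE a := by
    have h := RpushBound.isLE_Rpush_of_modules f 0 (fun M hM p hp => by
      obtain ⟨e⟩ := DQCoh.nonempty_Rpush_inD f M (hM := hM)
      exact (DerivedCategory.isZero_of_isLE (DCoh.inD Y ((Scheme.Modules.pushforward f).obj M)) 0 p
        (by simpa using hp)).of_iso ((homologyFunctor Y.Modules p).mapIso e)) Z (-(n : ℤ)) a hZ
    simpa using h
  exact IsZero.of_iso ((Scheme.Modules.restrictFunctor V.1.ι).map_isZero
      (DerivedCategory.isZero_of_isLE ((DCoh.Rpush f).obj Z) a i hi))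
    (asIso ((Scheme.Modules.restrictFunctor V.1.ι).map ((homologyFunctor Y.Modules i).map
      ((DCoh.Rpush f).map (CohCx.toTruncTower K n)))))

theorem Tr.rpush_affine (f : X ⟶ Y) [IsAffineHom f] [DCoh.HasRpush f] {n : ℤ} {K N : DCoh.D X} {κ : K ⟶ N}
    (h : Tr n κ) (hK : DCoh.IsQCohD K) (hN : DCoh.IsQCohD N) : Tr n ((DCoh.Rpush f).map κ) :=
  h.map (DCoh.Rpush f) (TenLocal.triExact_Rpush f) (haveI := h.le; isLE_Rpush_affine f K hK n)
    (haveI := h.geN; RepLib.isGE_Rpush f N n) fun C hC hT => by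
      obtain ⟨v, w, hT⟩ := hT
      haveI := hC
      exact isLE_Rpush_affine f C (DQCoh.isQCohD_obj₃ hT hK hN) _

/-- The target of a projection from an object of `D_QCoh` is quasi-coherent. -/
theorem Tr.isQCohD {n : ℤ} {K N : DCoh.D X} {κ : K ⟶ N} (h : Tr n κ) (hK : DCoh.IsQCohD K) :
    DCoh.IsQCohD N := fun i => by
  haveI := h.geN
  haveI := h.leN
  haveI := h.iso
  by_cases hi : i = n
  · subst hi
    exact Coherent.isQCoh_of_iso (asIso ((homologyFunctor X.Modules i).map κ)) (h := hK i)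
  · refine Coherent.isQCoh_of_isZero ?_
    rcases lt_or_gt_of_ne hi with h' | h'
    · exact N.isZero_of_isGE n i h'
    · exact N.isZero_of_isLE n i h'

end Bounds

variable {X Y X' Y' : Scheme.{u}}

/-- Base change followed by the projection to degree zero is invertible at a module. -/
def G1 (f : X ⟶ Y) (g : Y' ⟶ Y) (f' : X' ⟶ Y') (g' : X' ⟶ X) (M : X.Modules) : Prop :=
  ∀ (_ : DCoh.HasRpush f) (_ : DCoh.HasRpush g) (_ : DCoh.HasLpull g) (_ : DCoh.HasRpush f')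
    (_ : DCoh.HasRpush g') (_ : DCoh.HasLpull g'),
    ∀ (adjg : DCoh.Lpull g ⊣ DCoh.Rpush g) (adjg' : DCoh.Lpull g' ⊣ DCoh.Rpush g')
      (e : DCoh.Rpush g' ⋙ DCoh.Rpush f ≅ DCoh.Rpush f' ⋙ DCoh.Rpush g) (N : DCoh.D X')
      (κ : (DCoh.Lpull g').obj (DCoh.inD X M) ⟶ N), Tr 0 κ →
      IsIso ((BCAlg.bc adjg adjg' e).app (DCoh.inD X M) ≫ (DCoh.Rpush f').map κ)

variable {f : X ⟶ Y} {g : Y' ⟶ Y} {f' : X' ⟶ Y'} {g' : X' ⟶ X}

theorem G1.of_iso {M M' : X.Modules} (a : M ≅ M') (h : G1 f g f' g' M) : G1 f g f' g' M' := by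
  intro _ _ _ _ _ _ adjg adjg' e N κ hκ
  let b : DCoh.inD X M ≅ DCoh.inD X M' := (singleFunctor X.Modules 0).mapIso a
  haveI := h inferInstance inferInstance inferInstance inferInstance inferInstance inferInstance adjg adjg' e N
    ((DCoh.Lpull g').map b.hom ≫ κ) (hκ.precomp _)
  haveI : IsIso ((DCoh.Rpush f ⋙ DCoh.Lpull g).map b.hom ≫ (BCAlg.bc adjg adjg' e).app (DCoh.inD X M') ≫
      (DCoh.Rpush f').map κ) := by
    rw [(BCAlg.bc adjg adjg' e).naturality_assoc, Functor.comp_map, ← Functor.map_comp]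
    assumption
  exact IsIso.of_isIso_comp_left ((DCoh.Rpush f ⋙ DCoh.Lpull g).map b.hom) _

section Vert

variable {X'' Y'' : Scheme.{u}} {h : Y'' ⟶ Y'} {f'' : X'' ⟶ Y''} {h' : X'' ⟶ X'} {gC : Y'' ⟶ Y} {gC' : X'' ⟶ X}

/-- From the composite square to the lower square, after restricting. -/
theorem isIso_map_theta_of_comp (hg : h ≫ g = gC) (hg' : h' ≫ g' = gC') [IsOpenImmersion h]
    (hsq : IsPullback h' f'' f' h) {M : X.Modules} (hM : Coh.IsQCoh M) (hC : G1 f gC f'' gC' M)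
    [DCoh.HasRpush f] [DCoh.HasRpush g] [DCoh.HasLpull g] [DCoh.HasRpush f'] [DCoh.HasRpush g']
    [DCoh.HasLpull g'] [DCoh.HasLpull h] (adjg : DCoh.Lpull g ⊣ DCoh.Rpush g)
    (adjg' : DCoh.Lpull g' ⊣ DCoh.Rpush g')
    (e : DCoh.Rpush g' ⋙ DCoh.Rpush f ≅ DCoh.Rpush f' ⋙ DCoh.Rpush g) {N : DCoh.D X'}
    (κ : (DCoh.Lpull g').obj (DCoh.inD X M) ⟶ N) (hκ : Tr 0 κ) :
    IsIso ((DCoh.Lpull h).map ((BCAlg.bc adjg adjg' e).app (DCoh.inD X M) ≫ (DCoh.Rpush f').map κ)) := by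
  subst hg hg'
  haveI : IsOpenImmersion h' := MorphismProperty.of_isPullback hsq.flip inferInstance
  haveI := hasRpush h
  haveI := hasRpush h'
  haveI := hasLpull h'
  haveI := hasRpush f''
  haveI := hasRpush (h ≫ g)
  haveI := hasRpush (h' ≫ g')
  haveI := hasLpull (h ≫ g)
  haveI := hasLpull (h' ≫ g')
  obtain ⟨ah⟩ := nonempty_pullPushAdj h
  obtain ⟨ah'⟩ := nonempty_pullPushAdj h'
  obtain ⟨aC⟩ := nonempty_pullPushAdj (h ≫ g)
  obtain ⟨aC'⟩ := nonempty_pullPushAdj (h' ≫ g')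
  obtain ⟨eh⟩ := exists_e hsq.w
  obtain ⟨c⟩ := DCat.nonempty_LpullComp h g
  obtain ⟨c'⟩ := DCat.nonempty_LpullComp h' g'
  let E := DCoh.inD X M
  have h1 := hC inferInstance inferInstance inferInstance inferInstance inferInstance inferInstance aC aC'
    (BCAlg.moveE ((adjg.comp ah).ofNatIsoLeft c) aC ((adjg'.comp ah').ofNatIsoLeft c') aC' (BCAlg.vE e eh)) _
    (c'.inv.app E ≫ (DCoh.Lpull h').map κ) ((hκ.Lpull_open h').precomp _)
  rw [BCAlg.bc_moveE, BCAlg.bc_ofNatIsoLeft, BCAlg.bc_vcomp] at h1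
  simp only [Category.assoc] at h1
  rw [← Functor.map_comp, Iso.hom_inv_id_app_assoc] at h1
  have hn := (BCAlg.bc ah ah' eh).naturality κ
  dsimp at hn
  rw [← hn, ← Functor.map_comp_assoc, isIso_comp_left_iff] at h1
  haveI : IsIso ((BCAlg.bc ah ah' eh).app N) :=
    BCSquare.isIso_bc_open (BCSquare.opensRange_le_of_isPullback hsq) ah ah' eh N
  exact @IsIso.of_isIso_comp_right _ _ _ _ _ _ _ ‹_› h1

/-- Base change for a composite whose first map is an open immersion. -/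
theorem G1.of_comp (hg : h ≫ g = gC) (hg' : h' ≫ g' = gC') [IsOpenImmersion g]
    (hsq : IsPullback g' f' f g) (w : h' ≫ f' = f'' ≫ h) {M : X.Modules}
    {M' : X'.Modules} (eM : ∀ [DCoh.HasLpull g'], Nonempty ((DCoh.Lpull g').obj (DCoh.inD X M) ≅ DCoh.inD X' M'))
    (hH : G1 f' h f'' h' M') : G1 f gC f'' gC' M := by
  subst hg hg'
  intro _ _ _ _ _ _ aC aC' eC N κ hκ
  haveI : IsOpenImmersion g' := MorphismProperty.of_isPullback hsq.flip inferInstance
  haveI := hasRpush g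
  haveI := hasRpush g'
  haveI := hasRpush h
  haveI := hasRpush h'
  haveI := hasRpush f'
  haveI := hasLpull g
  haveI := hasLpull g'
  haveI := hasLpull h
  haveI := hasLpull h'
  obtain ⟨ag⟩ := nonempty_pullPushAdj g
  obtain ⟨ag'⟩ := nonempty_pullPushAdj g'
  obtain ⟨ah⟩ := nonempty_pullPushAdj h
  obtain ⟨ah'⟩ := nonempty_pullPushAdj h'
  obtain ⟨eg⟩ := exists_e hsq.w
  obtain ⟨c⟩ := DCat.nonempty_LpullComp h g
  obtain ⟨c'⟩ := DCat.nonempty_LpullComp h' g'
  obtain ⟨m⟩ := eM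
  let a₂ := (ag.comp ah).ofNatIsoLeft c
  let a₂' := (ag'.comp ah').ofNatIsoLeft c'
  let e₂ := BCAlg.moveE aC a₂ aC' a₂' eC
  obtain ⟨hF₁, hF₂⟩ := full_faithful_Rpush g
  let hFW := (Functor.FullyFaithful.ofFullyFaithful (DCoh.Rpush g)).whiskeringRight (DCoh.D X'')
  let eh : DCoh.Rpush h' ⋙ DCoh.Rpush f' ≅ DCoh.Rpush f'' ⋙ DCoh.Rpush h :=
    hFW.preimageIso (show (DCoh.Rpush h' ⋙ DCoh.Rpush f') ⋙ DCoh.Rpush g ≅
        (DCoh.Rpush f'' ⋙ DCoh.Rpush h) ⋙ DCoh.Rpush g from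
      Functor.associator _ _ _ ≪≫ Functor.isoWhiskerLeft _ eg.symm ≪≫ (Functor.associator _ _ _).symm ≪≫
        e₂ ≪≫ (Functor.associator _ _ _).symm)
  have he : BCAlg.vE eg eh = e₂ := by
    have h0 : Functor.whiskerRight eh.hom (DCoh.Rpush g) = (Functor.associator _ _ _ ≪≫
        Functor.isoWhiskerLeft _ eg.symm ≪≫ (Functor.associator _ _ _).symm ≪≫
        e₂ ≪≫ (Functor.associator _ _ _).symm).hom := hFW.map_preimage _
    ext M : 3
    have h1 := congrArg (fun t => NatTrans.app t M) h0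
    dsimp [BCAlg.vE] at h1 ⊢
    rw [h1]
    simp
  rw [← BCAlg.bc_moveE aC a₂ aC' a₂' eC, show BCAlg.moveE aC a₂ aC' a₂' eC = BCAlg.vE eg eh from he.symm,
    BCAlg.bc_ofNatIsoLeft, BCAlg.bc_vcomp]
  simp only [Category.assoc]
  let E := DCoh.inD X M
  haveI := isIso_bc_open (opensRange_le_of_isPullback hsq) ag ag' eg E
  rw [isIso_comp_left_iff, isIso_comp_left_iff, ← Functor.map_comp]
  have h2 := hH inferInstance inferInstance inferInstance inferInstance inferInstance inferInstance ah ah' eh N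
    ((DCoh.Lpull h').map m.inv ≫ c'.hom.app E ≫ κ) ((hκ.precomp _).precomp _)
  have hn := (BCAlg.bc ah ah' eh).naturality m.inv
  dsimp at hn
  rw [Functor.map_comp, ← reassoc_of% hn, isIso_comp_left_iff] at h2
  exact h2

end Vert

/-- The property may be checked over affine covers of both bases. -/
theorem G1.of_cover (hsq : IsPullback g' f' f g) {M : X.Modules} (hM : Coh.IsQCoh M)
    (H : ∀ y : Y', ∃ (U U' : Scheme.{u}) (a : U ⟶ Y) (b : U' ⟶ Y') (h : U' ⟶ U) (_ : IsOpenImmersion a)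
      (_ : IsOpenImmersion b) (XU X'' : Scheme.{u}) (aX : XU ⟶ X) (fU : XU ⟶ U) (hX : X'' ⟶ XU) (f'' : X'' ⟶ U')
      (MU : XU.Modules),
      h ≫ a = b ≫ g ∧ y ∈ b.opensRange ∧ IsPullback aX fU f a ∧ IsPullback hX f'' fU h ∧
        Nonempty (MU ≅ (Scheme.Modules.pullback aX).obj M) ∧ G1 fU h f'' hX MU) : G1 f g f' g' M := by
  intro _ _ _ _ _ _ adjg adjg' e N κ hκ
  refine ProjPerf.isIso_of_locally _ fun y => ?_
  obtain ⟨U, U', a, b, h, _, _, XU, X'', aX, fU, hX, f'', MU, hw, hy, hU, hH, ⟨eMU⟩, hgood⟩ := H y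
  haveI : IsOpenImmersion aX := MorphismProperty.of_isPullback hU.flip inferInstance
  have houter : IsPullback (hX ≫ aX) f'' f (b ≫ g) := hw ▸ hH.paste_horiz hU
  let bX : X'' ⟶ X' := hsq.lift (hX ≫ aX) (f'' ≫ b) (by rw [Category.assoc, hU.w, ← Category.assoc, hH.w]; simp [hw])
  have hbX : IsPullback bX f'' f' b := IsPullback.of_right' houter hsq
  have hC : G1 f (b ≫ g) f'' (hX ≫ aX) M :=
    G1.of_comp hw rfl hU hH.w (fun {_} => by
      obtain ⟨d⟩ := FlatBC14.nonempty_Lpull_inD aX M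
      exact ⟨d ≪≫ (singleFunctor XU.Modules 0).mapIso eMU.symm⟩) hgood
  haveI := hasLpull b
  haveI := isIso_map_theta_of_comp rfl (hsq.lift_fst _ _ _) hbX hM hC adjg adjg' e κ hκ
  obtain ⟨β⟩ := nonempty_Lpull_rd b
  haveI : IsIso ((PerfLocal.rd b).map ((BCAlg.bc adjg adjg' e).app (DCoh.inD X M) ≫ (DCoh.Rpush f').map κ)) :=
    (NatIso.isIso_map_iff β _).1 ‹_›
  refine ⟨b.opensRange, hy, ?_⟩
  exact TenLocal.isIso_rd_of_isIso_rd b b.isoOpensRange.inv b.opensRange.ι b.isoOpensRange_inv_comp _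

section Horiz

variable {V V' : Scheme.{u}} {j : V ⟶ X} {j' : V' ⟶ X'} {g'' : V' ⟶ V}

/-- From a composite source to a direct image. -/
theorem G1.push (hsq : IsPullback g'' j' j g') [IsAffineHom j] [Flat j] {M : V.Modules} (hM : Coh.IsQCoh M)
    (hC : G1 (j ≫ f) g (j' ≫ f') g'' M) : G1 f g f' g' ((Scheme.Modules.pushforward j).obj M) := by
  intro _ _ _ _ _ _ adjg adjg' e N κ hκ
  haveI : IsAffineHom j' := MorphismProperty.of_isPullback (P := @IsAffineHom) hsq inferInstance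
  haveI := hasRpush j
  haveI := hasRpush j'
  haveI := hasRpush g''
  haveI := hasLpull g''
  haveI := hasRpush (j ≫ f)
  haveI := hasRpush (j' ≫ f')
  haveI := hM
  obtain ⟨a⟩ := nonempty_pullPushAdj g''
  obtain ⟨ej⟩ := exists_e hsq.w
  obtain ⟨β⟩ := DCat.nonempty_RpushComp j f
  obtain ⟨β'⟩ := DCat.nonempty_RpushComp j' f'
  obtain ⟨r⟩ := DQCoh.nonempty_Rpush_inD j M
  let E := DCoh.inD V M
  have hE : DCoh.IsQCohD E := FlatBC14.isQCohD_inD M
  have hLE : DCoh.IsQCohD ((DCoh.Lpull g'').obj E) := DQCoh.isQCohD_Lpull g'' E hE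
  obtain ⟨N₀, κ₀, hκ₀⟩ := exists_tr_Lpull g'' M
  haveI hJ : IsIso ((BCAlg.bc adjg' a ej).app E) :=
    BCMain.good_of_flat j g' hsq (Or.inl inferInstance) inferInstance inferInstance inferInstance inferInstance
      inferInstance inferInstance adjg' a ej E hE
  have hκ₁ : Tr 0 ((DCoh.Lpull g').map r.inv ≫ (BCAlg.bc adjg' a ej).app E ≫ (DCoh.Rpush j').map κ₀) :=
    ((hκ₀.rpush_affine j' hLE (hκ₀.isQCohD hLE)).precomp ((BCAlg.bc adjg' a ej).app E)).precomp
      ((DCoh.Lpull g').map r.inv)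
  obtain ⟨φ, hφ⟩ := hκ₁.exists_iso hκ
  have h1 := hC inferInstance inferInstance inferInstance inferInstance inferInstance inferInstance adjg a
    (Functor.isoWhiskerLeft _ β.symm ≪≫ BCAlg.hE e ej ≪≫ Functor.isoWhiskerRight β' _) N₀ κ₀ hκ₀
  rw [BCAlg.bc_iso, BCAlg.bc_hcomp adjg adjg'] at h1
  simp only [Category.assoc] at h1
  rw [isIso_comp_left_iff, ← β'.hom.naturality κ₀] at h1
  simp only [Functor.comp_map] at h1
  rw [← Functor.map_comp_assoc, ← Category.assoc, isIso_comp_right_iff] at h1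
  have hn := (BCAlg.bc adjg adjg' e).naturality r.inv
  dsimp at hn
  haveI : IsIso ((BCAlg.bc adjg adjg' e).app ((DCoh.Rpush j).obj E) ≫
      (DCoh.Rpush f').map ((BCAlg.bc adjg' a ej).app E ≫ (DCoh.Rpush j').map κ₀)) := h1
  have key : (BCAlg.bc adjg adjg' e).app (DCoh.inD X ((Scheme.Modules.pushforward j).obj M)) ≫
      (DCoh.Rpush f').map κ =
      (DCoh.Lpull g).map ((DCoh.Rpush f).map r.inv) ≫ ((BCAlg.bc adjg adjg' e).app ((DCoh.Rpush j).obj E) ≫
        (DCoh.Rpush f').map ((BCAlg.bc adjg' a ej).app E ≫ (DCoh.Rpush j').map κ₀)) ≫ (DCoh.Rpush f').map φ.hom := by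
    rw [← hφ]
    simp only [Functor.map_comp, Category.assoc]
    rw [← reassoc_of% hn]
  rw [key]
  infer_instance

end Horiz

end Groth.Agent.BCFlat16
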