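import Groth.Agent.BCFlat16.Counit
import Groth.Agent.BCFlat16.Squares
import Groth.Agent.Dual22Lib.ProjTau
import Groth.Agent.Dual22Lib.RelTorDim
import Groth.Agent.AmpleLib.Relative

/-!
# Derived tensor product with a module and derived pullback
-/

set_option autoImplicit false
set_option backward.isDefEq.respectTransparency false
set_option backward.defeqAttrib.useBackward true
set_option linter.style.haveILetI false
set_option linter.unusedSectionVars false
set_option synthInstance.maxHeartbeats 100000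

universe u

open CategoryTheory CategoryTheory.Limits CategoryTheory.Pretriangulated AlgebraicGeometry HomologicalComplex
open Groth.Agent.Coherent Groth.Agent.ModStalk Groth.Agent.DCat Groth.Agent.Dual22Lib Groth.Agent.Dual22Lib.WeakExact Groth.Agent.SiteDer16

attribute [local instance] HasDerivedCategory.standard

namespace Groth.Agent.BCFlat16

/-- Functors which are shifts on objects move projections to the top homology. -/
theorem Tr.map' {X : Scheme.{u}} {n m : ℤ} {K N : DCoh.D X} {κ : K ⟶ N} (h : Tr n κ) {r : ℤ}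
    (F : DCoh.D X ⥤ DCoh.D X) (hF : TriExact F) (e : ∀ Z, Nonempty (F.obj Z ≅ Z⟦r⟧)) (hm : r + m = n) :
    Tr m (F.map κ) := by
  obtain ⟨C, v, w, hT⟩ := distinguished_cocone_triangle κ
  obtain ⟨δ, hδ⟩ := hF _ hT
  haveI := h.le
  haveI := h.geN
  haveI := h.cone_le hT
  haveI : (F.obj K).IsLE m := by
    haveI := DerivedCategory.TStructure.t.isLE_shift K n r m hm
    exact DerivedCategory.TStructure.t.isLE_of_iso (e K).some.symm m
  haveI : (F.obj N).IsGE m := by
    haveI := DerivedCategory.TStructure.t.isGE_shift N n r m hm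
    exact DerivedCategory.TStructure.t.isGE_of_iso (e N).some.symm m
  haveI : (F.obj C).IsLE (m - 2) := by
    haveI := DerivedCategory.TStructure.t.isLE_shift C (n - 2) r (m - 2) (by omega)
    exact DerivedCategory.TStructure.t.isLE_of_iso (e C).some.symm (m - 2)
  exact Tr.of_cone (C := F.obj C) hδ

section Gen

variable {C : Type*} [Category C] [Preadditive C] [HasZeroObject C] [HasShift C ℤ]
  [∀ n : ℤ, (shiftFunctor C n).Additive] [Pretriangulated C]
  {D : Type*} [Category D] [Preadditive D] [HasZeroObject D] [HasShift D ℤ]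
  [∀ n : ℤ, (shiftFunctor D n).Additive] [Pretriangulated D]

open scoped ZeroObject in
/-- Weakly exact functors commute with shifts on objects. -/
theorem nonempty_map_shift {F : C ⥤ D} (hF : TriExact F) (Z : C) (n : ℤ) :
    Nonempty (F.obj (Z⟦n⟧) ≅ (F.obj Z)⟦n⟧) := by
  have h1 : ∀ W : C, Nonempty (F.obj (W⟦(1 : ℤ)⟧) ≅ (F.obj W)⟦(1 : ℤ)⟧) := fun W => by
    obtain ⟨δ, hδ⟩ := hF _ (rot_of_distTriang _ (contractible_distinguished W))
    -- the triangle `F W → F 0 → F (W⟦1⟧)`
    haveI : IsIso (Triangle.mk (F.map (contractibleTriangle W).rotate.mor₁)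
        (F.map (contractibleTriangle W).rotate.mor₂) δ).mor₃ :=
      (Triangle.isZero₂_iff_isIso₃ _ hδ).1 (hF.map_isZero (isZero_zero C))
    exact ⟨asIso (Triangle.mk (F.map (contractibleTriangle W).rotate.mor₁)
        (F.map (contractibleTriangle W).rotate.mor₂) δ).mor₃⟩
  induction n using Int.induction_on with
  | zero => exact ⟨F.mapIso ((shiftFunctorZero C ℤ).app Z) ≪≫ ((shiftFunctorZero D ℤ).app _).symm⟩
  | succ k ih =>
    obtain ⟨a⟩ := ih
    obtain ⟨b⟩ := h1 (Z⟦(k : ℤ)⟧)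
    exact ⟨F.mapIso ((shiftFunctorAdd' C (k : ℤ) 1 _ rfl).app Z) ≪≫ b ≪≫ (shiftFunctor D (1 : ℤ)).mapIso a ≪≫
      ((shiftFunctorAdd' D (k : ℤ) 1 _ rfl).app _).symm⟩
  | pred k ih =>
    obtain ⟨a⟩ := ih
    obtain ⟨b⟩ := h1 (Z⟦-(k : ℤ) - 1⟧)
    exact ⟨(shiftFunctor D (1 : ℤ)).preimageIso (b.symm ≪≫
      F.mapIso ((shiftFunctorAdd' C (-(k : ℤ) - 1) 1 (-(k : ℤ)) (by omega)).app Z).symm ≪≫ a ≪≫
      (shiftFunctorAdd' D (-(k : ℤ) - 1) 1 (-(k : ℤ)) (by omega)).app _)⟩

end Gen

section Descend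

variable {A B H : Type*} [Category A] [Category B] [Category H] {L : A ⥤ B} {R : B ⥤ A}

/-- Maps between functors composed with a localization descend. -/
theorem exists_descend (adj : L ⊣ R) [IsIso adj.counit] (F G : B ⥤ H) (φ : L ⋙ F ⟶ L ⋙ G) :
    ∃ ψ : F ⟶ G, ∀ E, ψ.app (L.obj E) = φ.app E := by
  refine ⟨(Functor.leftUnitor F).inv ≫ Functor.whiskerRight (inv adj.counit) F ≫ (Functor.associator _ _ _).hom ≫
    Functor.whiskerLeft R φ ≫ (Functor.associator _ _ _).inv ≫ Functor.whiskerRight adj.counit G ≫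
      (Functor.leftUnitor G).hom, fun E => ?_⟩
  have h := φ.naturality (adj.unit.app E)
  dsimp at h ⊢
  rw [show (inv adj.counit).app (L.obj E) = L.map (adj.unit.app E) by
    rw [NatIso.isIso_inv_app]
    exact IsIso.inv_eq_of_inv_hom_id (adj.left_triangle_components E)]
  simp only [Category.id_comp, Category.comp_id]
  rw [reassoc_of% h, ← Functor.map_comp, adj.left_triangle_components, CategoryTheory.Functor.map_id,
    Category.comp_id]

end Descend

variable {X Y : Scheme.{u}}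

/-- A module as a complex. -/
noncomputable abbrev sM (G : X.Modules) : CochainComplex X.Modules ℤ :=
  (HomologicalComplex.single X.Modules (ComplexShape.up ℤ) 0).obj G

instance hasLTensorCx' (G : X.Modules) : DCoh.HasLTensorCx (sM G) := LTensorSheaf.hasLTensorCx _

/-- `- ⊗^L G`. -/
noncomputable abbrev tens (G : X.Modules) : DCoh.D X ⥤ DCoh.D X := DCoh.LTensorCx (sM G)

/-- The structure sheaf in the derived category. -/
noncomputable abbrev ox (X : Scheme.{u}) : DCoh.D X := DerivedCategory.Q.obj (sM ((freeModOn X).obj ⊤))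

/-- The generator used in the induction. -/
noncomputable def oxSec (X : Scheme.{u}) : ox X ≅ (DQCoh.sec X).pt.obj ⊤ :=
  (((SingleFunctors.evaluation _ _ 0).mapIso (DerivedCategory.singleFunctorsPostcompQIso X.Modules)).app
    ((freeModOn X).obj ⊤)).symm

/-- A module in degree zero. -/
noncomputable def inDIso (G : X.Modules) : DCoh.inD X G ≅ DerivedCategory.Q.obj (sM G) :=
  ((SingleFunctors.evaluation _ _ 0).mapIso (DerivedCategory.singleFunctorsPostcompQIso X.Modules)).app G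

theorem isQCohD_sM {G : X.Modules} (hG : Coh.IsQCoh G) : DCoh.IsQCohD (DerivedCategory.Q.obj (sM G)) :=
  haveI := hG
  DQCoh.isQCohD_of_iso (inDIso G) (FlatBC14.isQCohD_inD G)

theorem isQCohD_ox (n : ℤ) : DCoh.IsQCohD ((ox X)⟦n⟧) :=
  DQCoh.isQCohD_shift (isQCohD_sM (DQCoh.isQCoh_top X)) n

theorem nonempty_Lpull_ox (g : X ⟶ Y) [DCoh.HasLpull g] (n : ℤ) :
    Nonempty ((DCoh.Lpull g).obj ((ox Y)⟦n⟧) ≅ (ox X)⟦n⟧) := by
  obtain ⟨a⟩ := nonempty_map_shift (TenLocal.triExact_Lpull g) (ox Y) n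
  obtain ⟨e⟩ := AmpleLib.exists_pullStructureIso g
  exact ⟨a ≪≫ (shiftFunctor _ n).mapIso (PullPerf.lpullIso g (DQCoh.isKFlatFor_single_top Y) ≪≫
    DerivedCategory.Q.mapIso ((HomologicalComplex.singleMapHomologicalComplex (Scheme.Modules.pullback g)
      (ComplexShape.up ℤ) 0).app _ ≪≫ (HomologicalComplex.single X.Modules (ComplexShape.up ℤ) 0).mapIso
        ((Scheme.Modules.pullback g).mapIso (DQCoh.topStructIso Y) ≪≫ e ≪≫ (DQCoh.topStructIso X).symm)))⟩

/-- Tensoring with the structure sheaf. -/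
theorem nonempty_LTensor_ox (M : CochainComplex X.Modules ℤ) [DCoh.HasLTensorCx M] (n : ℤ) :
    Nonempty ((DCoh.LTensorCx M).obj ((ox X)⟦n⟧) ≅ (DerivedCategory.Q.obj M)⟦n⟧) := by
  obtain ⟨a⟩ := nonempty_map_shift (TenLocal.triExact_LTensor M) (ox X) n
  obtain ⟨u⟩ := DQCoh.nonempty_unit_LTensor M
  exact ⟨a ≪≫ (shiftFunctor _ n).mapIso ((DCoh.LTensorCx M).mapIso (oxSec X) ≪≫ u)⟩

/-- Tensoring with a complex representing the structure sheaf. -/
theorem nonempty_LTensor_of_ox {P : CochainComplex X.Modules ℤ} (hP : IsKFlatFor (shT X) P) [DCoh.HasLTensorCx P]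
    {n : ℤ} (e : DerivedCategory.Q.obj P ≅ (ox X)⟦n⟧) (K : DCoh.D X) :
    Nonempty ((DCoh.LTensorCx P).obj K ≅ K⟦n⟧) := by
  obtain ⟨A, hA, ⟨eA⟩⟩ := PullPerf.exists_kflat_rep K
  haveI := LTensorSheaf.hasLTensorCx A
  obtain ⟨b⟩ := nonempty_LTensor_ox A n
  exact ⟨(DCoh.LTensorCx P).mapIso eA.symm ≪≫ LTensorSheaf.ltensorCxIso P hA ≪≫
    DerivedCategory.Q.mapIso (ShSymm.symm A P) ≪≫ (LTensorSheaf.ltensorCxIso A hP).symm ≪≫
    (DCoh.LTensorCx A).mapIso e ≪≫ b ≪≫ (shiftFunctor _ n).mapIso eA⟩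

theorem lpullIso_natural (g : X ⟶ Y) [DCoh.HasLpull g] {A B : CochainComplex Y.Modules ℤ}
    (hA : IsKFlatFor (shT Y) A) (hB : IsKFlatFor (shT Y) B) (s : A ⟶ B) :
    (DCoh.Lpull g).map (DerivedCategory.Q.map s) ≫ (PullPerf.lpullIso g hB).hom =
      (PullPerf.lpullIso g hA).hom ≫
        DerivedCategory.Q.map (((Scheme.Modules.pullback g).mapHomologicalComplex (ComplexShape.up ℤ)).map s) := by
  exact ProjQCoh.lpullIso_natural g hA hB s

theorem pullTotIso_natural (g : X ⟶ Y) {A B : CochainComplex Y.Modules ℤ} (s : A ⟶ B) (L : CochainComplex Y.Modules ℤ) :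
    ((Scheme.Modules.pullback g).mapHomologicalComplex (ComplexShape.up ℤ)).map (totMap₁ (shT Y) s L) ≫
        (PullTot.pullTotIso g B L).hom =
      (PullTot.pullTotIso g A L).hom ≫
        totMap₁ (shT X) (((Scheme.Modules.pullback g).mapHomologicalComplex (ComplexShape.up ℤ)).map s)
          (((Scheme.Modules.pullback g).mapHomologicalComplex (ComplexShape.up ℤ)).obj L) := by
  have h := mapTotHom_natural (T := shT Y) (T' := shT X) (F := Scheme.Modules.pullback g)
    (H := Scheme.Modules.pullback g) (G := Scheme.Modules.pullback g) (α := PullTensor.pullTensorIso g)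
    (fun φ N => PullTensor.pullTensorHom_nat₁ g φ N)
    (fun M _ _ ψ => PullTensor.pullTensorHom_nat₂ g M ψ) s (𝟙 L)
  rw [CategoryTheory.Functor.map_id] at h
  exact h

/-- Derived pullback of `- ⊗^L L`, naturally, for K-flat `L`. -/
theorem nonempty_Lpull_LTensor_nat (g : X ⟶ Y) [DCoh.HasLpull g] {L : CochainComplex Y.Modules ℤ}
    (hL : IsKFlatFor (shT Y) L) [DCoh.HasLTensorCx L]
    [DCoh.HasLTensorCx (((Scheme.Modules.pullback g).mapHomologicalComplex (ComplexShape.up ℤ)).obj L)] :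
    Nonempty (DCoh.LTensorCx L ⋙ DCoh.Lpull g ≅ DCoh.Lpull g ⋙
      DCoh.LTensorCx (((Scheme.Modules.pullback g).mapHomologicalComplex (ComplexShape.up ℤ)).obj L)) := by
  let G := (Scheme.Modules.pullback g).mapHomologicalComplex (ComplexShape.up ℤ)
  let τ₀ : ∀ A, IsKFlatFor (shT Y) A → ((DCoh.LTensorCx L ⋙ DCoh.Lpull g).obj (DerivedCategory.Q.obj A) ⟶
      (DCoh.Lpull g ⋙ DCoh.LTensorCx (G.obj L)).obj (DerivedCategory.Q.obj A)) := fun A hA =>
    ((DCoh.Lpull g).mapIso (LTensorSheaf.ltensorCxIso L hA) ≪≫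
      PullPerf.lpullIso g (LTensorSheaf.isKFlatFor_tot hA hL) ≪≫
      DerivedCategory.Q.mapIso (PullTot.pullTotIso g A L) ≪≫
      (LTensorSheaf.ltensorCxIso (G.obj L) (PullTot.isKFlatFor_pullback g hA)).symm ≪≫
      (DCoh.LTensorCx (G.obj L)).mapIso (PullPerf.lpullIso g hA).symm).hom
  obtain ⟨τ, hτ⟩ := exists_natTrans DerivedCategory.Q (fun P => IsKFlatFor (shT Y) P) ProjQCoh.exists_kflat_obj
    (fun A B _ _ u => ProjQCoh.exists_kflat_roof u) (DCoh.LTensorCx L ⋙ DCoh.Lpull g)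
    (DCoh.Lpull g ⋙ DCoh.LTensorCx (G.obj L)) τ₀ (fun A B hA hB s => by
      have e₁ := congrArg (DCoh.Lpull g).map (ProjQCoh.counit_natural L s)
      have e₂ := lpullIso_natural g (LTensorSheaf.isKFlatFor_tot hA hL) (LTensorSheaf.isKFlatFor_tot hB hL)
        (totMap₁ (shT Y) s L)
      have e₃ := congrArg DerivedCategory.Q.map (pullTotIso_natural g s L)
      have e₄ := ProjQCoh.counit_natural (G.obj L) (G.map s)
      have e₅ := congrArg (DCoh.LTensorCx (G.obj L)).map (lpullIso_natural g hA hB s)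
      simp only [Functor.map_comp] at e₁ e₃ e₅
      have e₄' : (LTensorSheaf.ltensorCxIso (G.obj L) (PullTot.isKFlatFor_pullback g hA)).inv ≫
          (DCoh.LTensorCx (G.obj L)).map (DerivedCategory.Q.map (G.map s)) =
          DerivedCategory.Q.map (totMap₁ (shT X) (G.map s) (G.obj L)) ≫
            (LTensorSheaf.ltensorCxIso (G.obj L) (PullTot.isKFlatFor_pullback g hB)).inv := by
        rw [Iso.inv_comp_eq, ← Category.assoc, Iso.eq_comp_inv]
        exact e₄
      have e₅' : (DCoh.LTensorCx (G.obj L)).map (PullPerf.lpullIso g hA).inv ≫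
          (DCoh.LTensorCx (G.obj L)).map ((DCoh.Lpull g).map (DerivedCategory.Q.map s)) =
          (DCoh.LTensorCx (G.obj L)).map (DerivedCategory.Q.map (G.map s)) ≫
            (DCoh.LTensorCx (G.obj L)).map (PullPerf.lpullIso g hB).inv := by
        rw [← Functor.map_comp, ← Functor.map_comp]
        congr 1
        rw [Iso.inv_comp_eq, ← Category.assoc, Iso.eq_comp_inv]
        exact lpullIso_natural g hA hB s
      simp only [τ₀, Iso.trans_hom, Functor.mapIso_hom, Iso.symm_hom, Functor.mapIso_inv, Functor.comp_map,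
        Category.assoc]
      rw [e₅', reassoc_of% e₄', ← reassoc_of% e₃, ← reassoc_of% e₂]
      exact (Category.assoc _ _ _).symm.trans ((congrArg (· ≫ _) e₁).trans (Category.assoc _ _ _)))
  haveI : IsIso τ := by
    rw [NatTrans.isIso_iff_isIso_app]
    intro K
    obtain ⟨A, hA, ⟨e⟩⟩ := PullPerf.exists_kflat_rep K
    refine (NatTrans.isIso_app_iff_of_iso τ e).1 ?_
    rw [hτ A hA]
    infer_instance
  exact ⟨asIso τ⟩

theorem totMap_comm {M M' K K' : CochainComplex X.Modules ℤ} (s : M ⟶ M') (q : K ⟶ K') :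
    totMap₁ (shT X) s K ≫ totMap₂ (shT X) M' q = totMap₂ (shT X) M q ≫ totMap₁ (shT X) s K' := by
  refine HomologicalComplex.hom_ext _ _ fun n => mapBifunctor.hom_ext fun p r h => ?_
  simp [ι_mapBifunctorMap_assoc, ι_mapBifunctorMap]

/-- Change of the second factor. -/
theorem exists_whisker {N E : CochainComplex X.Modules ℤ} (q : N ⟶ E) [DCoh.HasLTensorCx N] [DCoh.HasLTensorCx E] :
    ∃ ν : DCoh.LTensorCx N ⟶ DCoh.LTensorCx E, ∀ (A : CochainComplex X.Modules ℤ) (hA : IsKFlatFor (shT X) A),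
      ν.app (DerivedCategory.Q.obj A) = (LTensorSheaf.ltensorCxIso N hA).hom ≫
        DerivedCategory.Q.map (totMap₂ (shT X) A q) ≫ (LTensorSheaf.ltensorCxIso E hA).inv := by
  refine exists_natTrans DerivedCategory.Q (fun P => IsKFlatFor (shT X) P) ProjQCoh.exists_kflat_obj
    (fun A B _ _ u => ProjQCoh.exists_kflat_roof u) _ _ _ fun A B hA hB s => ?_
  have e₁ := ProjQCoh.counit_natural N s
  have e₂ : (LTensorSheaf.ltensorCxIso E hA).inv ≫ (DCoh.LTensorCx E).map (DerivedCategory.Q.map s) =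
      DerivedCategory.Q.map (totMap₁ (shT X) s E) ≫ (LTensorSheaf.ltensorCxIso E hB).inv := by
    rw [Iso.inv_comp_eq, ← Category.assoc, Iso.eq_comp_inv]
    exact ProjQCoh.counit_natural E s
  rw [Category.assoc, Category.assoc, e₂, ← Functor.map_comp_assoc, ← totMap_comm, Functor.map_comp_assoc]
  exact (Category.assoc _ _ _).symm.trans ((congrArg (· ≫ _) e₁).trans (Category.assoc _ _ _))

/-- `ψ` is the projection to the top homology on shifts of the structure sheaf. -/
def Dat (g : X ⟶ Y) [DCoh.HasLpull g] {G : Y.Modules} {G' : X.Modules}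
    (ψ : tens G ⋙ DCoh.Lpull g ⟶ DCoh.Lpull g ⋙ tens G') : Prop :=
  ∀ n : ℤ, Tr (-n) (ψ.app ((ox Y)⟦n⟧))

theorem nonempty_tens_open (j : X ⟶ Y) [IsOpenImmersion j] [DCoh.HasLpull j] (G : Y.Modules) :
    Nonempty (tens G ⋙ DCoh.Lpull j ≅ DCoh.Lpull j ⋙ tens ((Scheme.Modules.pullback j).obj G)) := by
  obtain ⟨L, c, hL, -, hc, -⟩ := exists_kflat_sheaf (sM G)
  haveI := hc
  haveI := LTensorSheaf.hasLTensorCx L
  haveI := LTensorSheaf.hasLTensorCx (((Scheme.Modules.pullback j).mapHomologicalComplex (ComplexShape.up ℤ)).obj L)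
  haveI : IsIso (DerivedCategory.Q.map c) := (DerivedCategory.isIso_Q_map_iff_quasiIso _ _).2 hc
  obtain ⟨a⟩ := nonempty_Lpull_LTensor_nat j hL
  obtain ⟨b⟩ := TensorCongr.nonempty_of_quasiIso c
  obtain ⟨d⟩ := FlatBC14.nonempty_Lpull_inD j G
  obtain ⟨b'⟩ := TensorCongr.nonempty_congr (E := ((Scheme.Modules.pullback j).mapHomologicalComplex (ComplexShape.up ℤ)).obj L)
    (E' := sM ((Scheme.Modules.pullback j).obj G))
    ((PullPerf.lpullIso j hL).symm ≪≫ (DCoh.Lpull j).mapIso (asIso (DerivedCategory.Q.map c) ≪≫ (inDIso G).symm) ≪≫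
      d ≪≫ inDIso _)
  exact ⟨Functor.isoWhiskerRight b.symm _ ≪≫ a ≪≫ Functor.isoWhiskerLeft _ b'⟩

/-- The projection `Lg^*(E ⊗^L G) ⟶ Lg^*E ⊗^L g^*G`. -/
theorem exists_dat (g : X ⟶ Y) [DCoh.HasLpull g] (G : Y.Modules) :
    ∃ ψ : tens G ⋙ DCoh.Lpull g ⟶ DCoh.Lpull g ⋙ tens ((Scheme.Modules.pullback g).obj G), Dat g ψ := by
  obtain ⟨L, c, hL, -, hc, hb⟩ := exists_kflat_sheaf_le (sM G) 0 fun i hi =>
    HomologicalComplex.isZero_single_obj_X _ _ _ _ (by omega)
  haveI := hc
  let P := (Scheme.Modules.pullback g).mapHomologicalComplex (ComplexShape.up ℤ)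
  let i : P.obj (sM G) ≅ sM ((Scheme.Modules.pullback g).obj G) :=
    (HomologicalComplex.singleMapHomologicalComplex (Scheme.Modules.pullback g) (ComplexShape.up ℤ) 0).app G
  let q : P.obj L ⟶ sM ((Scheme.Modules.pullback g).obj G) := P.map c ≫ i.hom
  haveI := LTensorSheaf.hasLTensorCx L
  haveI := LTensorSheaf.hasLTensorCx (P.obj L)
  have hq : Tr 0 (DerivedCategory.Q.map q) := by
    rw [Functor.map_comp]
    refine Tr.comp_iso ?_ _
    haveI : CochainComplex.IsStrictlyLE (P.obj L) 0 := (CochainComplex.isStrictlyLE_iff _ 0).2 fun i hi =>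
      (Scheme.Modules.pullback g).map_isZero (hb i hi)
    haveI : CochainComplex.IsStrictlyLE (P.obj (sM G)) 0 := (CochainComplex.isStrictlyLE_iff _ 0).2 fun i hi =>
      (Scheme.Modules.pullback g).map_isZero (HomologicalComplex.isZero_single_obj_X _ _ _ _ (by omega))
    haveI : CochainComplex.IsStrictlyGE (P.obj (sM G)) 0 := (CochainComplex.isStrictlyGE_iff _ 0).2 fun i hi =>
      (Scheme.Modules.pullback g).map_isZero (HomologicalComplex.isZero_single_obj_X _ _ _ _ (by omega))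
    refine ⟨inferInstance, inferInstance, inferInstance, ?_⟩
    haveI := quasiIsoAt_pullback_top g c 0 (hb (0 + 1) (by omega))
      (HomologicalComplex.isZero_single_obj_X (ComplexShape.up ℤ) 0 G _ (by omega))
      (HomologicalComplex.isZero_single_obj_X (ComplexShape.up ℤ) 0 G _ (by omega))
    haveI : IsIso ((HomologicalComplex.homologyFunctor X.Modules (ComplexShape.up ℤ) 0).map (P.map c)) :=
      (quasiIsoAt_iff_isIso_homologyMap _ _).1 ‹_›
    exact (NatIso.isIso_map_iff (DerivedCategory.homologyFunctorFactors X.Modules 0) (P.map c)).2 ‹_›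
  obtain ⟨a⟩ := nonempty_Lpull_LTensor_nat g hL
  obtain ⟨b⟩ := TensorCongr.nonempty_of_quasiIso c
  obtain ⟨ν, hν⟩ := exists_whisker q
  refine ⟨(Functor.isoWhiskerRight b.symm (DCoh.Lpull g) ≪≫ a).hom ≫ Functor.whiskerLeft _ ν, fun n => ?_⟩
  rw [NatTrans.comp_app]
  refine Tr.precomp ?_ _
  show Tr (-n) (ν.app ((DCoh.Lpull g).obj ((ox Y)⟦n⟧)))
  obtain ⟨w⟩ := nonempty_Lpull_ox g n
  obtain ⟨A, hA, ⟨eA⟩⟩ := PullPerf.exists_kflat_rep ((ox X)⟦n⟧)
  haveI := LTensorSheaf.hasLTensorCx A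
  let m := eA ≪≫ w.symm
  have hm : ν.app ((DCoh.Lpull g).obj ((ox Y)⟦n⟧)) =
      (DCoh.LTensorCx (P.obj L)).map m.inv ≫ ν.app (DerivedCategory.Q.obj A) ≫
        (DCoh.LTensorCx (sM ((Scheme.Modules.pullback g).obj G))).map m.hom := by
    rw [ν.naturality_assoc, ← Functor.map_comp, Iso.inv_hom_id, CategoryTheory.Functor.map_id, Category.comp_id]
  rw [hm, hν A hA]
  refine ((?_ : Tr (-n) _).precomp _)
  refine ((?_ : Tr (-n) _).comp_iso _)
  refine Tr.precomp ?_ _
  refine Tr.comp_iso ?_ _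
  let F := DCoh.LTensorCx A
  let S' := sM ((Scheme.Modules.pullback g).obj G)
  have hF : Tr (-n) (F.map (DerivedCategory.Q.map q)) := by
    refine hq.map' F (TenLocal.triExact_LTensor A) (fun K => nonempty_LTensor_of_ox hA eA K) ?_
    omega
  have e₁ : F.map (DerivedCategory.Q.map q) ≫ (LTensorSheaf.ltensorCxIso' hA S').hom =
      (LTensorSheaf.ltensorCxIso' hA (P.obj L)).hom ≫ DerivedCategory.Q.map (totMap₁ (shT X) q A) :=
    ProjQCoh.counit_natural A q
  have hs : DerivedCategory.Q.map (totMap₂ (shT X) A q) =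
      (DerivedCategory.Q.map (ShSymm.symm (P.obj L) A).inv ≫ (LTensorSheaf.ltensorCxIso' hA (P.obj L)).inv) ≫
        F.map (DerivedCategory.Q.map q) ≫
        (LTensorSheaf.ltensorCxIso' hA S').hom ≫ DerivedCategory.Q.map (ShSymm.symm S' A).hom := by
    rw [reassoc_of% e₁]
    simp only [Category.assoc, Iso.inv_hom_id_assoc]
    rw [← Functor.map_comp, ← Functor.map_comp]
    congr 1
    rw [ShSymm.symm_natural₁, Iso.inv_hom_id_assoc]
  rw [hs]
  exact (hF.comp_iso _).precomp _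

end Groth.Agent.BCFlat16
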