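import Groth.Agent.BCFlat16.FMMain

/-!
# Fourier-Mukai transforms of invertible modules
-/

set_option autoImplicit false
set_option backward.isDefEq.respectTransparency false
set_option linter.style.haveILetI false
set_option synthInstance.maxHeartbeats 100000

universe u

open CategoryTheory CategoryTheory.Limits AlgebraicGeometry

attribute [local instance] HasDerivedCategory.standard

namespace Groth.Agent.BCFlat16

variable {X Y : Scheme.{u}}

/-- A module in degree zero is the twist of the structure sheaf. -/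
theorem nonempty_inD_tens (L : X.Modules) : Nonempty ((tens L).obj (ox X) ≅ DCoh.inD X L) := by
  obtain ⟨a⟩ := nonempty_LTensor_ox (sM L) 0
  exact ⟨(tens L).mapIso ((shiftFunctorZero _ ℤ).app _).symm ≪≫ a ≪≫ (shiftFunctorZero _ ℤ).app _ ≪≫ (inDIso L).symm⟩

/-- Derived pullback of an invertible module. -/
theorem nonempty_Lpull_inD (f : X ⟶ Y) [DCoh.HasLpull f] {L : Y.Modules} (hL : PicF.IsInvertible L) :
    Nonempty ((DCoh.Lpull f).obj (DCoh.inD Y L) ≅ DCoh.inD X ((Scheme.Modules.pullback f).obj L)) := by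
  obtain ⟨a⟩ := nonempty_inD_tens L
  obtain ⟨b⟩ := nonempty_inD_tens ((Scheme.Modules.pullback f).obj L)
  obtain ⟨v⟩ := nonempty_Lpull_tens_inv f hL
  obtain ⟨w⟩ := nonempty_Lpull_ox f 0
  exact ⟨(DCoh.Lpull f).mapIso a.symm ≪≫ v.app _ ≪≫ (tens _).mapIso ((DCoh.Lpull f).mapIso
    ((shiftFunctorZero _ ℤ).app _).symm ≪≫ w ≪≫ (shiftFunctorZero _ ℤ).app _) ≪≫ b⟩

end Groth.Agent.BCFlat16
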