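import Groth.Agent.BCFlat16.TenInv
import Groth.Agent.DCat.TensorAssoc
import Groth.Agent.DCat.RHomLeft
import Groth.Agent.DCat.PullComp
import Groth.Agent.PicLib.PicGroup

/-!
# Twists by invertible modules
-/

set_option autoImplicit false
set_option backward.isDefEq.respectTransparency false
set_option backward.defeqAttrib.useBackward true
set_option linter.style.haveILetI false
set_option linter.unusedSectionVars false
set_option synthInstance.maxHeartbeats 100000

universe u

open CategoryTheory CategoryTheory.Limits AlgebraicGeometry HomologicalComplex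
open Groth.Agent.Coherent Groth.Agent.ModStalk Groth.Agent.DCat Groth.Agent.Dual22Lib Groth.Agent.Dual22Lib.WeakExact

attribute [local instance] HasDerivedCategory.standard

namespace Groth.Agent.BCFlat16

variable {X Y : Scheme.{u}}

theorem nonempty_tens_congr {P Q : X.Modules} (h : Nonempty (P ≅ Q)) : Nonempty (tens P ≅ tens Q) := by
  obtain ⟨e⟩ := h
  exact TensorCongr.nonempty_congr (DerivedCategory.Q.mapIso
    ((HomologicalComplex.single X.Modules (ComplexShape.up ℤ) 0).mapIso e))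

theorem nonempty_tens_of_eq {P Q : X.Modules} (hP : PicF.IsInvertible P) (hQ : PicF.IsInvertible Q)
    (h : PicLib.PicM.of hP = PicLib.PicM.of hQ) : Nonempty (tens P ≅ tens Q) :=
  nonempty_tens_congr ((PicLib.PicM.of_eq_iff hP hQ).1 h)

/-- `(- ⊗ P) ⊗ Q = - ⊗ (P ⊗ Q)` for invertible `Q`. -/
theorem nonempty_tens_tens (P : X.Modules) {Q : X.Modules} (hQ : PicF.IsInvertible Q) :
    Nonempty (tens P ⋙ tens Q ≅ tens (CohB1.tensorMod P Q)) := by
  haveI := LTensorSheaf.hasLTensorCx (tot (shT X) (sM P) (sM Q))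
  obtain ⟨a⟩ := TensorAssoc.nonempty_LTensor_comp (sM P) (sM Q) (isKFlatFor_sM_invertible hQ)
  let e : tot (shT X) (sM P) (sM Q) ≅ sM (CohB1.tensorMod P Q) :=
    (totSingle (sM P) Q).symm ≪≫
      (HomologicalComplex.singleMapHomologicalComplex (DCoh.tensorRightMod Q) (ComplexShape.up ℤ) 0).app P
  obtain ⟨b⟩ := TensorCongr.nonempty_congr (DerivedCategory.Q.mapIso e)
  exact ⟨a ≪≫ b⟩

theorem nonempty_tens_structure : Nonempty (tens (Coh.structureModule X) ≅ 𝟭 (DCoh.D X)) :=
  RHomLeft.nonempty_LTensor_structure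

theorem nonempty_tens_inv {P Q : X.Modules} (hP : PicF.IsInvertible P) (hQ : PicF.IsInvertible Q)
    (h : PicLib.PicM.of hP * PicLib.PicM.of hQ = 1) : Nonempty (tens P ⋙ tens Q ≅ 𝟭 (DCoh.D X)) := by
  obtain ⟨a⟩ := nonempty_tens_tens P hQ
  rw [PicLib.PicM.of_mul, PicLib.PicM.of_eq_one_iff] at h
  obtain ⟨b⟩ := nonempty_tens_congr h
  obtain ⟨c⟩ := nonempty_tens_structure (X := X)
  exact ⟨a ≪≫ b ≪≫ c⟩

/-- Twisting by an invertible module has the twist by the inverse as a left adjoint. -/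
theorem nonempty_tens_adj {P Q : X.Modules} (hP : PicF.IsInvertible P) (hQ : PicF.IsInvertible Q)
    (h : PicLib.PicM.of hP * PicLib.PicM.of hQ = 1) : Nonempty (tens Q ⊣ tens P) := by
  obtain ⟨a⟩ := nonempty_tens_inv hP hQ h
  obtain ⟨b⟩ := nonempty_tens_inv hQ hP ((mul_comm _ _).trans h)
  exact ⟨(CategoryTheory.Equivalence.mk (tens Q) (tens P) b.symm a).toAdjunction⟩

/-- Projection formula for an invertible module. -/
theorem nonempty_projection_tens (f : X ⟶ Y) [DCoh.HasRpush f] {P : Y.Modules} (hP : PicF.IsInvertible P) :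
    Nonempty (DCoh.Rpush f ⋙ tens P ≅ tens ((Scheme.Modules.pullback f).obj P) ⋙ DCoh.Rpush f) := by
  obtain ⟨b, hb⟩ := PicLib.PicM.exists_mul_eq_one (PicLib.PicM.of hP)
  obtain ⟨Q, hQ, rfl⟩ := PicLib.PicM.exists_eq_of b
  haveI := hasLpull f
  obtain ⟨adj⟩ := nonempty_pullPushAdj f
  obtain ⟨α⟩ := nonempty_tens_adj hP hQ hb
  obtain ⟨α'⟩ := nonempty_tens_adj (PicLoc.isInvertible_pullback f hP) (PicLoc.isInvertible_pullback f hQ)
    (by rw [← PicLib.PicM.pull_of f hP, ← PicLib.PicM.pull_of f hQ, ← map_mul, hb, map_one])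
  obtain ⟨v⟩ := nonempty_Lpull_tens_inv f hQ
  exact ⟨((α.comp adj).ofNatIsoLeft v).rightAdjointUniq (adj.comp α')⟩

end Groth.Agent.BCFlat16
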