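import Groth.Agent.BCFlat16.TenBC
import Groth.Agent.Coherent.ProjSpaceBC
import Groth.Agent.AmpleLib.Ample

/-!
# `- ⊗^L P` for invertible modules
-/

set_option autoImplicit false
set_option backward.isDefEq.respectTransparency false
set_option backward.defeqAttrib.useBackward true
set_option linter.style.haveILetI false
set_option linter.unusedSectionVars false
set_option synthInstance.maxHeartbeats 100000

universe u

open CategoryTheory CategoryTheory.Limits CategoryTheory.Pretriangulated AlgebraicGeometry HomologicalComplex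
open Groth.Agent.Coherent Groth.Agent.ModStalk Groth.Agent.DCat Groth.Agent.Dual22Lib Groth.Agent.Dual22Lib.WeakExact

attribute [local instance] HasDerivedCategory.standard

namespace Groth.Agent.BCFlat16

variable {X Y : Scheme.{u}}

/-- `M ⊗ G ⟶ tot (M, G)` in degree `n`. -/
noncomputable def totSingleX (M : CochainComplex X.Modules ℤ) (G : X.Modules) (n : ℤ) :
    ((shT X).obj (M.X n)).obj G ⟶ (tot (shT X) M (sM G)).X n :=
  ((shT X).obj (M.X n)).map (singleObjXSelf (ComplexShape.up ℤ) 0 G).inv ≫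
    ιMapBifunctor M (sM G) (shT X) (ComplexShape.up ℤ) n 0 n (by simp)

theorem isIso_totSingleX (M : CochainComplex X.Modules ℤ) (G : X.Modules) (n : ℤ) : IsIso (totSingleX M G n) := by
  classical
  let e := singleObjXSelf (ComplexShape.up ℤ) 0 G
  refine ⟨mapBifunctorDesc fun p q h => if hq : q = 0 then
      ((shT X).map (M.XIsoOfEq (show p = n by subst hq; simpa using h)).hom).app ((sM G).X q) ≫
        ((shT X).obj (M.X n)).map (((sM G).XIsoOfEq hq).hom ≫ e.hom) else 0, ?_, ?_⟩
  · simp [totSingleX, ← Functor.map_comp, e]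
  · refine mapBifunctor.hom_ext fun p q h => ?_
    rw [ι_mapBifunctorDesc_assoc, Category.comp_id]
    by_cases hq : q = 0
    · subst hq
      obtain rfl : p = n := by simpa using h
      simp [totSingleX, ← Functor.map_comp_assoc, e]
    · exact IsZero.eq_of_src
        (((shT X).obj _).map_isZero (isZero_single_obj_X (ComplexShape.up ℤ) 0 G q hq)) _ _

/-- `M ⊗ G ≅ tot (M, G)`. -/
noncomputable def totSingle (M : CochainComplex X.Modules ℤ) (G : X.Modules) :
    ((DCoh.tensorRightMod G).mapHomologicalComplex (ComplexShape.up ℤ)).obj M ≅ tot (shT X) M (sM G) :=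
  haveI := isIso_totSingleX M G
  Hom.isoOfComponents (fun n => @asIso _ _ _ _ (totSingleX M G n) (isIso_totSingleX M G n)) fun i j hij => by
    show totSingleX M G i ≫ _ = ((shT X).map (M.d i j)).app G ≫ totSingleX M G j
    dsimp [totSingleX]
    simp only [Category.assoc, mapBifunctor.d_eq, Preadditive.comp_add, mapBifunctor.ι_D₁, mapBifunctor.ι_D₂]
    rw [mapBifunctor.d₁_eq _ _ _ _ hij _ _ (by simpa using hij), mapBifunctor.d₂_eq _ _ _ _ _
      (show (ComplexShape.up ℤ).Rel 0 1 by simp) _ (by simp at hij ⊢; omega), single_obj_d]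
    simp

theorem totSingle_natural {M M' : CochainComplex X.Modules ℤ} (s : M ⟶ M') (G : X.Modules) :
    ((DCoh.tensorRightMod G).mapHomologicalComplex (ComplexShape.up ℤ)).map s ≫ (totSingle M' G).hom =
      (totSingle M G).hom ≫ totMap₁ (shT X) s (sM G) := by
  ext n : 1
  show ((shT X).map (s.f n)).app G ≫ totSingleX M' G n = totSingleX M G n ≫ _
  simp [totSingleX, ι_mapBifunctorMap]

/-- The two normalizations of `- ⊗^L G` agree. -/
theorem nonempty_LTensorMod_nat (G : X.Modules) [DCoh.HasLTensorMod G] :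
    Nonempty (DCoh.LTensorMod G ≅ tens G) := by
  let R := (DCoh.tensorRightMod G).mapHomologicalComplex (ComplexShape.up ℤ)
  let τ₀ : ∀ A, IsKFlatFor (shT X) A → ((DCoh.LTensorMod G).obj (DerivedCategory.Q.obj A) ⟶
      (tens G).obj (DerivedCategory.Q.obj A)) := fun A hA =>
    (ltensorModIso G hA ≪≫ DerivedCategory.Q.mapIso (totSingle A G) ≪≫
      (LTensorSheaf.ltensorCxIso (sM G) hA).symm).hom
  obtain ⟨τ, hτ⟩ := exists_natTrans DerivedCategory.Q (fun P => IsKFlatFor (shT X) P) ProjQCoh.exists_kflat_obj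
    (fun A B _ _ u => ProjQCoh.exists_kflat_roof u) (DCoh.LTensorMod G) (tens G) τ₀ (fun A B hA hB s => by
      have e₁ : (DCoh.LTensorMod G).map (DerivedCategory.Q.map s) ≫ (ltensorModIso G hB).hom =
          (ltensorModIso G hA).hom ≫ DerivedCategory.Q.map (R.map s) := by
        have h₁ := congrArg (DCoh.LTensorMod G).map ((DerivedCategory.quotientCompQhIso X.Modules).inv.naturality s)
        have h₂ := ((DCoh.tensorModKh G).totalLeftDerivedCounit DerivedCategory.Qh
          (HomotopyCategory.quasiIso X.Modules (ComplexShape.up ℤ))).naturality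
            ((HomotopyCategory.quotient X.Modules (ComplexShape.up ℤ)).map s)
        have h₃ := (DerivedCategory.quotientCompQhIso X.Modules).hom.naturality (R.map s)
        rw [Functor.map_comp, Functor.map_comp] at h₁
        simp only [Functor.comp_map] at h₁ h₂ h₃
        simp only [ltensorModIso, Iso.trans_hom, Functor.mapIso_hom, Iso.symm_hom, Iso.app_hom, Iso.app_inv,
          asIso_hom, Category.assoc]
        refine (Category.assoc _ _ _).symm.trans ((congrArg (· ≫ _) h₁).trans ?_)
        refine (Category.assoc _ _ _).trans (congrArg (_ ≫ ·) ?_)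
        refine (Category.assoc _ _ _).symm.trans ((congrArg (· ≫ _) h₂).trans ((Category.assoc _ _ _).trans ?_))
        exact congrArg (_ ≫ ·) h₃
      have e₂ := congrArg DerivedCategory.Q.map (totSingle_natural s G)
      have e₃ : (LTensorSheaf.ltensorCxIso (sM G) hA).inv ≫ (tens G).map (DerivedCategory.Q.map s) =
          DerivedCategory.Q.map (totMap₁ (shT X) s (sM G)) ≫ (LTensorSheaf.ltensorCxIso (sM G) hB).inv := by
        rw [Iso.inv_comp_eq, ← Category.assoc, Iso.eq_comp_inv]
        exact ProjQCoh.counit_natural (sM G) s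
      rw [Functor.map_comp, Functor.map_comp] at e₂
      simp only [τ₀, Iso.trans_hom, Functor.mapIso_hom, Iso.symm_hom, Category.assoc]
      rw [e₃, reassoc_of% e₁, reassoc_of% e₂])
  haveI : IsIso τ := by
    rw [NatTrans.isIso_iff_isIso_app]
    intro K
    obtain ⟨A, hA, ⟨e⟩⟩ := PullPerf.exists_kflat_rep K
    refine (NatTrans.isIso_app_iff_of_iso τ e).1 ?_
    rw [hτ A hA]
    infer_instance
  exact ⟨asIso τ⟩

theorem isKFlatFor_sM_invertible {P : X.Modules} (hP : PicF.IsInvertible P) : IsKFlatFor (shT X) (sM P) := by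
  refine PullPerf.isKFlatFor_of_strictlyPerfect ⟨⟨0, 0, fun i hi =>
    HomologicalComplex.isZero_single_obj_X _ _ _ _ (by omega)⟩, fun i => ?_⟩
  by_cases hi : i = 0
  · subst hi
    exact PerfTensor.isFinLocFree_of_iso (singleObjXSelf (ComplexShape.up ℤ) 0 P).symm
      (Coherent.isFinLocFree_of_invertible hP)
  · exact PerfTensor.isFinLocFree_of_isZero (HomologicalComplex.isZero_single_obj_X _ _ _ _ hi)

/-- Derived pullback of `- ⊗^L P` for invertible `P`. -/
theorem nonempty_Lpull_tens_inv (g : X ⟶ Y) [DCoh.HasLpull g] {P : Y.Modules} (hP : PicF.IsInvertible P) :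
    Nonempty (tens P ⋙ DCoh.Lpull g ≅ DCoh.Lpull g ⋙ tens ((Scheme.Modules.pullback g).obj P)) := by
  let G := (Scheme.Modules.pullback g).mapHomologicalComplex (ComplexShape.up ℤ)
  haveI := LTensorSheaf.hasLTensorCx (G.obj (sM P))
  obtain ⟨a⟩ := nonempty_Lpull_LTensor_nat g (isKFlatFor_sM_invertible hP)
  obtain ⟨b⟩ := TensorCongr.nonempty_congr (E := G.obj (sM P)) (E' := sM ((Scheme.Modules.pullback g).obj P))
    (DerivedCategory.Q.mapIso ((HomologicalComplex.singleMapHomologicalComplex (Scheme.Modules.pullback g)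
      (ComplexShape.up ℤ) 0).app P))
  exact ⟨a ≪≫ Functor.isoWhiskerLeft _ b⟩

/-- Derived pullback along the identity. -/
theorem nonempty_Lpull_id [DCoh.HasLpull (𝟙 X)] : Nonempty (DCoh.Lpull (𝟙 X) ≅ 𝟭 (DCoh.D X)) := by
  obtain ⟨a⟩ := BCSquare.nonempty_Lpull_rd (𝟙 X)
  let R := Scheme.Modules.restrictFunctor (𝟙 X)
  let i : R.mapHomologicalComplex (ComplexShape.up ℤ) ⋙ DerivedCategory.Q ≅ DerivedCategory.Q :=
    Functor.isoWhiskerRight (NatIso.mapHomologicalComplex Scheme.Modules.restrictFunctorId (ComplexShape.up ℤ) ≪≫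
      Functor.mapHomologicalComplexIdIso _ _) _ ≪≫ Functor.leftUnitor _
  letI : Localization.Lifting DerivedCategory.Q (HomologicalComplex.quasiIso X.Modules (ComplexShape.up ℤ))
      (R.mapHomologicalComplex (ComplexShape.up ℤ) ⋙ DerivedCategory.Q) (PerfLocal.rd (𝟙 X)) :=
    ⟨R.mapDerivedCategoryFactors⟩
  exact ⟨a ≪≫ Localization.liftNatIso DerivedCategory.Q (HomologicalComplex.quasiIso X.Modules (ComplexShape.up ℤ))
    (R.mapHomologicalComplex (ComplexShape.up ℤ) ⋙ DerivedCategory.Q) DerivedCategory.Q (PerfLocal.rd (𝟙 X)) (𝟭 _) i⟩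

/-- Base change as an isomorphism of functors on quasi-coherent objects. -/
theorem nonempty_bc_nat {X' Y' : Scheme.{u}} {f : X ⟶ Y} [QuasiCompact f] [QuasiSeparated f] {g : Y' ⟶ Y}
    {f' : X' ⟶ Y'} {g' : X' ⟶ X} (hsq : IsPullback g' f' f g) (hflat : Flat f ∨ Flat g) [DCoh.HasRpush f]
    [DCoh.HasLpull g] [DCoh.HasRpush f'] [DCoh.HasLpull g'] {W : Type*} [Category W] (Φ : W ⥤ DCoh.D X)
    (hΦ : ∀ w, DCoh.IsQCohD (Φ.obj w)) :
    Nonempty (Φ ⋙ DCoh.Rpush f ⋙ DCoh.Lpull g ≅ Φ ⋙ DCoh.Lpull g' ⋙ DCoh.Rpush f') := by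
  haveI := hasRpush g
  haveI := hasRpush g'
  obtain ⟨adjg⟩ := nonempty_pullPushAdj g
  obtain ⟨adjg'⟩ := nonempty_pullPushAdj g'
  obtain ⟨e⟩ := BCSquare.exists_e hsq.w
  haveI : ∀ w, IsIso ((Functor.whiskerLeft Φ (BCAlg.bc adjg adjg' e)).app w) := fun w =>
    BCMain.good_of_flat f g hsq hflat inferInstance inferInstance inferInstance inferInstance inferInstance
      inferInstance adjg adjg' e (Φ.obj w) (hΦ w)
  haveI := NatIso.isIso_of_isIso_app (Functor.whiskerLeft Φ (BCAlg.bc adjg adjg' e))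
  exact ⟨asIso (Functor.whiskerLeft Φ (BCAlg.bc adjg adjg' e))⟩

end Groth.Agent.BCFlat16
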