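import Groth.Agent.Dual22Lib.BCModule

/-!
# Base change for modules flat over the base, over rings
-/

set_option autoImplicit false
set_option backward.isDefEq.respectTransparency false
set_option backward.defeqAttrib.useBackward true
set_option linter.style.haveILetI false
set_option linter.unusedSimpArgs false
set_option synthInstance.maxHeartbeats 100000

universe u

open CategoryTheory CategoryTheory.Limits CategoryTheory.Pretriangulated DerivedCategory TensorProduct
open Groth.Agent.DCat Groth.Agent.Dual22Lib Groth.Agent.Dual22Lib.BCModule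

attribute [local instance] HasDerivedCategory.standard

namespace Groth.Agent.BCFlat16

variable {A B C D : Type u} [CommRing A] [CommRing B] [CommRing C] [CommRing D]
  (φ : A →+* B) (ψ : A →+* C) (φ' : C →+* D) (ψ' : B →+* D)

/-- An identification of the two restrictions is multiplication by a unit on modules in degree zero. -/
theorem exists_unit (e : DRing.restrictD φ' ⋙ DRing.restrictD ψ ≅ DRing.restrictD ψ' ⋙ DRing.restrictD φ) :
    ∃ w : D, IsUnit w ∧ ∀ P : ModuleCat.{u} D, ∃ v : (ModuleCat.restrictScalars.{u} ψ).obj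
        ((ModuleCat.restrictScalars.{u} φ').obj P) ⟶
        (ModuleCat.restrictScalars.{u} φ).obj ((ModuleCat.restrictScalars.{u} ψ').obj P),
      (singleFunctor _ 0).map v = (res₀ ψ _).inv ≫ (DRing.restrictD ψ).map (res₀ φ' _).inv ≫ e.hom.app _ ≫
          (DRing.restrictD φ).map (res₀ ψ' _).hom ≫ (res₀ φ _).hom ∧
        ∀ x : P, (show P from v.hom (show (ModuleCat.restrictScalars.{u} ψ).obj
          ((ModuleCat.restrictScalars.{u} φ').obj P) from x)) = w • x := by
  let eI := fun P : ModuleCat.{u} D => (res₀ ψ ((ModuleCat.restrictScalars.{u} φ').obj P)).symm ≪≫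
      (DRing.restrictD ψ).mapIso (res₀ φ' P).symm ≪≫ e.app _ ≪≫
      (DRing.restrictD φ).mapIso (res₀ ψ' P) ≪≫ res₀ φ _
  let v := fun P => (singleFunctor _ 0).preimageIso (eI P)
  have hv : ∀ (P Q : ModuleCat.{u} D) (t : P ⟶ Q), (ModuleCat.restrictScalars.{u} ψ).map
      ((ModuleCat.restrictScalars.{u} φ').map t) ≫ (v Q).hom =
      (v P).hom ≫ (ModuleCat.restrictScalars.{u} φ).map ((ModuleCat.restrictScalars.{u} ψ').map t) := by
    intro P Q t
    have h1 := e.hom.naturality ((singleFunctor (ModuleCat.{u} D) 0).map t)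
    simp only [Functor.comp_map, Functor.comp_obj] at h1
    refine (singleFunctor _ 0).map_injective ?_
    rw [Functor.map_comp, Functor.map_comp]
    simp only [v, Functor.preimageIso_hom, Functor.map_preimage, eI, Iso.trans_hom, Iso.symm_hom,
      Functor.mapIso_hom, Iso.app_hom, Functor.mapIso_inv, Category.assoc]
    have a₁ : (singleFunctor _ 0).map ((ModuleCat.restrictScalars.{u} ψ).map
        ((ModuleCat.restrictScalars.{u} φ').map t)) ≫ (res₀ ψ _).inv =
        (res₀ ψ _).inv ≫ (DRing.restrictD ψ).map ((singleFunctor _ 0).map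
          ((ModuleCat.restrictScalars.{u} φ').map t)) := by
      rw [Iso.comp_inv_eq, Category.assoc, res₀_natural, Iso.inv_hom_id_assoc]
    have a₂ : (DRing.restrictD ψ).map ((singleFunctor _ 0).map ((ModuleCat.restrictScalars.{u} φ').map t)) ≫
        (DRing.restrictD ψ).map (res₀ φ' _).inv =
        (DRing.restrictD ψ).map (res₀ φ' _).inv ≫
          (DRing.restrictD ψ).map ((DRing.restrictD φ').map ((singleFunctor _ 0).map t)) := by
      rw [← Functor.map_comp, ← Functor.map_comp]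
      congr 1
      rw [Iso.comp_inv_eq, Category.assoc, res₀_natural, Iso.inv_hom_id_assoc]
    rw [reassoc_of% a₁, reassoc_of% a₂, reassoc_of% h1, ← Functor.map_comp_assoc (DRing.restrictD φ),
      res₀_natural, Functor.map_comp_assoc, res₀_natural]
  let w : D := (v (ModuleCat.of D D)).hom (show (ModuleCat.restrictScalars.{u} ψ).obj
    ((ModuleCat.restrictScalars.{u} φ').obj (ModuleCat.of D D)) from (1 : D))
  have hmul : ∀ (P : ModuleCat.{u} D) (x : P), (show P from (v P).hom
      (show (ModuleCat.restrictScalars.{u} ψ).obj ((ModuleCat.restrictScalars.{u} φ').obj P) from x)) = w • x := by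
    intro P x
    let t : ModuleCat.of D D ⟶ P := ModuleCat.ofHom (LinearMap.toSpanSingleton D P x)
    have h := congrArg (fun m => m.hom (show (ModuleCat.restrictScalars.{u} ψ).obj
      ((ModuleCat.restrictScalars.{u} φ').obj (ModuleCat.of D D)) from (1 : D))) (hv _ _ t)
    have h1 : t.hom (1 : D) = x := one_smul D x
    refine Eq.trans ?_ h
    show (v P).hom x = (v P).hom (t.hom (1 : D))
    rw [h1]
  refine ⟨w, ?_, fun P => ⟨(v P).hom, ?_, hmul P⟩⟩
  · let x : D := (v (ModuleCat.of D D)).inv (show (ModuleCat.restrictScalars.{u} φ).obj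
      ((ModuleCat.restrictScalars.{u} ψ').obj (ModuleCat.of D D)) from (1 : D))
    refine IsUnit.of_mul_eq_one x ?_
    refine (hmul (ModuleCat.of D D) x).symm.trans ?_
    exact congrArg (fun m => m.hom (show (ModuleCat.restrictScalars.{u} φ).obj
      ((ModuleCat.restrictScalars.{u} ψ').obj (ModuleCat.of D D)) from (1 : D))) (v (ModuleCat.of D D)).inv_hom_id
  · simp [v, eI]

/-- Base change followed by the projection to degree zero is invertible at modules without higher Tor. -/
theorem isIso_theta_mod (hsq : ψ'.comp φ = φ'.comp ψ)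
    (hpush : letI := φ.toAlgebra; letI := ψ.toAlgebra; letI := φ'.toAlgebra; letI := ψ'.toAlgebra;
      letI := (ψ'.comp φ).toAlgebra
      haveI : IsScalarTower A B D := IsScalarTower.of_algebraMap_eq' rfl
      haveI : IsScalarTower A C D := IsScalarTower.of_algebraMap_eq' hsq
      Algebra.IsPushout A B C D)
    [DRing.HasLBaseChange φ] [DRing.HasLBaseChange φ']
    (M : ModuleCat.{u} C) (htor : TorZero φ ((ModuleCat.restrictScalars.{u} ψ).obj M))
    (adj : DRing.LBaseChange φ ⊣ DRing.restrictD φ) (adj' : DRing.LBaseChange φ' ⊣ DRing.restrictD φ')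
    (e : DRing.restrictD φ' ⋙ DRing.restrictD ψ ≅ DRing.restrictD ψ' ⋙ DRing.restrictD φ)
    (N₀ : ModuleCat.{u} D) (κ : (DRing.LBaseChange φ').obj ((singleFunctor _ 0).obj M) ⟶ (singleFunctor _ 0).obj N₀)
    (hκ : ∀ Z : ModuleCat.{u} D,
      Function.Bijective (fun t : (singleFunctor _ 0).obj N₀ ⟶ (singleFunctor _ 0).obj Z => κ ≫ t)) :
    IsIso ((BCAlg.bc adj adj' e).app ((singleFunctor _ 0).obj M) ≫ (DRing.restrictD ψ').map κ) := by
  letI := φ.toAlgebra
  letI := ψ.toAlgebra
  letI := φ'.toAlgebra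
  letI := ψ'.toAlgebra
  letI := (ψ'.comp φ).toAlgebra
  haveI : IsScalarTower A B D := IsScalarTower.of_algebraMap_eq' rfl
  haveI : IsScalarTower A C D := IsScalarTower.of_algebraMap_eq' hsq
  let SM := (singleFunctor (ModuleCat.{u} C) 0).obj M
  obtain ⟨M₀, ⟨i⟩⟩ : ∃ M₀ : ModuleCat.{u} B,
      Nonempty ((DRing.LBaseChange φ).obj ((DRing.restrictD ψ).obj SM) ≅ (singleFunctor _ 0).obj M₀) := by
    obtain ⟨M₀, ⟨i⟩⟩ := exists_single_lbaseChange φ _ htor
    exact ⟨M₀, ⟨(DRing.LBaseChange φ).mapIso (res₀ ψ _) ≪≫ i⟩⟩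
  obtain ⟨w, hw, hv⟩ := exists_unit φ ψ φ' ψ' e
  obtain ⟨v, hv₀, hvw⟩ := hv N₀
  let N₁ : ModuleCat.{u} B := (ModuleCat.restrictScalars.{u} ψ').obj N₀
  obtain ⟨u₁, hu₁⟩ : ∃ u₁ : M ⟶ (ModuleCat.restrictScalars.{u} φ').obj N₀,
      (singleFunctor _ 0).map u₁ = adj'.unit.app SM ≫ (DRing.restrictD φ').map κ ≫ (res₀ φ' _).hom :=
    (singleFunctor _ 0).map_surjective _
  let k : (ModuleCat.restrictScalars.{u} ψ).obj M ⟶ (ModuleCat.restrictScalars.{u} φ).obj N₁ :=
    (ModuleCat.restrictScalars.{u} ψ).map u₁ ≫ v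
  have hk : (DRing.restrictD ψ).map (adj'.unit.app SM) ≫ e.hom.app _ ≫
      (DRing.restrictD φ).map ((DRing.restrictD ψ').map κ ≫ (res₀ ψ' _).hom) =
      (res₀ ψ _).hom ≫ (singleFunctor _ 0).map k ≫ (res₀ φ _).inv := by
    rw [Functor.map_comp, Functor.map_comp, hv₀]
    simp only [Category.assoc, Iso.hom_inv_id, Category.comp_id]
    rw [← reassoc_of% (res₀_natural ψ u₁), hu₁, Iso.hom_inv_id_assoc, Functor.map_comp, Functor.map_comp,
      Category.assoc, Category.assoc, ← Functor.map_comp_assoc (DRing.restrictD ψ) (res₀ φ' _).hom, Iso.hom_inv_id,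
      CategoryTheory.Functor.map_id, Category.id_comp]
    have h1 := e.hom.naturality κ
    simp only [Functor.comp_map, Functor.comp_obj] at h1
    rw [reassoc_of% h1]
    erw [Iso.hom_inv_id, Category.comp_id]
  -- `u₁` is universal
  have hu : ∀ (Z : ModuleCat.{u} D) (g : M ⟶ (ModuleCat.restrictScalars.{u} φ').obj Z),
      ∃! t : N₀ ⟶ Z, u₁ ≫ (ModuleCat.restrictScalars.{u} φ').map t = g := by
    intro Z g
    have hb := hκ Z
    have hkey : ∀ t : N₀ ⟶ Z, adj'.homEquiv _ _ (κ ≫ (singleFunctor _ 0).map t) =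
        (singleFunctor _ 0).map (u₁ ≫ (ModuleCat.restrictScalars.{u} φ').map t) ≫ (res₀ φ' Z).inv := by
      intro t
      rw [adj'.homEquiv_unit, Functor.map_comp, Functor.map_comp, hu₁]
      simp only [Category.assoc]
      rw [← reassoc_of% (res₀_natural φ' t), Iso.hom_inv_id, Category.comp_id]
    obtain ⟨φ₁, hφ₁⟩ := hb.2 ((adj'.homEquiv _ _).symm ((singleFunctor _ 0).map g ≫ (res₀ φ' Z).inv))
    obtain ⟨t, rfl⟩ := (singleFunctor (ModuleCat.{u} D) 0).map_surjective φ₁
    refine ⟨t, ?_, fun t' ht' => ?_⟩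
    · refine (singleFunctor _ 0).map_injective ((cancel_mono (res₀ φ' Z).inv).1 ?_)
      rw [← hkey]
      exact ((adj'.homEquiv _ _).eq_symm_apply).1 hφ₁
    · refine (singleFunctor _ 0).map_injective (hb.1 ((adj'.homEquiv _ _).injective ?_))
      rw [hkey, ht', ← Equiv.apply_symm_apply (adj'.homEquiv _ _) ((singleFunctor _ 0).map g ≫ (res₀ φ' Z).inv)]
      exact congrArg _ hφ₁.symm
  -- hence a base change along `φ'`, and along `φ`
  let T : ModuleCat.{u} D := ModuleCat.of D (D ⊗[C] M)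
  let e₁ : M ⟶ (ModuleCat.restrictScalars.{u} φ').obj T := ModuleCat.ofHom
    (Y := (ModuleCat.restrictScalars.{u} φ').obj T)
    { toFun := fun m => ((1 : D) ⊗ₜ[C] m : D ⊗[C] M)
      map_add' := fun x y => TensorProduct.tmul_add (1 : D) x y
      map_smul' := fun c x => (TensorProduct.tmul_smul c (1 : D) x).trans
        (IsScalarTower.algebraMap_smul D c ((1 : D) ⊗ₜ[C] x)).symm }
  obtain ⟨a, ha, -⟩ := hu T e₁
  have ha' : ∀ m : M, (show D ⊗[C] M from a.hom (u₁.hom m)) = (1 : D) ⊗ₜ[C] m := fun m =>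
    congrArg (fun f => f.hom m) ha
  letI : Module C N₀ := Module.compHom N₀ φ'
  haveI : IsScalarTower C D N₀ := IsScalarTower.of_algebraMap_smul fun _ _ => rfl
  letI : Module B N₀ := Module.compHom N₀ ψ'
  haveI : IsScalarTower B D N₀ := IsScalarTower.of_algebraMap_smul fun _ _ => rfl
  let uLin : M →ₗ[C] N₀ :=
    { toFun := fun m => (show N₀ from u₁.hom m)
      map_add' := fun x y => u₁.hom.map_add x y
      map_smul' := fun c x => u₁.hom.map_smul c x }
  let bLin : D ⊗[C] M →ₗ[D] N₀ := uLin.liftBaseChange D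
  have hbl : ∀ (d : D) (m : M), bLin (d ⊗ₜ[C] m) = d • uLin m := fun d m =>
    LinearMap.liftBaseChange_tmul ..
  have ha' : ∀ m : M, a.hom (uLin m) = (show T from (1 : D) ⊗ₜ[C] m) := ha'
  have hab : bLin.comp a.hom = LinearMap.id := by
    obtain ⟨t, -, hu₂⟩ := hu N₀ u₁
    have h1 : ModuleCat.ofHom (bLin.comp a.hom) = t := hu₂ _ (ModuleCat.hom_ext (LinearMap.ext fun m => by
      show bLin (a.hom (uLin m)) = uLin m
      rw [ha']
      exact (hbl 1 m).trans (one_smul D _)))
    have h2 : 𝟙 N₀ = t := hu₂ _ (by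
      show u₁ ≫ (ModuleCat.restrictScalars φ').map (𝟙 N₀) = u₁
      rw [CategoryTheory.Functor.map_id, Category.comp_id])
    exact congrArg ModuleCat.Hom.hom (h1.trans h2.symm)
  let cb : D ⊗[C] M ≃ₗ[B] B ⊗[A] ((ModuleCat.restrictScalars.{u} ψ).obj M) :=
    letI : Module A M := Module.compHom M ψ
    haveI : IsScalarTower A C M := IsScalarTower.of_algebraMap_smul fun _ _ => rfl
    Algebra.IsPushout.cancelBaseChange A B C D M
  obtain ⟨wu, hwu⟩ := hw
  have hkm : ∀ m : M, (show N₀ from k.hom m) = w • uLin m := fun m => hvw _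
  have hcb : ∀ m : M, cb ((1 : D) ⊗ₜ[C] m) = (1 : B) ⊗ₜ[A] (show (ModuleCat.restrictScalars.{u} ψ).obj M from m) := fun m =>
    letI : Module A M := Module.compHom M ψ
    haveI : IsScalarTower A C M := IsScalarTower.of_algebraMap_smul fun _ _ => rfl
    Algebra.IsPushout.cancelBaseChange_tmul A B C D M m
  suffices h : IsIso (i.inv ≫ (BCAlg.bc adj adj' e).app SM ≫ (DRing.restrictD ψ').map κ ≫ (res₀ ψ' _).hom) by
    rwa [isIso_comp_left_iff, ← Category.assoc, isIso_comp_right_iff] at h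
  obtain ⟨b₀, hb₀⟩ := (singleFunctor (ModuleCat.{u} B) 0).map_surjective
    (i.inv ≫ (BCAlg.bc adj adj' e).app SM ≫ (DRing.restrictD ψ').map κ ≫ (res₀ ψ' _).hom)
  rw [← hb₀]
  suffices h : IsIso b₀ by infer_instance
  have key : ∀ {Z : ModuleCat.{u} B} (s : N₁ ⟶ Z),
      adj.homEquiv _ _ ((i.hom ≫ (singleFunctor _ 0).map (b₀ ≫ s))) =
        (res₀ ψ _).hom ≫ (singleFunctor _ 0).map (k ≫ (ModuleCat.restrictScalars.{u} φ).map s) ≫ (res₀ φ _).inv := by
    intro Z s
    rw [Functor.map_comp, hb₀]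
    simp only [Category.assoc, Iso.hom_inv_id_assoc]
    rw [← Category.assoc ((DRing.restrictD ψ').map κ)]
    refine (adj.homEquiv_naturality_right _ _).trans ?_
    refine (congrArg (· ≫ _) (BCAlg.unit_bc adj adj' e SM)).trans ?_
    rw [Functor.map_comp, Category.assoc, reassoc_of% hk]
    have hs : (res₀ φ N₁).inv ≫ (DRing.restrictD φ).map ((singleFunctor _ 0).map s) =
        (singleFunctor _ 0).map ((ModuleCat.restrictScalars.{u} φ).map s) ≫ (res₀ φ Z).inv := by
      rw [Iso.inv_comp_eq, ← Category.assoc, ← res₀_natural, Category.assoc, Iso.hom_inv_id, Category.comp_id]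
    rw [hs]
    simp only [Functor.map_comp, Category.assoc]
  refine (isIso_iff_coyoneda_map_bijective b₀).2 fun Z => ?_
  refine ⟨fun s s' hs => ?_, fun g => ?_⟩
  · have h1 := congrArg (fun t => adj.homEquiv _ _ (i.hom ≫ (singleFunctor _ 0).map t)) hs
    simp only [key, cancel_epi, cancel_mono] at h1
    have h2 := (singleFunctor _ 0).map_injective h1
    letI : Module A Z := Module.compHom Z φ
    haveI : IsScalarTower A B Z := ⟨fun a b z => mul_smul (φ a) b z⟩
    let R₁ : B ⊗[A] ((ModuleCat.restrictScalars.{u} ψ).obj M) →ₗ[B] N₀ :=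
      (((wu : D) • bLin).restrictScalars B) ∘ₗ cb.symm.toLinearMap
    have hR : ∀ m : M, R₁ ((1 : B) ⊗ₜ[A] (show (ModuleCat.restrictScalars.{u} ψ).obj M from m)) =
        (show N₀ from k.hom m) := fun m => by
      rw [← hcb]
      show (wu : D) • bLin (cb.symm (cb ((1 : D) ⊗ₜ[C] m))) = _
      rw [LinearEquiv.symm_apply_apply, hbl, one_smul, hkm, hwu]
    let sL : N₀ →ₗ[B] Z := s.hom
    let sL' : N₀ →ₗ[B] Z := s'.hom
    have h3 : sL ∘ₗ R₁ = sL' ∘ₗ R₁ := by
      refine TensorProduct.AlgebraTensorModule.ext fun b m => ?_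
      have h4 : sL (show N₀ from k.hom m) = sL' (show N₀ from k.hom m) := congrArg (fun f => f.hom m) h2
      have hb1 : b ⊗ₜ[A] m = b • ((1 : B) ⊗ₜ[A] m) := by rw [TensorProduct.smul_tmul', smul_eq_mul, mul_one]
      rw [hb1, map_smul, map_smul]
      refine congrArg (b • ·) ?_
      show sL (R₁ (1 ⊗ₜ[A] m)) = sL' (R₁ (1 ⊗ₜ[A] m))
      rw [show R₁ ((1 : B) ⊗ₜ[A] m) = (show N₀ from k.hom m) from hR m]
      exact h4
    refine ModuleCat.hom_ext (LinearMap.ext fun x => ?_)
    let x₀ : N₀ := ((↑wu⁻¹ : D)) • (show N₀ from x)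
    have hx : R₁ (cb (a.hom x₀)) = (show N₀ from x) := by
      show (wu : D) • bLin (cb.symm (cb (a.hom x₀))) = _
      rw [LinearEquiv.symm_apply_apply, show bLin (a.hom x₀) = x₀ from LinearMap.congr_fun hab x₀]
      simp [x₀, smul_smul]
    have h6 := LinearMap.congr_fun h3 (cb (a.hom x₀))
    exact (congrArg sL hx).symm.trans (h6.trans (congrArg sL' hx))
  · obtain ⟨g', hg'⟩ := (singleFunctor _ 0).map_surjective
      ((res₀ ψ _).inv ≫ adj.homEquiv _ _ (i.hom ≫ (singleFunctor _ 0).map g) ≫ (res₀ φ _).hom)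
    letI : Module A Z := Module.compHom Z φ
    haveI : IsScalarTower A B Z := ⟨fun a b z => mul_smul (φ a) b z⟩
    let G : B ⊗[A] ((ModuleCat.restrictScalars.{u} ψ).obj M) →ₗ[B] Z := LinearMap.liftBaseChange B
      (LinearMap.mk
        { toFun := fun m => (show Z from g'.hom m)
          map_add' := fun x y => g'.hom.map_add x y }
        fun c x => g'.hom.map_smul c x : ((ModuleCat.restrictScalars.{u} ψ).obj M) →ₗ[A] Z)
    let tL : N₀ →ₗ[B] Z := (G ∘ₗ cb.toLinearMap) ∘ₗ ((↑wu⁻¹ : D) • a.hom).restrictScalars B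
    let t : N₁ ⟶ Z := ModuleCat.ofHom (X := N₁) (Y := Z)
      { toFun := fun x => tL (show N₀ from x)
        map_add' := fun x y => tL.map_add x y
        map_smul' := fun b x => tL.map_smul b x }
    refine ⟨t, ?_⟩
    refine (singleFunctor _ 0).map_injective ((cancel_epi i.hom).1 ((adj.homEquiv _ _).injective ?_))
    rw [key]
    rw [show k ≫ (ModuleCat.restrictScalars.{u} φ).map t = g' from ModuleCat.hom_ext (LinearMap.ext fun m => by
      show tL (show N₀ from k.hom m) = g'.hom m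
      rw [hkm, ← hwu]
      show G (cb ((↑wu⁻¹ : D) • a.hom ((wu : D) • uLin m))) = g'.hom m
      rw [map_smul a.hom, smul_smul, Units.inv_mul, one_smul, ha']
      exact (congrArg G (hcb m)).trans ((LinearMap.liftBaseChange_tmul ..).trans (one_smul B _)))]
    simp [hg']
    rfl

end Groth.Agent.BCFlat16
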