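import Groth.Agent.BCFlat16.Squares
import Groth.Agent.BCFlat16.Alg
import Groth.Agent.DQCoh.TildePush
import Groth.Agent.DQCoh.RelTor
import Groth.Agent.DQCoh.FlatAdm17
import Groth.Agent.AffSchLib.TildeExact
import Groth.Agent.Desc19b.FlatOverBC

/-!
# Base change for modules flat over the base: affine schemes
-/

set_option autoImplicit false
set_option backward.isDefEq.respectTransparency false
set_option backward.defeqAttrib.useBackward true
set_option linter.style.haveILetI false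
set_option linter.unusedSectionVars false
set_option synthInstance.maxHeartbeats 100000

universe u

open CategoryTheory CategoryTheory.Limits CategoryTheory.Pretriangulated AlgebraicGeometry DerivedCategory
open Groth.Agent.DCat Groth.Agent.DCat.PerfLocal Groth.Agent.Dual22Lib Groth.Agent.Dual22Lib.BCSquare
open Groth.Agent.DQCoh

attribute [local instance] HasDerivedCategory.standard
attribute [local instance] Groth.Agent.AffSchLib.preservesFiniteLimits_tilde

namespace Groth.Agent.BCFlat16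

variable {A B C D : CommRingCat.{u}} (φ : A ⟶ B) (ψ : A ⟶ C) (φ' : C ⟶ D) (ψ' : B ⟶ D)

/-- Base change at a module with no higher Tor against the base. -/
theorem g1_spec (hpo : IsPushout φ ψ ψ' φ') (M : ModuleCat.{u} C)
    (htor : BCModule.TorZero φ.hom ((ModuleCat.restrictScalars.{u} ψ.hom).obj M)) :
    G1 (Spec.map ψ) (Spec.map φ) (Spec.map ψ') (Spec.map φ') ((tilde.functor C).obj M) := by
  intro _ _ _ _ _ _ adj adj' e N κ hκ
  haveI : DRing.HasLBaseChange φ.hom := DCat.hasLBaseChange φ.hom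
  haveI : DRing.HasLBaseChange φ'.hom := DCat.hasLBaseChange φ'.hom
  have ff : ∀ R : CommRingCat.{u}, Nonempty (DCoh.tildeD R).FullyFaithful := fun R => by
    obtain ⟨h₁, h₂, -⟩ := tildeD_main R
    exact ⟨Functor.FullyFaithful.ofFullyFaithful _⟩
  obtain ⟨fA⟩ := ff A
  obtain ⟨fB⟩ := ff B
  obtain ⟨fC⟩ := ff C
  obtain ⟨fD⟩ := ff D
  obtain ⟨cF⟩ := nonempty_tildeD_Rpush ψ
  obtain ⟨cF'⟩ := nonempty_tildeD_Rpush ψ'
  obtain ⟨cR⟩ := nonempty_tildeD_Rpush φ
  obtain ⟨cR'⟩ := nonempty_tildeD_Rpush φ'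
  obtain ⟨cL⟩ := nonempty_LBaseChange_tildeD φ
  obtain ⟨cL'⟩ := nonempty_LBaseChange_tildeD φ'
  let sC := ((tilde.functor C).mapDerivedCategorySingleFunctor 0).app M
  let SM := (singleFunctor (ModuleCat.{u} C) 0).obj M
  haveI := hκ.geN
  haveI := hκ.leN
  obtain ⟨P, ⟨iP⟩⟩ := exists_iso_singleFunctor_obj_of_isGE_of_isLE N 0
  have hP : Coh.IsQCoh P := by
    haveI := isQCoh_tilde M
    exact Coherent.isQCoh_of_iso (((homologyFunctor _ 0).mapIso iP) ≪≫
      (singleFunctorCompHomologyFunctorIso _ 0).app P)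
      (h := hκ.isQCohD (isQCohD_Lpull _ _ (FlatBC14.isQCohD_inD _)) 0)
  let N₀ : ModuleCat.{u} D := (moduleSpecΓFunctor (R := D)).obj P
  haveI : IsIso P.fromTildeΓ := (isQuasicoherent_iff_isIso_fromTildeΓ _).1 hP
  let iN : N ≅ (DCoh.tildeD D).obj ((singleFunctor (ModuleCat.{u} D) 0).obj N₀) :=
    iP ≪≫ (singleFunctor _ 0).mapIso (asIso P.fromTildeΓ).symm ≪≫
      (((tilde.functor D).mapDerivedCategorySingleFunctor 0).app N₀).symm
  let κ₁ : (DCoh.tildeD D).obj ((DRing.LBaseChange φ'.hom).obj SM) ⟶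
      (DCoh.tildeD D).obj ((singleFunctor (ModuleCat.{u} D) 0).obj N₀) :=
    cL'.hom.app SM ≫ (DCoh.Lpull (Spec.map φ')).map sC.hom ≫ κ ≫ iN.hom
  let κ₀ := fD.preimage κ₁
  have hκ₁ : Tr 0 κ₁ := ((hκ.comp_iso iN.hom).precomp _).precomp _
  have hb : ∀ Z : ModuleCat.{u} D, Function.Bijective
      (fun t : (singleFunctor _ 0).obj N₀ ⟶ (singleFunctor _ 0).obj Z => κ₀ ≫ t) := by
    intro Z
    haveI : ((DCoh.tildeD D).obj ((singleFunctor (ModuleCat.{u} D) 0).obj Z)).IsGE 0 :=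
      @Triangulated.TStructure.isGE_of_iso _ _ _ _ _ _ _ TStructure.t _ _
        (((tilde.functor D).mapDerivedCategorySingleFunctor 0).app Z).symm 0
        (inferInstanceAs (((singleFunctor (Spec D).Modules 0).obj ((tilde.functor D).obj Z)).IsGE 0))
    refine ((fD.map_bijective _ _).of_comp_iff' _).1 ?_
    have h : (DCoh.tildeD D).map ∘ (fun t : (singleFunctor _ 0).obj N₀ ⟶ (singleFunctor _ 0).obj Z => κ₀ ≫ t) =
        (fun t => κ₁ ≫ t) ∘ (DCoh.tildeD D).map := funext fun t => by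
      simp [κ₀]
    rw [h]
    exact (hκ₁.bijective _).comp (fD.map_bijective _ _)
  have key : (DCoh.Lpull (Spec.map φ')).map sC.hom ≫ κ ≫ iN.hom =
      cL'.symm.hom.app SM ≫ (DCoh.tildeD D).map κ₀ := by
    simp [κ₀, κ₁]
  have h : IsIso ((BCAlg.bc adj adj' e).app ((DCoh.tildeD C).obj SM) ≫ (DCoh.Rpush (Spec.map ψ')).map
      (cL'.symm.hom.app SM ≫ (DCoh.tildeD D).map κ₀)) := by
    refine (isIso_theta_conj_iff fC fD fA fB adj adj' cF cF' cL.symm cR cL'.symm cR' e SM κ₀).2 ?_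
    have hsq : ψ'.hom.comp φ.hom = φ'.hom.comp ψ.hom := congrArg CommRingCat.Hom.hom hpo.w
    refine isIso_theta_mod φ.hom ψ.hom φ'.hom ψ'.hom hsq ?_ M htor _ _ _ N₀ κ₀ hb
    letI := φ.hom.toAlgebra
    letI := ψ.hom.toAlgebra
    letI := φ'.hom.toAlgebra
    letI := ψ'.hom.toAlgebra
    letI := (ψ'.hom.comp φ.hom).toAlgebra
    haveI : IsScalarTower A B D := IsScalarTower.of_algebraMap_eq' rfl
    haveI : IsScalarTower A C D := IsScalarTower.of_algebraMap_eq' hsq
    exact CommRingCat.isPushout_iff_isPushout.1 hpo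
  rw [← key] at h
  have hn := (BCAlg.bc adj adj' e).naturality sC.hom
  dsimp at hn
  rw [Functor.map_comp, ← reassoc_of% hn, isIso_comp_left_iff, Functor.map_comp, ← Category.assoc,
    isIso_comp_right_iff] at h
  exact h

/-- Base change for a flat module on an affine scheme over an affine base. -/
theorem g1_affine {X' : Scheme.{u}} {f' : X' ⟶ Spec B} {g' : X' ⟶ Spec C}
    (hsq : IsPullback g' f' (Spec.map ψ) (Spec.map φ)) (M : (Spec C).Modules) (hM : Coh.IsQCoh M)
    (hfl : FlatMod.IsFlatOver (Spec.map ψ) M) : G1 (Spec.map ψ) (Spec.map φ) f' g' M := by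
  haveI : IsIso M.fromTildeΓ := (isQuasicoherent_iff_isIso_fromTildeΓ _).1 hM
  let N := (moduleSpecΓFunctor (R := C)).obj M
  refine G1.of_iso (M := (tilde.functor C).obj N) (asIso M.fromTildeΓ) ?_
  haveI hfN : Module.Flat A ((ModuleCat.restrictScalars.{u} ψ.hom).obj N) :=
    flat_of_isFlatOver_tilde ψ N (FlatAdm17.flatOver_of_iso _ (asIso M.fromTildeΓ).symm hfl)
  have htor := BCTor.torZero_of_flat_right φ.hom ((ModuleCat.restrictScalars.{u} ψ.hom).obj N)
  have hpo : IsPushout φ ψ (pushout.inl φ ψ) (pushout.inr φ ψ) := IsPushout.of_hasPushout φ ψ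
  have hpb : IsPullback (Spec.map (pushout.inr φ ψ)) (Spec.map (pushout.inl φ ψ)) (Spec.map ψ) (Spec.map φ) :=
    (isPullback_SpecMap_of_isPushout _ _ _ _ hpo).flip
  let i := hpb.isoIsPullback _ _ hsq
  intro _ _ _ _ _ _ adj adj' e P κ hκ
  haveI := hasLpull (𝟙 (Spec B))
  have hid : IsPullback i.hom (Spec.map (pushout.inl φ ψ)) f' (𝟙 (Spec B)) :=
    IsPullback.of_horiz_isIso ⟨by simp [i]⟩
  haveI := isIso_map_theta_of_comp (Category.id_comp _) (hpb.isoIsPullback_hom_fst _ _ hsq) hid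
    (isQCoh_tilde N) (g1_spec φ ψ (pushout.inr φ ψ) (pushout.inl φ ψ) hpo N htor) adj adj' e κ hκ
  exact BCAffine.isIso_of_Lpull_id _

end Groth.Agent.BCFlat16
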