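import Groth.Agent.BCFlat16.Trunc
import Groth.Agent.DCat.LPull
import Groth.Agent.DCat.PullPerf

/-!
# The counit of derived pullback at a single module
-/

set_option autoImplicit false
set_option backward.isDefEq.respectTransparency false
set_option backward.defeqAttrib.useBackward true
set_option linter.style.haveILetI false
set_option synthInstance.maxHeartbeats 100000

universe u

open CategoryTheory CategoryTheory.Limits CategoryTheory.Pretriangulated AlgebraicGeometry DerivedCategory
open Groth.Agent.DCat

attribute [local instance] HasDerivedCategory.standard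
attribute [-instance] Int.instConditionallyCompleteLinearOrder

namespace Groth.Agent.BCFlat16

variable {X Y : Scheme.{u}} (g : X ⟶ Y) [DCoh.HasLpull g]

/-- The single complex in the homotopy category. -/
noncomputable abbrev sgl (n : ℤ) (M : Y.Modules) : HomotopyCategory Y.Modules (ComplexShape.up ℤ) :=
  (HomotopyCategory.quotient Y.Modules (ComplexShape.up ℤ)).obj
    ((HomologicalComplex.single Y.Modules (ComplexShape.up ℤ) n).obj M)

/-- The counit of `Lg^*`. -/
noncomputable abbrev lcounit : DerivedCategory.Qh ⋙ DCoh.Lpull g ⟶ DCoh.pullKh g :=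
  (DCoh.pullKh g).totalLeftDerivedCounit DerivedCategory.Qh (HomotopyCategory.quasiIso Y.Modules (ComplexShape.up ℤ))

/-- Pullback preserves being a quasi-isomorphism in the top degree. -/
theorem quasiIsoAt_pullback_top {K L : CochainComplex Y.Modules ℤ} (c : K ⟶ L) (n : ℤ)
    (hK : IsZero (K.X (n + 1))) (hL₁ : IsZero (L.X (n + 1))) (hL₀ : IsZero (L.X (n - 1))) [QuasiIsoAt c n] :
    QuasiIsoAt (((Scheme.Modules.pullback g).mapHomologicalComplex (ComplexShape.up ℤ)).map c) n := by
  let G := Scheme.Modules.pullback g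
  have hc := (quasiIsoAt_iff' c (n - 1) n (n + 1) (by simp) (by simp)).1 ‹_›
  rw [ShortComplex.quasiIso_iff_of_zeros' _ (hK.eq_of_tgt _ _) (hL₀.eq_of_src _ _) (hL₁.eq_of_tgt _ _)] at hc
  obtain ⟨hex, hepi⟩ := hc
  refine (quasiIsoAt_iff' _ (n - 1) n (n + 1) (by simp) (by simp)).2 ?_
  rw [ShortComplex.quasiIso_iff_of_zeros' _ ((G.map_isZero hK).eq_of_tgt _ _) ((G.map_isZero hL₀).eq_of_src _ _)
    ((G.map_isZero hL₁).eq_of_tgt _ _)]
  haveI : Epi (c.f n) := hepi
  haveI : G.IsLeftAdjoint := (Scheme.Modules.pullbackPushforwardAdjunction g).isLeftAdjoint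
  refine ⟨ShortComplex.exact_of_g_is_cokernel _ ?_, show Epi (G.map (c.f n)) from inferInstance⟩
  haveI : Epi (ShortComplex.mk (K.d (n - 1) n) (c.f n) (by rw [← c.comm, hL₀.eq_of_src (L.d _ _) 0, comp_zero])).g := hepi
  exact CokernelCofork.mapIsColimit _ hex.gIsCokernel G

/-- The counit at a single module is the projection to the top homology. -/
theorem tr_lcounit (n : ℤ) (M : Y.Modules) : Tr n ((lcounit g).app (sgl n M)) := by
  let S := (HomologicalComplex.single Y.Modules (ComplexShape.up ℤ) n).obj M
  let q := HomotopyCategory.quotient Y.Modules (ComplexShape.up ℤ)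
  obtain ⟨N, c, hN, -, hc, hb⟩ := exists_kflat_sheaf_le S n fun i hi =>
    HomologicalComplex.isZero_single_obj_X _ _ _ _ (by omega)
  haveI := hc
  haveI : IsIso ((lcounit g).app (q.obj N)) :=
    isIso_counit_of_mem exists_kflat_hot (isIso_pullKh_of_kflat g) (lcounit g) hN
  haveI : IsIso (DerivedCategory.Qh.map (q.map c)) := Localization.inverts _ _ _
    ((HomotopyCategory.quotient_map_mem_quasiIso_iff c).2 ((HomologicalComplex.mem_quasiIso_iff _).2 hc))
  let G := (Scheme.Modules.pullback g).mapHomologicalComplex (ComplexShape.up ℤ)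
  let iN := (DerivedCategory.quotientCompQhIso X.Modules).app (G.obj N)
  let iS := (DerivedCategory.quotientCompQhIso X.Modules).app (G.obj S)
  have hGc : Tr n (DerivedCategory.Q.map (G.map c)) := by
    haveI : CochainComplex.IsStrictlyLE (G.obj N) n := (CochainComplex.isStrictlyLE_iff _ n).2 fun i hi =>
      (Scheme.Modules.pullback g).map_isZero (hb i hi)
    haveI : CochainComplex.IsStrictlyLE (G.obj S) n := (CochainComplex.isStrictlyLE_iff _ n).2 fun i hi =>
      (Scheme.Modules.pullback g).map_isZero (HomologicalComplex.isZero_single_obj_X _ _ _ _ (by omega))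
    haveI : CochainComplex.IsStrictlyGE (G.obj S) n := (CochainComplex.isStrictlyGE_iff _ n).2 fun i hi =>
      (Scheme.Modules.pullback g).map_isZero (HomologicalComplex.isZero_single_obj_X _ _ _ _ (by omega))
    refine ⟨inferInstance, inferInstance, inferInstance, ?_⟩
    haveI := quasiIsoAt_pullback_top g c n (hb (n + 1) (by omega))
      (HomologicalComplex.isZero_single_obj_X (ComplexShape.up ℤ) n M _ (by omega))
      (HomologicalComplex.isZero_single_obj_X (ComplexShape.up ℤ) n M _ (by omega))
    haveI : IsIso ((HomologicalComplex.homologyFunctor X.Modules (ComplexShape.up ℤ) n).map (G.map c)) :=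
      (quasiIsoAt_iff_isIso_homologyMap _ _).1 ‹_›
    exact (NatIso.isIso_map_iff (DerivedCategory.homologyFunctorFactors X.Modules n) (G.map c)).2 ‹_›
  have key : (lcounit g).app (q.obj S) = inv ((DCoh.Lpull g).map (DerivedCategory.Qh.map (q.map c))) ≫
      ((lcounit g).app (q.obj N) ≫ iN.hom) ≫ DerivedCategory.Q.map (G.map c) ≫ iS.inv := by
    rw [IsIso.eq_inv_comp]
    refine ((lcounit g).naturality (q.map c)).trans ?_
    rw [Category.assoc]
    congr 1
  show Tr n ((lcounit g).app (q.obj S))
  rw [key]
  exact ((hGc.comp_iso iS.inv).precomp _).precomp _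

end Groth.Agent.BCFlat16
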