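import Groth.Agent.BCFlat16.Squares
import Groth.Agent.BCFlat16.Counit
import Groth.Agent.DQCoh.AcyclicPush
import Groth.Agent.Dual22Lib.RdComp
import Groth.Agent.HTor16.FlatBCExact

/-!
# Base change for complexes of modules flat over the base
-/

set_option autoImplicit false
set_option backward.isDefEq.respectTransparency false
set_option backward.defeqAttrib.useBackward true
set_option linter.style.haveILetI false
set_option linter.unusedSectionVars false
set_option synthInstance.maxHeartbeats 100000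

universe u

open CategoryTheory CategoryTheory.Limits CategoryTheory.Pretriangulated AlgebraicGeometry DerivedCategory
open Groth.Agent.DCat Groth.Agent.DCat.PerfLocal Groth.Agent.Dual22Lib Groth.Agent.Dual22Lib.WeakExact

attribute [local instance] HasDerivedCategory.standard
attribute [-instance] Int.instConditionallyCompleteLinearOrder

namespace Groth.Agent.BCFlat16

section Shift

variable {A : Type*} [Category A] [Abelian A] [HasDerivedCategory A]

theorem Tr.shift {n : ℤ} {K N : DerivedCategory A} {κ : K ⟶ N} (h : Tr n κ) (a m : ℤ) (hm : a + m = n) :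
    Tr m (κ⟦a⟧') := by
  obtain ⟨hle, hge, hleN, hiso⟩ := h
  refine ⟨TStructure.t.isLE_shift K n a m hm, TStructure.t.isGE_shift N n a m hm,
    TStructure.t.isLE_shift N n a m hm, ?_⟩
  haveI : IsIso ((((homologyFunctor A 0).shift n)).map κ) := hiso
  exact (NatIso.isIso_map_iff ((homologyFunctor A 0).shiftIso a m n hm) κ).2 hiso

end Shift

variable {X Y X' Y' : Scheme.{u}}

/-- The unique comparison for the complexes: base change followed by the counit. -/
noncomputable def tau (f : X ⟶ Y) (g : Y' ⟶ Y) (f' : X' ⟶ Y') (g' : X' ⟶ X)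
    [DCoh.HasRpush f] [DCoh.HasRpush g] [DCoh.HasLpull g] [DCoh.HasRpush f'] [DCoh.HasRpush g'] [DCoh.HasLpull g']
    (adjg : DCoh.Lpull g ⊣ DCoh.Rpush g) (adjg' : DCoh.Lpull g' ⊣ DCoh.Rpush g')
    (e : DCoh.Rpush g' ⋙ DCoh.Rpush f ≅ DCoh.Rpush f' ⋙ DCoh.Rpush g) :
    DerivedCategory.Qh ⋙ (DCoh.Rpush f ⋙ DCoh.Lpull g) ⟶ DCoh.pullKh g' ⋙ DCoh.Rpush f' :=
  Functor.whiskerLeft DerivedCategory.Qh (BCAlg.bc adjg adjg' e) ≫ (Functor.associator _ _ _).inv ≫
    Functor.whiskerRight (lcounit g') (DCoh.Rpush f')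

theorem tau_app (f : X ⟶ Y) (g : Y' ⟶ Y) (f' : X' ⟶ Y') (g' : X' ⟶ X)
    [DCoh.HasRpush f] [DCoh.HasRpush g] [DCoh.HasLpull g] [DCoh.HasRpush f'] [DCoh.HasRpush g'] [DCoh.HasLpull g']
    (adjg : DCoh.Lpull g ⊣ DCoh.Rpush g) (adjg' : DCoh.Lpull g' ⊣ DCoh.Rpush g')
    (e : DCoh.Rpush g' ⋙ DCoh.Rpush f ≅ DCoh.Rpush f' ⋙ DCoh.Rpush g)
    (P : HomotopyCategory X.Modules (ComplexShape.up ℤ)) :
    (tau f g f' g' adjg adjg' e).app P = (BCAlg.bc adjg adjg' e).app (DerivedCategory.Qh.obj P) ≫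
      (DCoh.Rpush f').map ((lcounit g').app P) := by
  simp [tau]

variable {f : X ⟶ Y} {g : Y' ⟶ Y} {f' : X' ⟶ Y'} {g' : X' ⟶ X}
  [DCoh.HasRpush f] [DCoh.HasRpush g] [DCoh.HasLpull g] [DCoh.HasRpush f'] [DCoh.HasRpush g'] [DCoh.HasLpull g']

theorem triExact_src : TriExact (DerivedCategory.Qh ⋙ (DCoh.Rpush f ⋙ DCoh.Lpull g)) :=
  (triExact_of_isTriangulated _).comp ((TenLocal.triExact_Rpush f).comp (TenLocal.triExact_Lpull g))

theorem triExact_tgt : TriExact (DCoh.pullKh g' ⋙ DCoh.Rpush f') := by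
  have h : TriExact (DCoh.pullKh g') := (triExact_of_isTriangulated _).comp (triExact_of_isTriangulated _)
  exact h.comp (TenLocal.triExact_Rpush f')

variable (adjg : DCoh.Lpull g ⊣ DCoh.Rpush g) (adjg' : DCoh.Lpull g' ⊣ DCoh.Rpush g')
  (e : DCoh.Rpush g' ⋙ DCoh.Rpush f ≅ DCoh.Rpush f' ⋙ DCoh.Rpush g)

/-- The comparison at a single module. -/
theorem isIso_tau_sgl (M : X.Modules) (hM : G1 f g f' g' M) (n : ℤ) :
    IsIso ((tau f g f' g' adjg adjg' e).app (sgl n M)) := by
  rw [tau_app]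
  obtain ⟨_, _⟩ := exists_commShift_Rpush f
  obtain ⟨_, _⟩ := exists_commShift_Rpush f'
  obtain ⟨_, _⟩ := exists_commShift_Rpush g
  obtain ⟨_, _⟩ := exists_commShift_Rpush g'
  obtain ⟨_, _⟩ := PullPerf.exists_commShift_Lpull g
  obtain ⟨_, _⟩ := PullPerf.exists_commShift_Lpull g'
  have fs : ∀ S : Scheme.{u}, (shiftFunctor (DCoh.D S) (-n)).FullyFaithful := fun S =>
    (shiftEquiv (DCoh.D S) (-n)).fullyFaithfulFunctor
  let S := (HomologicalComplex.single X.Modules (ComplexShape.up ℤ) n).obj M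
  let i : (DCoh.inD X M)⟦-n⟧ ≅ DerivedCategory.Qh.obj (sgl n M) :=
    (WayOut.singleIso M n).symm ≪≫ (singleFunctorIsoCompQ X.Modules n).app M ≪≫
      ((DerivedCategory.quotientCompQhIso X.Modules).app S).symm
  obtain ⟨N₀, κ₀, hκ₀⟩ := exists_tr_Lpull g' M
  let c := ((DCoh.Lpull g').commShiftIso (-n)).hom.app (DCoh.inD X M)
  have h₁ : Tr n (c ≫ κ₀⟦-n⟧') := (hκ₀.shift (-n) n (by omega)).precomp c
  have h₂ : Tr n ((DCoh.Lpull g').map i.hom ≫ (lcounit g').app (sgl n M)) := (tr_lcounit g' n M).precomp _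
  obtain ⟨φ, hφ⟩ := h₁.exists_iso h₂
  have h := (isIso_theta_conj_iff (fs _) (fs _) (fs _) (fs _) adjg adjg'
    ((DCoh.Rpush f).commShiftIso (-n)) ((DCoh.Rpush f').commShiftIso (-n))
    ((DCoh.Lpull g).commShiftIso (-n)) ((DCoh.Rpush g).commShiftIso (-n))
    ((DCoh.Lpull g').commShiftIso (-n)) ((DCoh.Rpush g').commShiftIso (-n)) e (DCoh.inD X M) κ₀).2
      (hM inferInstance inferInstance inferInstance inferInstance inferInstance inferInstance _ _ _ N₀ κ₀ hκ₀)
  have key : (DCoh.Lpull g).map ((DCoh.Rpush f).map i.hom) ≫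
      ((BCAlg.bc adjg adjg' e).app (DerivedCategory.Qh.obj (sgl n M)) ≫
        (DCoh.Rpush f').map ((lcounit g').app (sgl n M))) =
      ((BCAlg.bc adjg adjg' e).app ((shiftFunctor (DCoh.D X) (-n)).obj (DCoh.inD X M)) ≫
        (DCoh.Rpush f').map (c ≫ (shiftFunctor (DCoh.D X') (-n)).map κ₀)) ≫ (DCoh.Rpush f').map φ.hom := by
    have hn := (BCAlg.bc adjg adjg' e).naturality i.hom
    dsimp at hn
    rw [reassoc_of% hn, ← Functor.map_comp, Category.assoc, ← Functor.map_comp]
    exact congrArg (fun t => _ ≫ (DCoh.Rpush f').map t) hφ.symm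
  haveI := h
  refine (isIso_comp_left_iff ((DCoh.Lpull g).map ((DCoh.Rpush f).map i.hom)) _).1 ?_
  rw [key]
  infer_instance

/-- Complexes on which the comparison is invertible at all shifts. -/
def GoodCx (P : HomotopyCategory X.Modules (ComplexShape.up ℤ)) : Prop :=
  IsoShifts (tau f g f' g' adjg adjg' e) P

theorem goodCx_sgl (M : X.Modules) (hM : G1 f g f' g' M) (n : ℤ) : GoodCx adjg adjg' e (sgl n M) := fun m =>
  (NatTrans.isIso_app_iff_of_iso (tau f g f' g' adjg adjg' e)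
    ((HomotopyCategory.quotient X.Modules (ComplexShape.up ℤ)).mapIso
      (((CochainComplex.singleFunctors X.Modules).shiftIso m (n - m) n (by omega)).app M).symm ≪≫
      (((HomotopyCategory.quotient X.Modules (ComplexShape.up ℤ)).commShiftIso m).app _))).1
    (isIso_tau_sgl adjg adjg' e M hM (n - m))

theorem goodCx_of_isZero {P : CochainComplex X.Modules ℤ} (h : ∀ n, IsZero (P.X n)) :
    GoodCx adjg adjg' e ((HomotopyCategory.quotient X.Modules (ComplexShape.up ℤ)).obj P) := fun m => by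
  have hz : IsZero ((HomotopyCategory.quotient X.Modules (ComplexShape.up ℤ)).obj P) :=
    Functor.map_isZero _ ((IsZero.iff_id_eq_zero _).2 (HomologicalComplex.hom_ext _ _ fun n => (h n).eq_of_src _ _))
  have hz' := (shiftFunctor (HomotopyCategory X.Modules (ComplexShape.up ℤ)) m).map_isZero hz
  exact ⟨⟨0, (triExact_src.map_isZero hz').eq_of_src _ _, (triExact_tgt.map_isZero hz').eq_of_src _ _⟩⟩

/-- The degreewise split sequence of a stupid truncation. -/
theorem exists_stupid_triangle (K : CochainComplex X.Modules ℤ) (m : ℤ) :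
    ∃ (P R : CochainComplex X.Modules ℤ) (T : Triangle (HomotopyCategory X.Modules (ComplexShape.up ℤ))),
      T ∈ distTriang _ ∧ T.obj₁ = (HomotopyCategory.quotient _ _).obj P ∧
        T.obj₂ = (HomotopyCategory.quotient _ _).obj K ∧ T.obj₃ = (HomotopyCategory.quotient _ _).obj R ∧
        (∀ i, i < m → IsZero (P.X i)) ∧ (∀ i, m ≤ i → Nonempty (P.X i ≅ K.X i)) ∧
        (∀ i, m ≤ i → IsZero (R.X i)) ∧ ∀ i, i < m → Nonempty (R.X i ≅ K.X i) := by
  obtain ⟨P, ι, hι, hlt, hge⟩ := DQCoh.exists_stupid K m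
  haveI := hι
  let S := ShortComplex.mk ι (cokernel.π ι) (cokernel.condition ι)
  have hS : S.ShortExact :=
    { exact := ShortComplex.exact_cokernel ι, mono_f := hι, epi_g := inferInstanceAs (Epi (cokernel.π ι)) }
  have hn := fun n => hS.map_of_exact (HomologicalComplex.eval X.Modules (ComplexShape.up ℤ) n)
  let σ : ∀ n, (S.map (HomologicalComplex.eval X.Modules (ComplexShape.up ℤ) n)).Splitting := fun n =>
    haveI : Epi (S.map (HomologicalComplex.eval X.Modules (ComplexShape.up ℤ) n)).g := (hn n).epi_g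
    ShortComplex.Splitting.ofExactOfRetraction _ (hn n).exact
      (if h : m ≤ n then (haveI := hge n h; inv (ι.f n)) else 0) (by
        show ι.f n ≫ _ = 𝟙 (P.X n)
        split_ifs with h
        · haveI := hge n h
          exact IsIso.hom_inv_id _
        · exact (hlt n (by omega)).eq_of_src _ _) inferInstance
  refine ⟨P, cokernel ι, CochainComplex.trianglehOfDegreewiseSplit S σ, ?_, rfl, rfl, rfl, hlt, fun i hi => ?_,
    fun i hi => ?_, fun i hi => ?_⟩
  · rw [HomotopyCategory.distinguished_iff_iso_trianglehOfDegreewiseSplit]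
    exact ⟨S, σ, ⟨Iso.refl _⟩⟩
  · haveI := hge i hi
    exact ⟨asIso (ι.f i)⟩
  · haveI := hge i hi
    exact (hn i).isIso_f_iff.1 (show IsIso (ι.f i) from inferInstance)
  · haveI : IsIso ((cokernel.π ι).f i) := (hn i).isIso_g_iff.2 (hlt i hi)
    exact ⟨(asIso ((cokernel.π ι).f i)).symm⟩

/-- Bounded complexes of good modules are good. -/
theorem goodCx_bounded (a : ℤ) : ∀ (k : ℕ) (K : CochainComplex X.Modules ℤ), (∀ i, a < i → IsZero (K.X i)) →
    (∀ i, i < a + 1 - k → IsZero (K.X i)) → (∀ i, G1 f g f' g' (K.X i)) →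
    GoodCx adjg adjg' e ((HomotopyCategory.quotient X.Modules (ComplexShape.up ℤ)).obj K) := by
  intro k
  induction k with
  | zero =>
    intro K hgt hlt _
    refine goodCx_of_isZero adjg adjg' e fun i => ?_
    by_cases h : a < i
    · exact hgt i h
    · exact hlt i (by omega)
  | succ k ih =>
    intro K hgt hlt hG
    obtain ⟨b, hb⟩ : ∃ b : ℤ, b = a + 1 - k := ⟨_, rfl⟩
    obtain ⟨P, R, T, hT, h₁, h₂, h₃, hPlt, hPge, hRge, hRlt⟩ := exists_stupid_triangle K b
    have hP : GoodCx adjg adjg' e T.obj₁ := by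
      rw [h₁]
      refine ih P (fun i hi => ?_) (fun i hi => hPlt i (by omega)) fun i => ?_
      · by_cases h : b ≤ i
        · exact (hgt i hi).of_iso (hPge i h).some
        · exact hPlt i (by omega)
      · by_cases h : b ≤ i
        · exact (hG i).of_iso (hPge i h).some.symm
        · exact G1.of_iso (M := K.X (a + 2)) ((hgt (a + 2) (by omega)).iso (hPlt i (by omega))) (hG _)
    have hR : GoodCx adjg adjg' e T.obj₃ := by
      rw [h₃]
      have hz : ∀ i, i ≠ b - 1 → IsZero (R.X i) := fun i hi => by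
        by_cases h : b ≤ i
        · exact hRge i h
        · exact (hlt i (by omega)).of_iso (hRlt i (by omega)).some
      haveI : CochainComplex.IsStrictlyGE R (b - 1) := (CochainComplex.isStrictlyGE_iff _ _).2 fun i hi => hz i (by omega)
      haveI : CochainComplex.IsStrictlyLE R (b - 1) := (CochainComplex.isStrictlyLE_iff _ _).2 fun i hi => hz i (by omega)
      obtain ⟨M, ⟨j⟩⟩ := CochainComplex.exists_iso_single R (b - 1)
      refine IsoShifts.of_iso ((HomotopyCategory.quotient X.Modules (ComplexShape.up ℤ)).mapIso j.symm)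
        (goodCx_sgl adjg adjg' e M ((hG (b - 1)).of_iso ((hRlt (b - 1) (by omega)).some.symm ≪≫
          HomologicalComplex.Hom.isoApp j (b - 1) ≪≫
            HomologicalComplex.singleObjXSelf (ComplexShape.up ℤ) (b - 1) M)) (b - 1))
    have h := IsoShifts.cone triExact_src triExact_tgt (inv_rot_of_distTriang _ hT)
      (τ := tau f g f' g' adjg adjg' e) (hR.shift (-1)) hP
    show GoodCx adjg adjg' e _
    rw [← h₂]
    exact h

/-- A morphism is invertible in degree `i` once its cone lives below. -/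
theorem isIso_homology_of_cone {Z : Scheme.{u}} {F : HomotopyCategory X.Modules (ComplexShape.up ℤ) ⥤ DCoh.D Z}
    (hF : TriExact F) {T : Triangle (HomotopyCategory X.Modules (ComplexShape.up ℤ))} (hT : T ∈ distTriang _)
    (i : ℤ) (h : (F.obj T.obj₃).IsLE (i - 2)) :
    IsIso ((DerivedCategory.homologyFunctor Z.Modules i).map (F.map T.mor₁)) := by
  obtain ⟨δ, hδ⟩ := hF T hT
  exact ((PullPerf.apx_iff_isLE (i - 1) _ hδ).2 (by rw [show i - 1 - 1 = i - 2 by omega]; exact h)).1 i (by omega)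

theorem isLE_rd_of_le {Z : Scheme.{u}} {W V : Z.Opens} (hWV : W ≤ V) {C : DCoh.D Z} (n : ℤ)
    (h : ((PerfLocal.rd V.ι).obj C).IsLE n) : ((PerfLocal.rd W.ι).obj C).IsLE n := by
  obtain ⟨a⟩ := RdComp.rd_congr (Z.homOfLE hWV ≫ V.ι) (Z.homOfLE_ι hWV) C
  haveI : ((PerfLocal.rd V.ι ⋙ PerfLocal.rd (Z.homOfLE hWV)).obj C).IsLE n := isLE_rd (Z.homOfLE hWV) _ n h
  exact TStructure.t.isLE_of_iso ((RdComp.rdCompIso (Z.homOfLE hWV) V.ι).app C ≪≫ a) n

theorem isLE_rd_of_homology {Z : Scheme.{u}} (W : Z.Opens) (C : DCoh.D Z) (n : ℤ)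
    (h : ∀ i, n < i → IsZero ((Scheme.Modules.restrictFunctor W.ι).obj (DCoh.HD C i))) :
    ((PerfLocal.rd W.ι).obj C).IsLE n :=
  (DerivedCategory.isLE_iff _ _).2 fun i hi => (h i hi).of_iso (SuppOpen.hdMapIso _ C i)

variable [QuasiCompact f] [QuasiSeparated f] [QuasiCompact f'] [QuasiSeparated f']

/-- Bounded above complexes of good modules are good. -/
theorem isIso_tau_of_bddAbove (K : CochainComplex X.Modules ℤ) (b : ℤ) (hb : ∀ i, b < i → IsZero (K.X i))
    (hq : ∀ i, Coh.IsQCoh (K.X i)) (hG : ∀ i, G1 f g f' g' (K.X i)) :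
    IsIso ((tau f g f' g' adjg adjg' e).app ((HomotopyCategory.quotient X.Modules (ComplexShape.up ℤ)).obj K)) := by
  refine ProjPerf.isIso_of_locally _ fun y => ?_
  obtain ⟨U, hU, hgy, -⟩ := exists_isAffineOpen_mem_and_subset (show g y ∈ (⊤ : Y.Opens) from trivial)
  obtain ⟨W, hW, hy, hle⟩ := exists_isAffineOpen_mem_and_subset (show y ∈ g ⁻¹ᵁ U from hgy)
  refine ⟨W, hy, (DerivedCategory.isIso_iff _ _).2 fun i => ?_⟩
  obtain ⟨d₁, hd₁⟩ := DQCoh.exists_bound_restrict f U hU
  obtain ⟨d₂, hd₂⟩ := DQCoh.exists_bound_restrict f' W hW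
  obtain ⟨m, hm⟩ : ∃ m : ℤ, m = i - 2 - (d₁ : ℤ) - (d₂ : ℤ) - 2 := ⟨_, rfl⟩
  obtain ⟨P, R, T, hT, h₁, h₂, h₃, hPlt, hPge, hRge, hRlt⟩ := exists_stupid_triangle K m
  have hP : IsIso ((tau f g f' g' adjg adjg' e).app T.obj₁) := by
    rw [h₁]
    refine (goodCx_bounded adjg adjg' e (max b m) (max b m + 1 - m).toNat P (fun j hj => ?_)
      (fun j hj => hPlt j (by omega)) fun j => ?_).app
    · exact (hb j (by omega)).of_iso (hPge j (by omega)).some
    · by_cases h : m ≤ j
      · exact (hG j).of_iso (hPge j h).some.symm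
      · exact G1.of_iso (M := K.X (b + 1)) ((hb (b + 1) (by omega)).iso (hPlt j (by omega))) (hG _)
  let q := HomotopyCategory.quotient X.Modules (ComplexShape.up ℤ)
  have hRq : ∀ j, Coh.IsQCoh (R.X j) := fun j => by
    by_cases h : m ≤ j
    · exact Coherent.isQCoh_of_isZero (hRge j h)
    · exact Coherent.isQCoh_of_iso (hRlt j (by omega)).some.symm (h := hq j)
  -- the tail on both sides lives below
  have hsrc : ((DerivedCategory.Qh ⋙ (DCoh.Rpush f ⋙ DCoh.Lpull g) ⋙ PerfLocal.rd W.ι).obj T.obj₃).IsLE (i - 2) := by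
    rw [h₃]
    haveI : R.IsStrictlyLE (m - 1) := (CochainComplex.isStrictlyLE_iff _ _).2 fun j hj => hRge j (by omega)
    let E := DerivedCategory.Qh.obj (q.obj R)
    let iE : E ≅ DerivedCategory.Q.obj R := (DerivedCategory.quotientCompQhIso X.Modules).app R
    haveI : E.IsLE (m - 1) := TStructure.t.isLE_of_iso iE.symm _
    have hEq : DCoh.IsQCohD E := DQCoh.isQCohD_of_iso iE.symm (DQCoh.isQCohD_Q R hRq)
    have hU' : ((PerfLocal.rd U.ι).obj ((DCoh.Rpush f).obj E)).IsLE (i - 2) :=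
      isLE_rd_of_homology U _ _ fun j hj => hd₁ E hEq (m - 1) inferInstance j (by omega)
    haveI := hasLpull (g ∣_ U)
    obtain ⟨a⟩ := TenLocal.nonempty_rd_Lpull g U ((DCoh.Rpush f).obj E)
    exact isLE_rd_of_le hle (i - 2) (@Triangulated.TStructure.isLE_of_iso _ _ _ _ _ _ _ TStructure.t _ _ a.symm (i - 2)
      (PullPerf.isLE_Lpull (g ∣_ U) _ _ hU'))
  have htgt : ((DCoh.pullKh g' ⋙ DCoh.Rpush f' ⋙ PerfLocal.rd W.ι).obj T.obj₃).IsLE (i - 2) := by
    rw [h₃]
    let G := (Scheme.Modules.pullback g').mapHomologicalComplex (ComplexShape.up ℤ)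
    haveI : CochainComplex.IsStrictlyLE (G.obj R) (m - 1) := (CochainComplex.isStrictlyLE_iff _ _).2 fun j hj =>
      (Scheme.Modules.pullback g').map_isZero (hRge j (by omega))
    let E := (DCoh.pullKh g').obj (q.obj R)
    let iE : E ≅ DerivedCategory.Q.obj (G.obj R) := (DerivedCategory.quotientCompQhIso X'.Modules).app (G.obj R)
    haveI : E.IsLE (m - 1) := TStructure.t.isLE_of_iso iE.symm _
    have hEq : DCoh.IsQCohD E := DQCoh.isQCohD_of_iso iE.symm (DQCoh.isQCohD_Q (G.obj R) fun j =>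
      haveI := hRq j
      EGA43.InjFibre.isQCoh_pullback g' (R.X j))
    exact isLE_rd_of_homology W _ _ fun j hj => hd₂ E hEq (m - 1) inferInstance j (by omega)
  let H := DerivedCategory.homologyFunctor (W : Scheme.{u}).Modules i
  have hsF : TriExact ((DerivedCategory.Qh ⋙ (DCoh.Rpush f ⋙ DCoh.Lpull g)) ⋙ PerfLocal.rd W.ι) :=
    triExact_src.comp (TenLocal.triExact_rd _)
  have htF : TriExact ((DCoh.pullKh g' ⋙ DCoh.Rpush f') ⋙ PerfLocal.rd W.ι) :=
    triExact_tgt.comp (TenLocal.triExact_rd _)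
  haveI := isIso_homology_of_cone hsF hT i hsrc
  have hFm := isIso_homology_of_cone htF hT i htgt
  haveI := hP
  have hn := (Functor.whiskerRight (Functor.whiskerRight (tau f g f' g' adjg adjg' e) (PerfLocal.rd W.ι)) H).naturality
    T.mor₁
  have h : IsIso (H.map ((PerfLocal.rd W.ι).map ((tau f g f' g' adjg adjg' e).app T.obj₂))) := by
    have h' : IsIso (H.map (((DerivedCategory.Qh ⋙ (DCoh.Rpush f ⋙ DCoh.Lpull g)) ⋙ PerfLocal.rd W.ι).map T.mor₁) ≫
        H.map ((PerfLocal.rd W.ι).map ((tau f g f' g' adjg adjg' e).app T.obj₂))) := by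
      rw [show H.map (((DerivedCategory.Qh ⋙ (DCoh.Rpush f ⋙ DCoh.Lpull g)) ⋙ PerfLocal.rd W.ι).map T.mor₁) ≫
        H.map ((PerfLocal.rd W.ι).map ((tau f g f' g' adjg adjg' e).app T.obj₂)) = _ from hn]
      simp only [Functor.whiskerRight_app]
      exact @IsIso.comp_isIso _ _ _ _ _ _ _ inferInstance hFm
    exact (isIso_comp_left_iff _ _).1 h'
  rw [h₂] at h
  exact h

end Groth.Agent.BCFlat16
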