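import Groth.Agent.AbDualLib.Points
import Groth.Agent.AbDualLib.Additive
import Groth.Agent.AbDualLib.PicZeroMul

/-!
# Identities between pullbacks of the Poincaré class
-/

set_option autoImplicit false
set_option linter.style.haveILetI false

universe u

open CategoryTheory CategoryTheory.Limits MonoidalCategory CartesianMonoidalCategory MonObj GrpObj AlgebraicGeometry
open Groth.Agent.PicLib Groth.Agent.AbDualLib

namespace Groth.Agent.BCFlat16.FMClass

variable {S : Scheme.{u}} {A At : Over S} [GrpObj A] [GrpObj At]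
  [IsProper A.hom] [Smooth A.hom] [GeometricallyConnected A.hom]
  {φ : ∀ T : Over S, PicF.Cl (PicF.XT A.hom T) → (T ⟶ At)}
  (hφ : AbDual.IsDualAV Scheme.fppfPrecoverage A At φ) {P : PicM (A ⊗ At).left}
  (h0 : AbDual.IsPicZeroCl A.hom At P.val) (hid : φ At P.val = 𝟙 At) (hrig : ev P (1 : At ⟶ A) (𝟙 At) = 1)

include hφ h0 hid hrig

/-- The Poincaré class is additive in points of `At`. -/
theorem ev_mul_right {V : Over S} (x : V ⟶ A) (g h : V ⟶ At) : ev P x (g * h) = ev P x g * ev P x h := by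
  let E : (V ⟶ At) → PicM (A ⊗ V).left := fun g => ev P (fst A V) (snd A V ≫ g)
  have hE := fun g : V ⟶ At => poincare_point hφ h0 hid hrig g
  have key : E (g * h) = E g * E h := by
    refine eq_of_phi_eq hφ _ _ (hE _).1 (isPicZeroCl_mul (hE _).1 (hE _).1) (hE _).2.2 ?_ ?_
    · rw [map_mul, (hE g).2.2, (hE h).2.2, _root_.mul_one]
    · rw [phi_mul hφ _ _ (hE _).1 (hE _).1, (hE g).2.1, (hE h).2.1, (hE (g * h)).2.1]
  have h' := congrArg (PicM.pull (lift x (𝟙 V)).left) key
  simp only [E, map_mul, pull_ev, lift_fst, lift_snd_assoc, Category.id_comp] at h'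
  exact h'

/-- The Poincaré class is additive in points of `A`. -/
theorem ev_mul_left [IsSeparated At.hom] [LocallyOfFiniteType At.hom] {V : Over S} (f g : V ⟶ A) (t : V ⟶ At) :
    ev P (f * g) t = ev P f t * ev P g t :=
  pull_mul_points hφ P h0 hrig f g t

/-- The transpose exchanges the Poincaré classes. -/
theorem ev_transpose {B Bt : Over S} [GrpObj B] [GrpObj Bt]
    {φB : ∀ T : Over S, PicF.Cl (PicF.XT B.hom T) → (T ⟶ Bt)} {PB : PicM (B ⊗ Bt).left}
    (hB0 : AbDual.IsPicZeroCl B.hom Bt PB.val) (hBid : φB Bt PB.val = 𝟙 Bt)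
    (hBrig : ev PB (1 : Bt ⟶ B) (𝟙 Bt) = 1) (f : A ⟶ B) [IsMonHom f] (ft : Bt ⟶ At)
    (hft : AbDual.IsTranspose f φ φB ft) :
    ev PB (fst A Bt ≫ f) (snd A Bt) = ev P (fst A Bt) (snd A Bt ≫ ft) := by
  have hP := poincare_point hφ h0 hid hrig ft
  refine eq_of_phi_eq hφ _ _ (isPicZeroCl_bcMap f hB0) hP.1 ?_ hP.2.2 ?_
  · rw [pull_ev, lift_fst_assoc, lift_snd, MonObj.one_comp]
    exact hBrig
  · rw [hP.2.1, ← pull_bcMap]
    refine (hft Bt PB.val hB0).trans ?_
    rw [hBid, Category.id_comp]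

end Groth.Agent.BCFlat16.FMClass
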