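import Groth.Agent.BCFlat16.FMObj
import Groth.Agent.Dual22Lib.ProjQCoh
import Groth.Agent.AbDualLib.Points

/-!
# Composition of a Fourier-Mukai functor with the functor of the transposed kernel
-/

set_option autoImplicit false
set_option backward.isDefEq.respectTransparency false
set_option linter.style.haveILetI false
set_option synthInstance.maxHeartbeats 100000

universe u

open CategoryTheory CategoryTheory.Limits MonoidalCategory CartesianMonoidalCategory MonObj GrpObj AlgebraicGeometry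
open Groth.Agent.PicLib Groth.Agent.AbDualLib Groth.Agent.Dual22Lib

attribute [local instance] HasDerivedCategory.standard

namespace Groth.Agent.BCFlat16

/-- `Lf^*(-) ⊗^L C` pushed forward is the twist by `Rf_* C`, on objects with quasi-coherent cohomology. -/
theorem nonempty_proj_nat {X Y : Scheme.{u}} (f : X ⟶ Y) [QuasiCompact f] [QuasiSeparated f] [DCoh.HasRpush f]
    [DCoh.HasLpull f] (C : CochainComplex X.Modules ℤ) [DCoh.HasLTensorCx C]
    (hC : DCoh.IsQCohD (DerivedCategory.Q.obj C)) (D : CochainComplex Y.Modules ℤ) [DCoh.HasLTensorCx D]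
    (eD : DerivedCategory.Q.obj D ≅ (DCoh.Rpush f).obj (DerivedCategory.Q.obj C)) :
    Nonempty ((DCoh.IsQCohD (X := Y)).ι ⋙ DCoh.LTensorCx D ≅
      (DCoh.IsQCohD (X := Y)).ι ⋙ DCoh.Lpull f ⋙ DCoh.LTensorCx C ⋙ DCoh.Rpush f) := by
  obtain ⟨I, s, hI, hs⟩ := DCat.modules_enoughKInj X C
  haveI := hI
  haveI : IsIso (DerivedCategory.Q.map s) := (DerivedCategory.isIso_Q_map_iff_quasiIso _ s).2 hs
  haveI := DCat.LTensorSheaf.hasLTensorCx I
  haveI := DCat.LTensorSheaf.hasLTensorCx ((DCat.ProjPerf.pushC f).obj I)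
  haveI := DCat.ProjPerf.isIso_unitD f I
  obtain ⟨a⟩ := DCat.TensorCongr.nonempty_congr (E := D) (E' := (DCat.ProjPerf.pushC f).obj I)
    (eD ≪≫ (DCoh.Rpush f).mapIso (asIso (DerivedCategory.Q.map s)) ≪≫
      (asIso ((DCat.ProjPerf.unitD f).app I)).symm)
  obtain ⟨b⟩ := DCat.TensorCongr.nonempty_congr (E := I) (E' := C) (asIso (DerivedCategory.Q.map s)).symm
  obtain ⟨τ, hτ⟩ := ProjQCoh.exists_tau f I
  have hIq : DCoh.IsQCohD (DerivedCategory.Q.obj I) :=
    DQCoh.isQCohD_of_iso (asIso (DerivedCategory.Q.map s)) hC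
  let Q := (DCoh.IsQCohD (X := Y)).ι
  haveI : ∀ K, IsIso ((Functor.whiskerLeft Q τ).app K) := fun K => by
    obtain ⟨A, hA, ⟨e⟩⟩ := DCat.PullPerf.exists_kflat_rep (Q.obj K)
    show IsIso (τ.app (Q.obj K))
    refine (NatTrans.isIso_app_iff_of_iso τ e).1 ?_
    rw [hτ A hA]
    haveI := ProjQCoh.isIso_eta_qcoh f I hIq hA (DQCoh.isQCohD_of_iso e.symm K.2)
    infer_instance
  haveI := NatIso.isIso_of_isIso_app (Functor.whiskerLeft Q τ)
  exact ⟨Functor.isoWhiskerLeft Q a ≪≫ asIso (Functor.whiskerLeft Q τ) ≪≫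
    Functor.isoWhiskerLeft Q (Functor.isoWhiskerLeft _ (Functor.isoWhiskerRight b _))⟩

variable {k : Type u} [Field k]

/-- **Composition of transposed kernels.** If the class of `P` is additive in the points of `A` and its direct
image to `A` is the skyscraper at the origin in degree `g`, then the two transforms compose to `(-1)^*[-g]`. -/
theorem nonempty_conv (A B : Over (Spec (CommRingCat.of k))) [GrpObj A] [IsProper A.hom] [IsProper B.hom]
    (P : (pullback A.hom B.hom).Modules) (hP : PicF.IsInvertible P)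
    (hmul : ∀ {V : Over (Spec (CommRingCat.of k))} (f g : V ⟶ A) (t : V ⟶ B),
      ev (A := A) (B := B) (PicM.of hP) (f * g) t = ev (A := A) (B := B) (PicM.of hP) f t * ev (PicM.of hP) g t)
    (g : ℤ) (eA : Spec (CommRingCat.of k) ⟶ A.left) (heA : eA = η[A].left)
    [DCoh.HasRpush (pullback.fst A.hom B.hom)] [DCoh.HasRpush eA]
    (hR : Nonempty ((DCoh.Rpush (pullback.fst A.hom B.hom)).obj (DCoh.inD _ P) ≅
      ((DCoh.Rpush eA).obj (DCoh.inD _ (Coh.structureModule (Spec (CommRingCat.of k)))))⟦g⟧))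
    (hfl : Flat A.hom) (hfl' : Flat B.hom)
    [DCoh.HasLpull (pullback.fst A.hom B.hom)] [DCoh.HasLTensorMod P] [DCoh.HasRpush (pullback.snd A.hom B.hom)]
    [DCoh.HasLpull (pullback.fst B.hom A.hom)]
    [DCoh.HasLTensorMod ((Scheme.Modules.pullback (pullbackSymmetry B.hom A.hom).hom).obj P)]
    [DCoh.HasRpush (pullback.snd B.hom A.hom)] [DCoh.HasLpull ((𝟙 A)⁻¹).left] :
    Nonempty (ObjectProperty.ι (DCoh.IsQCohD (X := A.left)) ⋙ (DCoh.Lpull (pullback.fst A.hom B.hom) ⋙ DCoh.LTensorMod P ⋙ DCoh.Rpush (pullback.snd A.hom B.hom)) ⋙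
        (DCoh.Lpull (pullback.fst B.hom A.hom) ⋙
          DCoh.LTensorMod ((Scheme.Modules.pullback (pullbackSymmetry B.hom A.hom).hom).obj P) ⋙
          DCoh.Rpush (pullback.snd B.hom A.hom)) ≅
      ObjectProperty.ι (DCoh.IsQCohD (X := A.left)) ⋙ DCoh.Lpull ((𝟙 A)⁻¹).left ⋙
        shiftFunctor (DCoh.D A.left) g) := by
  let a₁ : (A ⊗ A) ⊗ B ⟶ A := fst _ _ ≫ fst A A
  let a₂ : (A ⊗ A) ⊗ B ⟶ A := fst _ _ ≫ snd A A
  let b : (A ⊗ A) ⊗ B ⟶ B := snd _ _
  obtain ⟨W, hW⟩ : ∃ W : Over (Spec (CommRingCat.of k)), W = (A ⊗ A) ⊗ B := ⟨_, rfl⟩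
  let m : A ⊗ A ⟶ A := fst A A * snd A A
  let s : A ⊗ A ⟶ A ⊗ A := CartesianMonoidalCategory.lift m (snd A A)
  haveI : IsIso s := ⟨CartesianMonoidalCategory.lift (fst A A * (snd A A)⁻¹) (snd A A),
    by ext1 <;> simp [s, m, MonObj.comp_mul, GrpObj.comp_inv],
    by ext1 <;> simp [s, m, MonObj.comp_mul, GrpObj.comp_inv]⟩
  haveI : IsIso s.left := inferInstanceAs (IsIso ((Over.forget _).map s))
  have hsqm : IsPullback m.left (snd A A).left A.hom A.hom :=
    IsPullback.of_iso_pullback ⟨(Over.w m).trans (Over.w (snd A A)).symm⟩ (asIso s.left)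
      (congrArg (fun z => Over.Hom.left z) (lift_fst m (snd A A))) (congrArg (fun z => Over.Hom.left z) (lift_snd m (snd A A)))
  haveI := hfl
  haveI := hfl'
  haveI : Flat m.left := MorphismProperty.of_isPullback (P := @Flat) hsqm.flip inferInstance
  let M : (A ⊗ A) ⊗ B ⟶ A ⊗ B := m ▷ B
  let r : (A ⊗ A) ⊗ B ⟶ A ⊗ A := fst _ _
  let u₁ : (A ⊗ A) ⊗ B ⟶ A ⊗ B := CartesianMonoidalCategory.lift a₁ b
  let u₂ : (A ⊗ A) ⊗ B ⟶ B ⊗ A := CartesianMonoidalCategory.lift b a₂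
  let Δ : A ⟶ A ⊗ A := CartesianMonoidalCategory.lift (𝟙 A)⁻¹ (𝟙 A)
  let p : (A ⊗ B).left ⟶ A.left := (fst A B).left
  let q : (A ⊗ B).left ⟶ B.left := (snd A B).left
  let p' : (B ⊗ A).left ⟶ B.left := (fst B A).left
  let q' : (B ⊗ A).left ⟶ A.left := (snd B A).left
  -- squares
  have hsq : IsPullback u₁.left u₂.left q p' := by
    let i : (A ⊗ A) ⊗ B ⟶ A ⊗ (B ⊗ A) := CartesianMonoidalCategory.lift a₁ u₂
    haveI : IsIso i := ⟨CartesianMonoidalCategory.lift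
      (CartesianMonoidalCategory.lift (fst A (B ⊗ A)) (snd A (B ⊗ A) ≫ snd B A)) (snd A (B ⊗ A) ≫ fst B A),
      by ext <;> simp [i, a₁, a₂, b, u₂], by ext <;> simp [i, a₁, a₂, b, u₂]⟩
    haveI : IsIso i.left := inferInstanceAs (IsIso ((Over.forget _).map i))
    have hout : IsPullback a₁.left u₂.left A.hom (B ⊗ A).hom :=
      IsPullback.of_iso_pullback ⟨(Over.w a₁).trans (Over.w u₂).symm⟩ (asIso i.left)
        (congrArg (fun z => Over.Hom.left z) (lift_fst a₁ u₂)) (congrArg (fun z => Over.Hom.left z) (lift_snd a₁ u₂))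
    refine (IsPullback.of_right (h₁₂ := p) (v₁₃ := A.hom) (h₂₂ := B.hom) ?_ ?_ (IsPullback.of_hasPullback A.hom B.hom))
    · rw [show u₁.left ≫ p = a₁.left from congrArg (fun z => Over.Hom.left z) (lift_fst a₁ b),
        show p' ≫ B.hom = (B ⊗ A).hom from Over.w (fst B A)]
      exact hout
    · exact congrArg (fun z => Over.Hom.left z) ((lift_snd a₁ b).trans (lift_fst b a₂).symm)
  have hsqM : IsPullback M.left r.left p m.left := by
    refine (IsPullback.of_right (h₁₂ := q) (v₁₃ := B.hom) (h₂₂ := A.hom) ?_ ?_ (IsPullback.of_hasPullback A.hom B.hom).flip)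
    · rw [show M.left ≫ q = b.left from congrArg (fun z => Over.Hom.left z) (whiskerRight_snd m B), Over.w m]
      exact (IsPullback.of_hasPullback (A ⊗ A).hom B.hom).flip
    · exact congrArg (fun z => Over.Hom.left z) (whiskerRight_fst m B)
  have hsqΔ : IsPullback Δ.left A.hom m.left eA := by
    rw [heA]
    refine (IsPullback.of_right (h₁₂ := (snd A A).left) (v₁₃ := A.hom) (h₂₂ := A.hom) ?_ ?_ hsqm.flip)
    · rw [show Δ.left ≫ (snd A A).left = 𝟙 A.left from congrArg (fun z => Over.Hom.left z) (lift_snd _ _),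
        show η[A].left ≫ A.hom = 𝟙 (Spec (CommRingCat.of k)) from (Over.w η[A]).trans rfl]
      exact IsPullback.of_horiz_isIso ⟨(Category.id_comp _).trans (Category.comp_id _).symm⟩
    · have e : Δ ≫ m = toUnit A ≫ η[A] := by
        rw [show m = fst A A * snd A A from rfl, MonObj.comp_mul, lift_fst, lift_snd, inv_mul_cancel]
        rfl
      exact ((congrArg (fun z => Over.Hom.left z) e).trans rfl).trans
        (congrArg (· ≫ η[A].left) Over.toUnit_left)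
  haveI : IsProper p := inferInstanceAs (IsProper (pullback.fst A.hom B.hom))
  haveI : IsProper q := inferInstanceAs (IsProper (pullback.snd A.hom B.hom))
  haveI : IsProper r.left := MorphismProperty.of_isPullback (P := @IsProper) hsqM inferInstance
  haveI : IsProper (snd A A).left := inferInstanceAs (IsProper (pullback.snd A.hom A.hom))
  haveI : IsProper eA := by
    haveI : IsProper (eA ≫ A.hom) := by rw [show eA ≫ A.hom = 𝟙 (Spec (CommRingCat.of k)) from heA ▸ ((Over.w η[A]).trans rfl)]; infer_instance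
    exact IsProper.of_comp eA A.hom
  haveI : IsProper Δ.left := MorphismProperty.of_isPullback (P := @IsProper) hsqΔ.flip inferInstance
  haveI : Flat p' := inferInstanceAs (Flat (pullback.fst B.hom A.hom))
  -- classes
  let σ : (B ⊗ A).left ⟶ (A ⊗ B).left := (pullbackSymmetry B.hom A.hom).hom
  let P' := (Scheme.Modules.pullback σ).obj P
  have hP' : PicF.IsInvertible P' := PicLoc.isInvertible_pullback _ hP
  have h₁ : PicF.IsInvertible ((Scheme.Modules.pullback u₁.left).obj P) := PicLoc.isInvertible_pullback _ hP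
  have h₂ : PicF.IsInvertible ((Scheme.Modules.pullback u₂.left).obj P') := PicLoc.isInvertible_pullback _ hP'
  have hM : PicF.IsInvertible ((Scheme.Modules.pullback M.left).obj P) := PicLoc.isInvertible_pullback _ hP
  have key : PicM.of h₁ * PicM.of h₂ = PicM.of hM := by
    rw [← PicM.pull_of _ hP, ← PicM.pull_of _ hP', ← PicM.pull_of _ hP, ← PicM.pull_of _ hP, PicM.pull_pull]
    have e₂ : u₂.left ≫ σ = (CartesianMonoidalCategory.lift a₂ b).left := by
      rw [show σ = (CartesianMonoidalCategory.lift (snd B A) (fst B A)).left from sym_eq B A, ← Over.comp_left,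
        comp_lift, lift_fst, lift_snd]
    rw [e₂]
    have e₃ : M = CartesianMonoidalCategory.lift (a₁ * a₂) b := by
      ext1 <;> simp [M, m, a₁, a₂, b, MonObj.comp_mul]
    rw [e₃]
    exact (hmul a₁ a₂ b).symm
  rw [PicM.of_mul] at key
  -- instances
  haveI := DCat.hasLpull u₁.left
  haveI := DCat.hasRpush u₂.left
  haveI := DCat.hasLpull r.left
  haveI := DCat.hasRpush r.left
  haveI := DCat.hasLpull M.left
  haveI := DCat.hasLpull m.left
  haveI := DCat.hasLpull A.hom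
  haveI := DCat.hasRpush Δ.left
  haveI := DCat.hasLpull Δ.left
  haveI := DCat.hasLpull (fst A A).left
  haveI := DCat.hasRpush (snd A A).left
  haveI := DCat.hasLpull (r ≫ fst A A).left
  haveI := DCat.hasRpush (r ≫ snd A A).left
  haveI := DCat.hasRpush (𝟙 A.left)
  haveI := DCat.hasLpull (𝟙 A.left)
  haveI : DCoh.HasLpull p := ‹_›
  haveI : DCoh.HasRpush p := ‹_›
  haveI : DCoh.HasRpush q := ‹_›
  haveI : DCoh.HasLpull p' := ‹_›
  haveI : DCoh.HasRpush q' := ‹_›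
  haveI : DCoh.HasLTensorMod P' := ‹_›
  -- the pushforward of the kernel
  have hPq : DCoh.IsQCohD (DCoh.inD (A ⊗ B).left P) := by
    haveI := AmpleLib.isQCoh_of_isInvertible hP
    exact FlatBC14.isQCohD_inD P
  have hO : DCoh.IsQCohD (DCoh.inD (Spec (CommRingCat.of k)) (Coh.structureModule _)) := by
    haveI := AmpleLib.isQCoh_of_isInvertible (AmpleLib.isInvertible_structureModule (X := Spec (CommRingCat.of k)))
    exact FlatBC14.isQCohD_inD _
  obtain ⟨eR⟩ := hR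
  obtain ⟨bM⟩ := nonempty_bc_nat hsqM (Or.inr inferInstance) (DCoh.IsQCohD (X := (A ⊗ B).left)).ι (fun K => K.2)
  obtain ⟨bΔ⟩ := nonempty_bc_nat hsqΔ.flip (Or.inr inferInstance) (DCoh.IsQCohD (X := Spec (CommRingCat.of k))).ι
    (fun K => K.2)
  obtain ⟨iM⟩ := nonempty_Lpull_inD M.left hP
  obtain ⟨iA⟩ := nonempty_Lpull_inD A.hom (AmpleLib.isInvertible_structureModule (X := Spec (CommRingCat.of k)))
  obtain ⟨sh⟩ := nonempty_map_shift (TenLocal.triExact_Lpull m.left)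
    ((DCoh.Rpush eA).obj (DCoh.inD _ (Coh.structureModule (Spec (CommRingCat.of k))))) g
  let OA := (Scheme.Modules.pullback A.hom).obj (Coh.structureModule (Spec (CommRingCat.of k)))
  have hOA : PicF.IsInvertible OA := PicLoc.isInvertible_pullback _ AmpleLib.isInvertible_structureModule
  obtain ⟨D₁, hD₁, ⟨eD₁⟩⟩ := DCat.PullPerf.exists_kflat_rep
    ((DCoh.Rpush Δ.left).obj (DerivedCategory.Q.obj (sM OA)))
  haveI := DCat.LTensorSheaf.hasLTensorCx D₁
  haveI := DCat.LTensorSheaf.hasLTensorCx (D₁⟦g⟧)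
  have eK : DerivedCategory.Q.obj (D₁⟦g⟧) ≅
      (DCoh.Rpush r.left).obj (DerivedCategory.Q.obj (sM ((Scheme.Modules.pullback M.left).obj P))) :=
    (DerivedCategory.Q.commShiftIso g).app D₁ ≪≫ (shiftFunctor _ g).mapIso (eD₁ ≪≫
      (DCoh.Rpush Δ.left).mapIso ((inDIso OA).symm ≪≫ iA.symm) ≪≫ (bΔ.app ⟨_, hO⟩).symm) ≪≫ sh.symm ≪≫
      (DCoh.Lpull m.left).mapIso eR.symm ≪≫ bM.app ⟨_, hPq⟩ ≪≫ (DCoh.Rpush r.left).mapIso (iM ≪≫ inDIso _)
  obtain ⟨π₁⟩ := nonempty_proj_nat r.left (sM ((Scheme.Modules.pullback M.left).obj P))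
    (isQCohD_sM (AmpleLib.isQCoh_of_isInvertible hM)) (D₁⟦g⟧) eK
  obtain ⟨π₂⟩ := nonempty_proj_nat Δ.left (sM OA) (isQCohD_sM (AmpleLib.isQCoh_of_isInvertible hOA)) D₁ eD₁
  obtain ⟨shT⟩ := DCat.RHomLeft.nonempty_LTensor_shift D₁ hD₁ g
  obtain ⟨oA⟩ : Nonempty (tens OA ≅ 𝟭 (DCoh.D A.left)) := by
    obtain ⟨e⟩ := Groth.Agent.AmpleLib.exists_pullStructureIso A.hom
    obtain ⟨c⟩ := nonempty_tens_congr (P := OA) ⟨e⟩
    obtain ⟨d⟩ := nonempty_tens_structure (X := A.left)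
    exact ⟨c ≪≫ d⟩
  -- the composite
  obtain ⟨n⟩ := nonempty_LTensorMod_nat P
  obtain ⟨n'⟩ := nonempty_LTensorMod_nat P'
  obtain ⟨c⟩ := nonempty_bc_nat hsq (Or.inr inferInstance) ((DCoh.IsQCohD (X := A.left)).ι ⋙ DCoh.Lpull p ⋙ tens P)
    (isQCohD_kernel p hP)
  obtain ⟨v⟩ := nonempty_Lpull_tens_inv u₁.left hP
  obtain ⟨π⟩ := nonempty_projection_tens u₂.left hP'
  obtain ⟨t⟩ := nonempty_tens_tens ((Scheme.Modules.pullback u₁.left).obj P) h₂
  obtain ⟨tc⟩ := nonempty_tens_of_eq _ hM key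
  obtain ⟨l₁⟩ := nonempty_Lpull_comp u₁.left p (r ≫ fst A A).left (congrArg (fun z => Over.Hom.left z) (lift_fst a₁ b))
  obtain ⟨l₂⟩ := nonempty_Lpull_comp r.left (fst A A).left (r ≫ fst A A).left rfl
  obtain ⟨r₁⟩ := nonempty_Rpush_comp u₂.left q' (r ≫ snd A A).left (congrArg (fun z => Over.Hom.left z) (lift_snd b a₂))
  obtain ⟨r₂⟩ := nonempty_Rpush_comp r.left (snd A A).left (r ≫ snd A A).left rfl
  obtain ⟨l₃⟩ := nonempty_Lpull_comp Δ.left (fst A A).left ((𝟙 A)⁻¹).left (congrArg (fun z => Over.Hom.left z) (lift_fst _ _))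
  obtain ⟨r₃⟩ := nonempty_Rpush_comp Δ.left (snd A A).left (𝟙 A.left) (congrArg (fun z => Over.Hom.left z) (lift_snd _ _))
  obtain ⟨r₄⟩ : Nonempty (DCoh.Rpush (𝟙 A.left) ≅ 𝟭 (DCoh.D A.left)) := by
    obtain ⟨adj⟩ := DCat.nonempty_pullPushAdj (𝟙 A.left)
    obtain ⟨e⟩ := nonempty_Lpull_id (X := A.left)
    exact ⟨(adj.ofNatIsoLeft e).rightAdjointUniq Adjunction.id⟩
  obtain ⟨_, _⟩ := DCat.exists_commShift_Rpush (snd A A).left
  let Q := (DCoh.IsQCohD (X := A.left)).ι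
  let Q₁ : _ ⥤ (DCoh.IsQCohD (X := (A ⊗ A).left)).FullSubcategory :=
    ObjectProperty.lift _ (Q ⋙ DCoh.Lpull (fst A A).left) (fun K => DQCoh.isQCohD_Lpull _ _ K.2)
  have e₁ : DCoh.Lpull u₁.left ⋙ DCoh.Rpush u₂.left ⋙ tens P' ⋙ DCoh.Rpush q' ≅
      DCoh.Lpull u₁.left ⋙ tens ((Scheme.Modules.pullback u₂.left).obj P') ⋙ DCoh.Rpush (r ≫ snd A A).left :=
    Functor.isoWhiskerLeft _ ((Functor.associator _ _ _).symm ≪≫ Functor.isoWhiskerRight π _ ≪≫
      Functor.associator _ _ _ ≪≫ Functor.isoWhiskerLeft _ r₁)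
  have e₂ : DCoh.Lpull p ⋙ tens P ⋙ DCoh.Lpull u₁.left ⋙ tens ((Scheme.Modules.pullback u₂.left).obj P') ≅
      DCoh.Lpull (fst A A).left ⋙ DCoh.Lpull r.left ⋙ tens ((Scheme.Modules.pullback M.left).obj P) :=
    Functor.isoWhiskerLeft _ ((Functor.associator _ _ _).symm ≪≫ Functor.isoWhiskerRight v _ ≪≫
      Functor.associator _ _ _) ≪≫ (Functor.associator _ _ _).symm ≪≫
      Functor.isoWhiskerRight (l₁ ≪≫ l₂.symm) _ ≪≫ Functor.associator _ _ _ ≪≫
      Functor.isoWhiskerLeft _ (Functor.isoWhiskerLeft _ (t ≪≫ tc))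
  refine ⟨Functor.isoWhiskerLeft Q (Functor.isoWhiskerRight (Functor.isoWhiskerLeft _
    (Functor.isoWhiskerRight n _)) _) ≪≫ Functor.isoWhiskerLeft Q (Functor.isoWhiskerLeft _
      (Functor.isoWhiskerLeft _ (Functor.isoWhiskerRight n' _))) ≪≫ ?_⟩
  refine (?_ : _ ≅ (Q ⋙ DCoh.Lpull p ⋙ tens P ⋙ DCoh.Rpush q ⋙ DCoh.Lpull p') ⋙ (tens P' ⋙ DCoh.Rpush q')) ≪≫ ?_
  · exact Iso.refl _
  refine Functor.isoWhiskerRight ((Functor.associator _ _ _).symm.trans (Iso.refl _) ≪≫ c) _ ≪≫ ?_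
  refine (?_ : _ ≅ Q ⋙ DCoh.Lpull p ⋙ tens P ⋙ DCoh.Lpull u₁.left ⋙ DCoh.Rpush u₂.left ⋙ tens P' ⋙
    DCoh.Rpush q') ≪≫ ?_
  · exact Iso.refl _
  refine Functor.isoWhiskerLeft Q (Functor.isoWhiskerLeft _ (Functor.isoWhiskerLeft _ e₁)) ≪≫
    Functor.isoWhiskerLeft Q ((Iso.refl _ : _ ≅ (DCoh.Lpull p ⋙ tens P ⋙ DCoh.Lpull u₁.left ⋙
      tens ((Scheme.Modules.pullback u₂.left).obj P')) ⋙ DCoh.Rpush (r ≫ snd A A).left) ≪≫
      Functor.isoWhiskerRight e₂ _ ≪≫ Functor.isoWhiskerLeft _ r₂.symm) ≪≫ ?_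
  refine (?_ : _ ≅ (Q₁ ⋙ (DCoh.IsQCohD (X := (A ⊗ A).left)).ι ⋙ DCoh.Lpull r.left ⋙
    tens ((Scheme.Modules.pullback M.left).obj P) ⋙ DCoh.Rpush r.left) ⋙ DCoh.Rpush (snd A A).left) ≪≫ ?_
  · exact Iso.refl _
  refine Functor.isoWhiskerRight (Functor.isoWhiskerLeft Q₁ (π₁.symm ≪≫ Functor.isoWhiskerLeft _ shT ≪≫
      (Functor.associator _ _ _).symm ≪≫ Functor.isoWhiskerRight π₂ _)) _ ≪≫ ?_
  refine (?_ : _ ≅ Q ⋙ (DCoh.Lpull (fst A A).left ⋙ DCoh.Lpull Δ.left) ⋙ tens OA ⋙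
    DCoh.Rpush Δ.left ⋙ (shiftFunctor _ g ⋙ DCoh.Rpush (snd A A).left)) ≪≫ ?_
  · exact Iso.refl _
  exact Functor.isoWhiskerLeft Q (Functor.isoWhiskerRight l₃ _ ≪≫ Functor.isoWhiskerLeft _
    (Functor.isoWhiskerRight oA _ ≪≫ Functor.leftUnitor _ ≪≫
      Functor.isoWhiskerLeft _ ((DCoh.Rpush (snd A A).left).commShiftIso g) ≪≫ (Functor.associator _ _ _).symm ≪≫
      Functor.isoWhiskerRight (r₃ ≪≫ r₄) _ ≪≫ Functor.leftUnitor _))

end Groth.Agent.BCFlat16
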