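import Groth.Agent.BCFlat16.PoincareFstFinite
import Groth.Agent.BCFlat16.FMObj
import Groth.Agent.FlatBC14.Main
import Groth.Agent.DQCoh.AffinePush
import Groth.Agent.Dual22Lib.RepLib
import Groth.Agent.CohEdge27.Product

/-!
# The direct image of the Poincaré module to the abelian variety
-/

set_option autoImplicit false
set_option linter.style.haveILetI false
set_option backward.isDefEq.respectTransparency.types false
set_option maxHeartbeats 1600000

universe u

open CategoryTheory CategoryTheory.Limits MonoidalCategory CartesianMonoidalCategory MonObj GrpObj AlgebraicGeometry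
  Opposite TopologicalSpace
open Groth.Agent Groth.Agent.PicLib Groth.Agent.AbCubeLib Groth.Agent.AbDualLib Groth.Agent.Coherent
  Groth.Agent.Coherent.CohBC

attribute [local instance] HasDerivedCategory.standard

namespace Groth.Agent.BCFlat16

variable {k : Type u} [Field k] {A At : Over (Spec (CommRingCat.of k))}
  [GrpObj A] [IsProper A.hom] [Smooth A.hom] [GeometricallyConnected A.hom]
  [GrpObj At] [IsProper At.hom] [Smooth At.hom] [GeometricallyConnected At.hom]
  {φ : ∀ T : Over (Spec (CommRingCat.of k)), PicF.Cl (PicF.XT A.hom T) → (T ⟶ At)}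
  (hφ : AbDual.IsDualAV Scheme.fppfPrecoverage A At φ) {P : (A ⊗ At).left.Modules}
  (hP : PicF.IsInvertible P) (hPξ : AbDual.IsPoincareCl A At φ (PicF.cl P))

instance isProper_fst_left : IsProper (fst A At).left := inferInstanceAs (IsProper (pullback.fst A.hom At.hom))

instance flat_fst_left : Flat (fst A At).left := by
  haveI : Flat At.hom := CubeLib.flat_of_field _
  exact inferInstanceAs (Flat (pullback.fst A.hom At.hom))

include hφ hP hPξ in
/-- The direct images to `A` are supported on a finite closed set. -/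
theorem exists_finite_support [HasInjectiveResolutions (A ⊗ At).left.Modules] :
    ∃ S : Set A.left, S.Finite ∧ IsClosed S ∧
      ∀ y, y ∉ S → ∀ p, Subsingleton (((Coh.Rpush (fst A At).left p).obj P).presheaf.stalk y : Type u) := by
  obtain ⟨Pc, hPc, h0, hid, hrig⟩ := exists_poincare hPξ
  obtain rfl : Pc = PicM.of hP := PicM.ext hPc.symm
  obtain ⟨S, hSf, hSc, hS⟩ := exists_finite_trivial hφ h0 hid hrig
  haveI : GeometricallyIntegral At.hom := AbVarLib.geometricallyIntegral_of_smooth At.hom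
  haveI : IsLocallyNoetherian A.left := LocallyOfFiniteType.isLocallyNoetherian A.hom
  haveI : Coh.IsQCoh P := AmpleLib.isQCoh_of_isInvertible hP
  have hcoh : Coh.IsCoh P := PicLib.isCoh_of_isInvertible hP
  have hfib : ∀ y : A.left, y ∉ S → ∀ p, CohIII.fiberRank (fst A At).left P p y = 0 := by
    intro y hy p
    let K := AlgebraicClosure (A.left.residueField y)
    let tl : Spec (CommRingCat.of K) ⟶ A.left :=
      Spec.map (CommRingCat.ofHom (algebraMap (A.left.residueField y) K)) ≫ A.left.fromSpecResidueField y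
    have htl : tl (IsLocalRing.closedPoint K) = y := by
      show A.left.fromSpecResidueField y ((Spec.map (CommRingCat.ofHom (algebraMap (A.left.residueField y) K))) _) = y
      exact Scheme.fromSpecResidueField_apply y _
    let s : Spec (CommRingCat.of K) ⟶ Spec (CommRingCat.of k) := tl ≫ A.hom
    let T : Over (Spec (CommRingCat.of k)) := Over.mk s
    let t : T ⟶ A := Over.homMk tl rfl
    let A' := (Over.pullback s).obj At
    letI : GrpObj A' := Functor.grpObjObj
    haveI : IsProper A'.hom := inferInstanceAs (IsProper (pullback.snd At.hom s))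
    haveI : GeometricallyIntegral A'.hom := inferInstanceAs (GeometricallyIntegral (pullback.snd At.hom s))
    let σ : At ⊗ T ⟶ A ⊗ At := CartesianMonoidalCategory.lift (snd At T ≫ t) (fst At T)
    let L : A'.left.Modules := (Scheme.Modules.pullback σ.left).obj P
    have hL : PicF.IsInvertible L := PicLoc.isInvertible_pullback _ hP
    have hcL : PicM.of hL = ev (PicM.of hP) (snd At T ≫ t) (fst At T) := (PicM.pull_of _ hP).symm
    have hne : PicM.of hL ≠ 1 := fun h => hy (by
      rw [← htl]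
      refine hS K s t ?_
      have e := congrArg (PicM.pull (CartesianMonoidalCategory.lift (snd T At) (fst T At)).left)
        (hcL.symm.trans h)
      rw [pull_ev, lift_snd_assoc, lift_fst] at e
      exact e.trans (map_one _))
    have hinv : ∀ a : 𝟙_ (Over (Spec (CommRingCat.of K))) ⟶ A',
        pb (𝟙 A' * (toUnit A' ≫ a)) (PicM.of hL) = PicM.of hL := by
      intro a
      let a₀ : T ⟶ At := Over.homMk (a.left ≫ pullback.fst At.hom s) (by
        show (a.left ≫ pullback.fst At.hom s) ≫ At.hom = s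
        rw [Category.assoc, pullback.condition]
        exact (Category.assoc _ _ _).symm.trans ((congrArg (· ≫ s) (Over.w a)).trans (Category.id_comp _)))
      have hm : (𝟙 A' * (toUnit A' ≫ a)).left =
          (CartesianMonoidalCategory.lift (fst At T * (snd At T ≫ a₀)) (snd At T)).left := by
        let V₀ : Over (Spec (CommRingCat.of k)) := Over.mk (A'.hom ≫ s)
        let j : V₀ ⟶ At ⊗ T := Over.homMk (𝟙 (pullback At.hom s))
          ((Category.id_comp _).trans pullback.condition)
        refine pullback.hom_ext ?_ ?_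
        · refine Eq.trans ?_ (congrArg (fun φ => Over.Hom.left φ)
            (lift_fst (fst At T * (snd At T ≫ a₀)) (snd At T))).symm
          refine (AbDualLib.mul_left_pullback_fst s (V := A') (𝟙 A') (toUnit A' ≫ a) (j ≫ fst At T)
            (j ≫ snd At T ≫ a₀) ?_ ?_).trans ?_
          · rw [Over.id_left, Category.id_comp]
            exact (Category.id_comp _).symm
          · rw [Over.comp_left, Category.assoc]
            exact (congrArg (· ≫ a.left ≫ pullback.fst At.hom s) (CubeLib.toUnit_left A')).trans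
              ((Category.id_comp _).symm.trans (congrArg (𝟙 (pullback At.hom s) ≫ ·) rfl))
          · rw [← MonObj.comp_mul]
            exact Category.id_comp _
        · exact (Over.w (𝟙 A' * (toUnit A' ≫ a))).trans ((congrArg (fun φ => Over.Hom.left φ)
            (lift_snd (fst At T * (snd At T ≫ a₀)) (snd At T)))).symm
      show PicM.pull _ _ = _
      rw [hm, hcL]
      show PicM.pull (CartesianMonoidalCategory.lift (fst At T * (snd At T ≫ a₀)) (snd At T)).left
        (ev (PicM.of hP) (snd At T ≫ t) (fst At T)) = _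
      rw [pull_ev, lift_snd_assoc, lift_fst, FMClass.ev_mul_right hφ h0 hid hrig, ← pull_ev (PicM.of hP) t a₀ (snd At T),
        PicM.eq_one_of_field K (ev (PicM.of hP) t a₀), map_one, _root_.mul_one]
    have hsq : IsPullback σ.left (pullback.snd At.hom s) (fst A At).left tl := by
      refine IsPullback.of_right ?_ ?_ (IsPullback.of_hasPullback A.hom At.hom).flip
      · rw [show σ.left ≫ pullback.snd A.hom At.hom = pullback.fst At.hom s from
          (congrArg (fun z => Over.Hom.left z) (lift_snd (snd At T ≫ t) (fst At T)))]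
        exact IsPullback.of_hasPullback At.hom s
      · exact congrArg (fun z => Over.Hom.left z) (lift_fst (snd At T ≫ t) (fst At T))
    rw [← htl, AbCohLib.fiberRank_eq_zero_iff_of_isPullback (fst A At).left P hcoh (pullback.snd At.hom s) hsq p]
    exact AbCohLib.subsingleton_HH_of_invariant (A := A') hL hinv hne p
  refine ⟨S, hSf, hSc, fun y hy p => ?_⟩
  let U : A.left.Opens := ⟨Sᶜ, hSc.isOpen_compl⟩
  have hfl : FlatMod.IsFlatOver (fst A At).left P := SeeSaw5.isFlatOver_of_invertible (f := (fst A At).left) hP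
  have hU := CohBC.isZero_rpush_restrict (fst A At).left P hcoh hfl p U fun z hz => hfib z hz p
  refine subsingleton_of_forall_eq 0 fun a => ?_
  obtain ⟨W, hW, m, rfl⟩ := ((Coh.Rpush (fst A At).left p).obj P).presheaf.exists_germ_eq a
  have hs := CohEdge27.subsingleton_of_isZero hU (U.ι ⁻¹ᵁ W)
  have hs' : Subsingleton Γ((Coh.Rpush (fst A At).left p).obj P, U.ι ''ᵁ U.ι ⁻¹ᵁ W) := hs
  have hle : U.ι ''ᵁ U.ι ⁻¹ᵁ W ≤ W := by
    rintro _ ⟨z, hz, rfl⟩; exact hz
  rw [← TopCat.Presheaf.germ_res_apply _ (homOfLE hle) y ⟨⟨y, hy⟩, hW, rfl⟩,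
    hs'.elim (ConcreteCategory.hom (((Coh.Rpush (fst A At).left p).obj P).presheaf.map (homOfLE hle).op) m) 0,
    map_zero]

omit [GrpObj A] [Smooth A.hom] [GeometricallyConnected A.hom] [GrpObj At] [Smooth At.hom]
  [GeometricallyConnected At.hom] in
/-- If all direct images vanish near a rational point, the cohomology of the fibre vanishes. -/
theorem false_of_vanish {P : (A ⊗ At).left.Modules} (hP : PicF.IsInvertible P) [Flat At.hom]
    [HasInjectiveResolutions (A ⊗ At).left.Modules] [Nonempty At.left]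
    (e : 𝟙_ (Over (Spec (CommRingCat.of k))) ⟶ A)
    (he : ev (A := A) (B := At) (PicM.of hP) (toUnit At ≫ e) (𝟙 At) = 1)
    (U : A.left.Opens) (heU : e.left (IsLocalRing.closedPoint k) ∈ U)
    (hU : ∀ i : ℕ, IsZero (((Coh.Rpush (fst A At).left i).obj P).restrict U.ι)) : False := by
  haveI := Coherent.hasInjectiveResolutions_modules At.left
  let p := (fst A At).left
  let j : At ⟶ A ⊗ At := CartesianMonoidalCategory.lift (toUnit At ≫ e) (𝟙 At)
  haveI : IsProper p := inferInstanceAs (IsProper (pullback.fst A.hom At.hom))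
  haveI : Flat p := inferInstanceAs (Flat (pullback.fst A.hom At.hom))
  have hsq : IsPullback j.left At.hom p e.left := by
    refine IsPullback.of_right (h₁₂ := (snd A At).left) (v₁₃ := At.hom) (h₂₂ := A.hom) ?_ ?_
      (IsPullback.of_hasPullback A.hom At.hom).flip
    · rw [show j.left ≫ (snd A At).left = 𝟙 _ from congrArg (fun z => Over.Hom.left z) (lift_snd _ _),
        show e.left ≫ A.hom = 𝟙 (Spec (CommRingCat.of k)) from (Over.w e).trans rfl]
      exact IsPullback.of_horiz_isIso ⟨(Category.id_comp _).trans (Category.comp_id _).symm⟩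
    · exact (congrArg (fun z => Over.Hom.left z) (lift_fst (toUnit At ≫ e) (𝟙 At))).trans
        (by rw [Over.comp_left, Over.toUnit_left])
  have hr : Set.range e.left ⊆ Set.range U.ι := by
    rw [Scheme.Opens.range_ι]
    rintro _ ⟨w, rfl⟩
    rwa [Subsingleton.elim (α := PrimeSpectrum k) w (IsLocalRing.closedPoint k)]
  let e' := IsOpenImmersion.lift U.ι e.left hr
  have he' : e' ≫ U.ι = e.left := IsOpenImmersion.lift_fac _ _ _
  haveI := DCat.hasRpush p
  haveI := DCat.hasRpush At.hom
  haveI := DCat.hasLpull e.left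
  haveI := DCat.hasLpull j.left
  haveI := DCat.hasLpull e'
  haveI := DCat.hasLpull U.ι
  have hPq : DCoh.IsQCohD (DCoh.inD (A ⊗ At).left P) := by
    haveI := AmpleLib.isQCoh_of_isInvertible hP
    exact FlatBC14.isQCohD_inD P
  obtain ⟨c⟩ := nonempty_bc_nat hsq (Or.inl inferInstance) (DCoh.IsQCohD (X := (A ⊗ At).left)).ι (fun K => K.2)
  obtain ⟨l⟩ := nonempty_Lpull_comp e' U.ι e.left he'
  have hz₁ : IsZero ((DCoh.Lpull U.ι).obj ((DCoh.Rpush p).obj (DCoh.inD _ P))) := by
    refine DQCoh.isZero_of_isZero_hd _ fun i => ?_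
    obtain ⟨h⟩ := FlatBC14.nonempty_homology_Lpull U.ι ((DCoh.Rpush p).obj (DCoh.inD _ P)) i
    refine IsZero.of_iso ?_ h
    rcases lt_or_ge i 0 with hi | hi
    · haveI := Dual22Lib.RepLib.isGE_Rpush p (DCoh.inD _ P) 0
      exact Functor.map_isZero _ (DerivedCategory.isZero_of_isGE _ 0 i hi)
    · obtain ⟨n, rfl⟩ := Int.eq_ofNat_of_zero_le hi
      obtain ⟨a⟩ := FlatBC14.nonempty_homology_Rpush p P n
      exact (hU n).of_iso ((Scheme.Modules.pullback U.ι).mapIso a ≪≫
        ((Scheme.Modules.restrictFunctorIsoPullback U.ι).app _).symm)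
  have hz₂ : IsZero ((DCoh.Rpush At.hom).obj ((DCoh.Lpull j.left).obj (DCoh.inD _ P))) :=
    (((Dual22Lib.TenLocal.triExact_Lpull e').map_isZero hz₁).of_iso (l.app _).symm).of_iso (c.app ⟨_, hPq⟩).symm
  obtain ⟨iP⟩ := nonempty_Lpull_inD j.left hP
  have hO : Nonempty ((Scheme.Modules.pullback j.left).obj P ≅ Coh.structureModule At.left) := by
    refine (PicM.of_eq_one_iff (PicLoc.isInvertible_pullback _ hP)).1 ?_
    rw [← PicM.pull_of _ hP]
    exact he
  obtain ⟨iO⟩ := hO
  obtain ⟨a⟩ := FlatBC14.nonempty_homology_Rpush At.hom (Coh.structureModule At.left) 0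
  have hz₃ : IsZero ((Coh.Rpush At.hom 0).obj (Coh.structureModule At.left)) :=
    ((DerivedCategory.homologyFunctor _ _).map_isZero (hz₂.of_iso ((DCoh.Rpush At.hom).mapIso
      ((DerivedCategory.singleFunctor _ 0).mapIso iO.symm ≪≫ iP.symm)))).of_iso a.symm
  haveI := QCohLoc.isQCoh_structureModule At.left
  obtain ⟨ψ⟩ := exists_rpush_sections_equiv At.hom (isAffineOpen_top (Spec (CommRingCat.of k)))
    (Coh.structureModule At.left) 0
  haveI := CohEdge27.subsingleton_of_isZero hz₃ ⊤
  let M₀ := (Coh.structureModule At.left).restrict (At.hom ⁻¹ᵁ ⊤).ι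
  haveI h₁ : Subsingleton (Coh.HH (At.hom ⁻¹ᵁ ⊤).toScheme M₀ 0) := ψ.toEquiv.subsingleton
  haveI h₂ : Subsingleton Γ(M₀, ⊤) := (CohEdge27.hhZero M₀).symm.toEquiv.subsingleton
  haveI : Nonempty ((At.hom ⁻¹ᵁ ⊤).ι ''ᵁ ⊤ : At.left.Opens) :=
    ⟨⟨Classical.arbitrary _, ⟨⟨Classical.arbitrary _, trivial⟩, trivial, rfl⟩⟩⟩
  exact not_subsingleton Γ(At.left, (At.hom ⁻¹ᵁ ⊤).ι ''ᵁ ⊤) h₂

include hφ hP hPξ in
/-- **The direct image of the Poincaré module to `A` is the skyscraper at the origin in the top degree.** -/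
theorem rpush_fst [HasInjectiveResolutions (A ⊗ At).left.Modules] {g : ℕ}
    (hg : topologicalKrullDim A.left = g) :
    (∀ i : ℕ, i ≠ g → IsZero ((Coh.Rpush (fst A At).left i).obj P)) ∧
      Nonempty ((Coh.Rpush (fst A At).left g).obj P ≅
        (Coh.push η[A].left).obj (Coh.structureModule (Spec (CommRingCat.of k)))) := by
  haveI : GeometricallyIntegral A.hom := AbVarLib.geometricallyIntegral_of_smooth A.hom
  haveI : GeometricallyIntegral At.hom := AbVarLib.geometricallyIntegral_of_smooth At.hom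
  haveI : Flat At.hom := CubeLib.flat_of_field _
  haveI : Nonempty At.left := ⟨η[At].left (IsLocalRing.closedPoint k)⟩
  haveI : CompactSpace A.left := QuasiCompact.compactSpace_of_compactSpace A.hom
  haveI : IsLocallyNoetherian A.left := LocallyOfFiniteType.isLocallyNoetherian A.hom
  haveI : IsNoetherian A.left := {}
  haveI : QuasiSeparatedSpace A.left := quasiSeparatedSpace_of_quasiSeparated A.hom
  haveI : Coh.IsQCoh P := AmpleLib.isQCoh_of_isInvertible hP
  obtain ⟨S, hSf, hSc, hS⟩ := exists_finite_support hφ hP hPξ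
  let o : A.left := η[A].left (IsLocalRing.closedPoint k)
  obtain ⟨L, -, hamp⟩ := AbCubeLib.exists_ample A
  obtain ⟨m₀, -, b, hbZ, -, hV⟩ := AmpleLib.exists_affine_glocus_finite (U := (⊤ : A.left.Opens)) hamp (insert o S)
    (hSf.insert o) (fun _ _ => trivial)
  let V : A.left.Opens := AmpleLib.glocus _ b
  have hoV : o ∈ V := hbZ (Set.mem_insert _ _)
  have hSV : S ⊆ V := fun y hy => hbZ (Set.mem_insert_of_mem _ hy)
  let W : A.left.Opens := ⟨Sᶜ, hSc.isOpen_compl⟩
  let p := (fst A At).left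
  have hbij : ∀ i, Function.Bijective (resH (X := (A ⊗ At).left.toTopCat) (Coh.toAb P) i
      (le_top : p ⁻¹ᵁ V ≤ ⊤)) := fun i =>
    AbCohLib.bijective_resH_of_support p P (Z := S) (fun y hy q => hS y hy q) hSV hV.isCompact (W := W)
      (TopologicalSpace.NoetherianSpace.isCompact _) (fun y hy => hy)
      (top_le_iff.1 fun y _ => (em (y ∈ S)).elim (fun h => Or.inl (hSV h)) Or.inr) i
  let U := p ⁻¹ᵁ V
  have hsub : ∀ i, i ≠ g → Subsingleton Γ((Coh.Rpush p i).obj P, V) := fun i hi => by
    haveI := AbCohLib.subsingleton_HH_ne hφ hP hPξ hg hi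
    haveI : Subsingleton (Sheaf.H' (Coh.toAb P) i (⊤ : (A ⊗ At).left.Opens)) :=
      (HHTopEquiv P i).symm.toEquiv.subsingleton
    haveI : Subsingleton (Sheaf.H' (Coh.toAb P) i U) := ⟨fun x y => by
      obtain ⟨x', rfl⟩ := (hbij i).surjective x
      obtain ⟨y', rfl⟩ := (hbij i).surjective y
      exact congrArg _ ((HHTopEquiv P i).symm.toEquiv.subsingleton.elim x' y')⟩
    haveI : Subsingleton (Coh.HH U.toScheme (P.restrict U.ι) i) := (HHonEquiv P U i).toEquiv.subsingleton
    obtain ⟨ψ⟩ := exists_rpush_sections_equiv p hV P i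
    exact ψ.symm.toEquiv.subsingleton
  -- the one dimensional space of sections
  letI : (A ⊗ At).left.Over (Spec (CommRingCat.of k)) := ⟨(A ⊗ At).hom⟩
  letI : U.toScheme.Over (Spec (CommRingCat.of k)) := ⟨U.ι ≫ ((A ⊗ At).left ↘ Spec (CommRingCat.of k))⟩
  have hfr : Module.finrank k (Coh.HH U.toScheme (P.restrict U.ι) g) = 1 := by
    rw [← AbCohLib.finrank_HH_restrict P k U g (hbij g)]
    exact AbCohLib.finrank_HH_top hφ hP hPξ hg
  letI : U.toScheme.Over (Spec (CommRingCat.of Γ(A.left, V))) := ⟨toSpecSections p hV⟩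
  let a : k → Γ(A.left, V) := fun c => A.left.presheaf.map (homOfLE (le_top (a := V))).op (Coh.toGlobal A.hom c)
  have hact : ∀ (c : k) (z : Coh.HH U.toScheme (P.restrict U.ι) g), c • z = a c • z := by
    intro c z
    have h : Coh.toGlobal (U.ι ≫ ((A ⊗ At).left ↘ Spec (CommRingCat.of k))) c =
        Coh.toGlobal (toSpecSections p hV) (a c) := by
      have hw : (A ⊗ At).hom = p ≫ A.hom := (Over.w (fst A At)).symm
      have h1 : U.ι ≫ (A ⊗ At).hom = (p ∣_ V) ≫ V.ι ≫ A.hom := by
        rw [hw, ← Category.assoc, ← morphismRestrict_ι, Category.assoc]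
      show Coh.toGlobal (U.ι ≫ (A ⊗ At).hom) c = _
      rw [h1]
      show ((p ∣_ V) ≫ V.ι ≫ A.hom).appTop ((Scheme.ΓSpecIso (CommRingCat.of k)).inv c) =
        (toSpecSections p hV).appTop ((Scheme.ΓSpecIso Γ(A.left, V)).inv (a c))
      rw [Scheme.Hom.comp_appTop, Scheme.Hom.comp_appTop, Scheme.Hom.comp_appTop, ConcreteCategory.comp_apply,
        ConcreteCategory.comp_apply, ConcreteCategory.comp_apply, IsAffineOpen.isoSpec_hom_appTop,
        ConcreteCategory.comp_apply, Iso.inv_hom_id_apply]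
      refine congrArg (p ∣_ V).appTop ?_
      rw [Scheme.Opens.ι_appTop]
      show _ = V.topIso.inv (A.left.presheaf.map (homOfLE (le_top (a := V))).op (Coh.toGlobal A.hom c))
      rw [Scheme.Opens.topIso, Functor.mapIso_inv]
      refine Eq.trans ?_ (ConcreteCategory.congr_hom (A.left.presheaf.map_comp (homOfLE (le_top (a := V))).op
        (eqToIso V.ι_image_top.symm).op.inv) (Coh.toGlobal A.hom c))
      rfl
    show Coh.toGlobal (U.ι ≫ ((A ⊗ At).left ↘ Spec (CommRingCat.of k))) c • z =
      Coh.toGlobal (toSpecSections p hV) (a c) • z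
    rw [h]
  have ha0 : a 0 = 0 := by
    show (A.left.presheaf.map (homOfLE (le_top (a := V))).op).hom (Coh.toGlobal A.hom 0) = 0
    rw [map_zero]
    exact map_zero _
  obtain ⟨ψ⟩ := exists_rpush_sections_equiv p hV P g
  obtain ⟨z₀, hz₀, hspan⟩ := finrank_eq_one_iff'.1 hfr
  let R := (Coh.Rpush p g).obj P
  haveI hRq : Coh.IsQCoh R := Coherent.isQCoh_rpush p P g
  haveI : R.IsQuasicoherent := hRq
  let m : Γ(R, V) := ψ z₀
  have hm : m ≠ 0 := fun h => hz₀ (ψ.map_eq_zero_iff.1 h)
  have hgen : ∀ x : Γ(R, V), ∃ c : k, x = a c • m := fun x => by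
    obtain ⟨c, hc⟩ := hspan (ψ.symm x)
    refine ⟨c, ?_⟩
    rw [hact] at hc
    rw [← ψ.apply_symm_apply x, ← hc, ψ.map_smul]
  -- where the generator survives
  have hgerm0 : ∀ (y : A.left) (hy : y ∈ V), R.presheaf.germ V y hy m = 0 →
      Subsingleton (R.presheaf.stalk y : Type u) := fun y hy h => subsingleton_of_forall_eq 0 fun z => by
    obtain ⟨f, x, hf, hfx⟩ := QCohLoc.exists_smul_stalk_eq_germ R hV hy z
    obtain ⟨c, rfl⟩ := hgen x
    rw [QCohLoc.germ_smul' R hy, h, smul_zero] at hfx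
    exact (((Scheme.mem_basicOpen _ f y hy).1 hf).smul_eq_zero).1 hfx
  have hzero : ∀ i, i ≠ g → IsZero ((Coh.Rpush p i).obj P) := fun i hi => by
    haveI : Coh.IsQCoh ((Coh.Rpush p i).obj P) := Coherent.isQCoh_rpush p P i
    have hst : ∀ y, Subsingleton (((Coh.Rpush p i).obj P).presheaf.stalk y : Type u) := fun y => by
      by_cases hy : y ∈ S
      · refine subsingleton_of_forall_eq 0 fun z => ?_
        obtain ⟨f, x, hf, hfx⟩ := QCohLoc.exists_smul_stalk_eq_germ
          (M := (Coh.Rpush p i).obj P) hV (hSV hy) z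
        rw [(hsub i hi).elim x 0, map_zero] at hfx
        exact (((Scheme.mem_basicOpen _ f y (hSV hy)).1 hf).smul_eq_zero).1 hfx
      · exact hS y hy i
    rw [IsZero.iff_id_eq_zero]
    refine Scheme.Modules.hom_ext _ _ fun O => ?_
    ext x
    exact TopCat.Presheaf.section_ext (⟨((Coh.Rpush p i).obj P).presheaf, ((Coh.Rpush p i).obj P).isSheaf⟩ :
      TopCat.Sheaf Ab A.left) O _ _ fun y _ => (hst y).elim _ _
  refine ⟨hzero, ?_⟩
  -- the generator survives at the origin
  have ho : R.presheaf.germ V o hoV m ≠ 0 := by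
    intro h
    obtain ⟨f, hof, hfm⟩ := QCohLoc.exists_smul_eq_zero_of_germ R hV hoV m h
    have hR0 : IsZero (R.restrict (A.left.basicOpen f).ι) := by
      refine CohBC.isZero_restrict_of_sections _ _ fun O _ hO => ⟨fun x y => ?_⟩
      refine TopCat.Presheaf.section_ext (⟨R.presheaf, R.isSheaf⟩ : TopCat.Sheaf Ab A.left) O x y fun z hz => ?_
      have hzV : z ∈ V := A.left.basicOpen_le f (hO hz)
      have h0 : R.presheaf.germ V z hzV m = 0 := by
        have h1 := congrArg (R.presheaf.germ V z hzV) hfm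
        rw [QCohLoc.germ_smul' R hzV, map_zero] at h1
        exact (((Scheme.mem_basicOpen _ f z hzV).1 (hO hz)).smul_eq_zero).1 h1
      exact (hgerm0 z hzV h0).elim _ _
    obtain ⟨Pc, hPc, -, -, hrig⟩ := exists_poincare hPξ
    obtain rfl : Pc = PicM.of hP := PicM.ext hPc.symm
    refine false_of_vanish hP η[A] ?_ (A.left.basicOpen f) hof fun i => ?_
    · rw [show toUnit At ≫ η[A] = (1 : At ⟶ A) from rfl]
      exact hrig
    · by_cases hi : i = g
      · exact hi ▸ hR0
      · exact (Scheme.Modules.restrictFunctor (A.left.basicOpen f).ι).map_isZero (hzero i hi)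
  haveI : IsClosedImmersion η[A].left := by
    haveI : IsClosedImmersion (η[A].left ≫ A.hom) := by
      rw [show η[A].left ≫ A.hom = 𝟙 _ from Over.w η[A]]; infer_instance
    exact IsClosedImmersion.of_comp _ A.hom
  have hunit : ∀ c : k, c ≠ 0 → IsUnit (a c) := fun c hc =>
    ((isUnit_iff_ne_zero.2 hc).map (Coh.toGlobal A.hom)).map (A.left.presheaf.map (homOfLE (le_top (a := V))).op).hom
  have hvan : ∀ f : Γ(A.left, V), f • m = 0 → ∀ (y : A.left) (hy : y ∈ V),
      R.presheaf.germ V y hy m ≠ 0 → y ∉ A.left.basicOpen f := fun f hf y hy hne hyf => hne (by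
    have h1 := congrArg (R.presheaf.germ V y hy) hf
    rw [QCohLoc.germ_smul' R hy, map_zero] at h1
    exact (((Scheme.mem_basicOpen _ f y hy).1 hyf).smul_eq_zero).1 h1)
  have hkey : ∀ (f : Γ(A.left, V)) (y : A.left) (hy : y ∈ V), R.presheaf.germ V y hy m ≠ 0 →
      (y ∈ A.left.basicOpen f ↔ f • m ≠ 0) := fun f y hy hne => by
    refine ⟨fun hyf hf => hvan f hf y hy hne hyf, fun hf => ?_⟩
    obtain ⟨c, hc⟩ := hgen (f • m)
    have hc0 : c ≠ 0 := fun h0 => hf (by rw [hc, h0, ha0, zero_smul])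
    by_contra hyf
    have h' : (f - a c) • m = 0 := by rw [sub_smul, hc, sub_self]
    refine hvan _ h' y hy hne ?_
    rw [Scheme.mem_basicOpen _ _ _ hy, map_sub]
    by_contra hsub'
    have h1 : A.left.presheaf.germ V y hy f ∈ IsLocalRing.maximalIdeal (A.left.presheaf.stalk y) :=
      (IsLocalRing.mem_maximalIdeal _).2 fun hu => hyf ((Scheme.mem_basicOpen _ _ _ hy).2 hu)
    have h2 : A.left.presheaf.germ V y hy f - A.left.presheaf.germ V y hy (a c) ∈
        IsLocalRing.maximalIdeal (A.left.presheaf.stalk y) := (IsLocalRing.mem_maximalIdeal _).2 hsub'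
    have h3 := sub_mem h1 h2
    rw [sub_sub_cancel] at h3
    exact (IsLocalRing.mem_maximalIdeal _).1 h3 ((hunit c hc0).map (A.left.presheaf.germ V y hy).hom)
  have hoff : ∀ y, y ≠ o → Subsingleton (R.presheaf.stalk y : Type u) := fun y hy => by
    by_cases hyS : y ∈ S
    · refine hgerm0 y (hSV hyS) (by_contra fun hne => hy ?_)
      refine (Inseparable.eq ?_)
      refine inseparable_iff_forall_isOpen.2 fun O hO => ⟨fun hyO => ?_, fun hoO => ?_⟩
      · obtain ⟨f, hfO, hyf⟩ := hV.exists_basicOpen_le (V := ⟨O, hO⟩) ⟨y, hyO⟩ (hSV hyS)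
        exact hfO ((hkey f o hoV ho).2 ((hkey f y (hSV hyS) hne).1 hyf))
      · obtain ⟨f, hfO, hof⟩ := hV.exists_basicOpen_le (V := ⟨O, hO⟩) ⟨o, hoO⟩ hoV
        exact hfO ((hkey f y (hSV hyS) hne).2 ((hkey f o hoV ho).1 hof))
    · exact hS y hyS g
  refine AbCohLib.nonempty_iso_push_of_length_one (k := k) η[A].left hoff ?_
  refine Module.length_eq_one_iff.2 (isSimpleModule_iff_toSpanSingleton_surjective.2
    ⟨⟨⟨_, _, ho⟩⟩, fun z hz w => ?_⟩)
  obtain ⟨f, x, hf, hfx⟩ := QCohLoc.exists_smul_stalk_eq_germ R hV hoV z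
  obtain ⟨f', x', hf', hfx'⟩ := QCohLoc.exists_smul_stalk_eq_germ R hV hoV w
  obtain ⟨c, rfl⟩ := hgen x
  obtain ⟨c', rfl⟩ := hgen x'
  have hu := (Scheme.mem_basicOpen _ f o hoV).1 hf
  obtain ⟨u', hu'⟩ := (Scheme.mem_basicOpen _ f' o hoV).1 hf'
  rw [QCohLoc.germ_smul' R hoV] at hfx hfx'
  have hc : c ≠ 0 := fun h0 => hz (hu.smul_eq_zero.1 (by rw [hfx, h0, ha0, map_zero, zero_smul]))
  obtain ⟨v, hv⟩ := (hunit c hc).map (A.left.presheaf.germ V o hoV).hom
  refine ⟨(u'⁻¹ : _ˣ) * (A.left.presheaf.germ V o hoV (a c') * ((v⁻¹ : _ˣ) * A.left.presheaf.germ V o hoV f)), ?_⟩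
  rw [LinearMap.toSpanSingleton_apply, mul_smul, mul_smul, mul_smul, hfx]
  have e₁ : ∀ (t : (A.left.presheaf.stalk o)ˣ) (x : R.presheaf.stalk o), (↑t⁻¹ : A.left.presheaf.stalk o) • ((↑t : A.left.presheaf.stalk o) • x) = x := fun t x => by
    rw [smul_smul, Units.inv_mul, one_smul]
  erw [← hv, e₁, ← hfx', ← hu', e₁]

end Groth.Agent.BCFlat16
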