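import Groth.Agent.BCFlat16.FMConv
import Groth.Agent.BCFlat16.FMClass
import Groth.Agent.BCFlat16.PoincareFst
import Groth.Agent.DQCoh.PscFinite

/-!
# The direct images of the Poincaré module in the derived category
-/

set_option autoImplicit false
set_option linter.style.haveILetI false
set_option backward.isDefEq.respectTransparency.types false
set_option maxHeartbeats 800000

universe u

open CategoryTheory CategoryTheory.Limits MonoidalCategory CartesianMonoidalCategory MonObj GrpObj AlgebraicGeometry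
open Groth.Agent Groth.Agent.PicLib Groth.Agent.AbDualLib

attribute [local instance] HasDerivedCategory.standard

namespace Groth.Agent.BCFlat16

theorem isClosedImmersion_unit {k : Type u} [Field k] (A : Over (Spec (CommRingCat.of k))) [GrpObj A] [IsProper A.hom] :
    IsClosedImmersion η[A].left := by
  haveI : IsClosedImmersion (η[A].left ≫ A.hom) := by
    rw [show η[A].left ≫ A.hom = 𝟙 _ from Over.w η[A]]; infer_instance
  exact IsClosedImmersion.of_comp _ A.hom

/-- An object with one cohomology sheaf, a skyscraper. -/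
theorem nonempty_of_rpush {X Y : Scheme.{u}} (p : X ⟶ Y) [DCoh.HasRpush p] [HasInjectiveResolutions X.Modules]
    (P : X.Modules) {Z : Scheme.{u}} (e : Z ⟶ Y) [IsClosedImmersion e] [DCoh.HasRpush e] (g : ℕ)
    (h0 : ∀ i : ℕ, i ≠ g → IsZero ((Coh.Rpush p i).obj P))
    (hg : Nonempty ((Coh.Rpush p g).obj P ≅ (Coh.push e).obj (Coh.structureModule Z))) :
    Nonempty ((DCoh.Rpush p).obj (DCoh.inD X P) ≅
      ((DCoh.Rpush e).obj (DCoh.inD Z (Coh.structureModule Z)))⟦-(g : ℤ)⟧) := by
  obtain ⟨iso⟩ := hg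
  let K := (DCoh.Rpush p).obj (DCoh.inD X P)
  have hz : ∀ i : ℤ, i ≠ g → IsZero ((DerivedCategory.homologyFunctor Y.Modules i).obj K) := fun i hi => by
    rcases lt_or_ge i 0 with h | h
    · haveI := Dual22Lib.RepLib.isGE_Rpush p (DCoh.inD X P) 0
      exact DerivedCategory.isZero_of_isGE _ 0 i h
    · obtain ⟨n, rfl⟩ := Int.eq_ofNat_of_zero_le h
      obtain ⟨a⟩ := FlatBC14.nonempty_homology_Rpush p P n
      exact (h0 n (by simpa using hi)).of_iso a
  haveI : K.IsGE (g : ℤ) := (DerivedCategory.isGE_iff _ _).2 fun i hi => hz i (by omega)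
  haveI : K.IsLE (g : ℤ) := (DerivedCategory.isLE_iff _ _).2 fun i hi => hz i (by omega)
  obtain ⟨M, ⟨eM⟩⟩ := DerivedCategory.exists_iso_singleFunctor_obj_of_isGE_of_isLE K (g : ℤ)
  obtain ⟨a⟩ := FlatBC14.nonempty_homology_Rpush p P g
  let iM : M ≅ (Coh.push e).obj (Coh.structureModule Z) :=
    ((DerivedCategory.singleFunctorCompHomologyFunctorIso Y.Modules (g : ℤ)).app M).symm ≪≫
      (DerivedCategory.homologyFunctor Y.Modules (g : ℤ)).mapIso eM.symm ≪≫ a ≪≫ iso
  haveI := QCohLoc.isQCoh_structureModule Z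
  obtain ⟨b⟩ := DQCoh.nonempty_Rpush_inD e (Coh.structureModule Z)
  exact ⟨eM ≪≫ (DerivedCategory.singleFunctor Y.Modules (g : ℤ)).mapIso iM ≪≫
    (((DerivedCategory.singleFunctors Y.Modules).shiftIso (-(g : ℤ)) (g : ℤ) 0 (by omega)).app _).symm ≪≫
    (shiftFunctor _ _).mapIso b.symm⟩

variable {k : Type u} [Field k] {A At : Over (Spec (CommRingCat.of k))}
  [GrpObj A] [IsProper A.hom] [Smooth A.hom] [GeometricallyConnected A.hom]
  [GrpObj At] [IsProper At.hom] [Smooth At.hom] [GeometricallyConnected At.hom]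
  {φ : ∀ T : Over (Spec (CommRingCat.of k)), PicF.Cl (PicF.XT A.hom T) → (T ⟶ At)}
  (hφ : AbDual.IsDualAV Scheme.fppfPrecoverage A At φ) {P : (pullback A.hom At.hom).Modules}
  (hP : PicF.IsInvertible P) (hPξ : AbDual.IsPoincareCl A At φ (PicF.cl P))
  {g : ℕ} (hg : topologicalKrullDim A.left = g)

include hφ hP hPξ hg

theorem nonempty_R_fst [DCoh.HasRpush (pullback.fst A.hom At.hom)] (eA : Spec (CommRingCat.of k) ⟶ A.left)
    (heA : eA = η[A].left) [DCoh.HasRpush eA] :
    Nonempty ((DCoh.Rpush (pullback.fst A.hom At.hom)).obj (DCoh.inD _ P) ≅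
      ((DCoh.Rpush eA).obj (DCoh.inD _ (Coh.structureModule (Spec (CommRingCat.of k)))))⟦-(g : ℤ)⟧) := by
  haveI : IsClosedImmersion eA := heA ▸ isClosedImmersion_unit A
  haveI := Coherent.hasInjectiveResolutions_modules (A ⊗ At).left
  haveI : HasInjectiveResolutions (pullback A.hom At.hom).Modules := Coherent.hasInjectiveResolutions_modules _
  obtain ⟨h0, h1⟩ := rpush_fst hφ (P := P) hP hPξ hg
  refine nonempty_of_rpush (pullback.fst A.hom At.hom) P eA g h0 ?_
  subst heA
  exact h1

theorem nonempty_R_snd [DCoh.HasRpush (pullback.fst At.hom A.hom)] (eA : Spec (CommRingCat.of k) ⟶ At.left)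
    (heA : eA = η[At].left) [DCoh.HasRpush eA] :
    Nonempty ((DCoh.Rpush (pullback.fst At.hom A.hom)).obj
      (DCoh.inD _ ((Scheme.Modules.pullback (pullbackSymmetry At.hom A.hom).hom).obj P)) ≅
      ((DCoh.Rpush eA).obj (DCoh.inD _ (Coh.structureModule (Spec (CommRingCat.of k)))))⟦-(g : ℤ)⟧) := by
  haveI : IsClosedImmersion eA := heA ▸ isClosedImmersion_unit At
  haveI := Coherent.hasInjectiveResolutions_modules (A ⊗ At).left
  haveI : HasInjectiveResolutions (pullback A.hom At.hom).Modules := Coherent.hasInjectiveResolutions_modules _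
  let σ := (pullbackSymmetry At.hom A.hom).hom
  haveI := DCat.hasRpush (pullback.snd A.hom At.hom)
  haveI := DCat.hasLpull σ
  haveI := DCat.hasLpull (𝟙 At.left)
  obtain ⟨a⟩ := nonempty_of_rpush (pullback.snd A.hom At.hom) P eA g
    (fun i hi => AbCohLib.isZero_rpush_ne hφ (P := P) hP hPξ hg hi) (by
      subst heA
      exact AbCohLib.nonempty_rpush_top_iso hφ (P := P) hP hPξ hg)
  have hsq : IsPullback σ (pullback.fst At.hom A.hom) (pullback.snd A.hom At.hom) (𝟙 At.left) :=
    IsPullback.of_horiz_isIso ⟨(pullbackSymmetry_hom_comp_snd _ _).trans (Category.comp_id _).symm⟩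
  obtain ⟨c⟩ := nonempty_bc_nat hsq (Or.inr inferInstance) (DCoh.IsQCohD (X := pullback A.hom At.hom)).ι
    (fun K => K.2)
  obtain ⟨i⟩ := nonempty_Lpull_inD σ hP
  obtain ⟨u⟩ := nonempty_Lpull_id (X := At.left)
  have hPq : DCoh.IsQCohD (DCoh.inD (pullback A.hom At.hom) P) := by
    haveI := AmpleLib.isQCoh_of_isInvertible hP
    exact FlatBC14.isQCohD_inD P
  exact ⟨(DCoh.Rpush _).mapIso i.symm ≪≫ (c.app ⟨_, hPq⟩).symm ≪≫ u.app _ ≪≫ a⟩

omit hg in
theorem ev_mul_fst {V : Over (Spec (CommRingCat.of k))} (f g : V ⟶ A) (t : V ⟶ At) :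
    ev (A := A) (B := At) (PicM.of hP) (f * g) t = ev (A := A) (B := At) (PicM.of hP) f t * ev (PicM.of hP) g t := by
  obtain ⟨Pc, hPc, h0, hid, hrig⟩ := exists_poincare hPξ
  obtain rfl : Pc = PicM.of hP := PicM.ext hPc.symm
  exact FMClass.ev_mul_left hφ h0 hid hrig f g t

omit hg in
theorem ev_mul_swap {V : Over (Spec (CommRingCat.of k))} (f g : V ⟶ At) (t : V ⟶ A) :
    ev (A := At) (B := A) (PicM.of (PicLoc.isInvertible_pullback (pullbackSymmetry At.hom A.hom).hom hP)) (f * g) t =
      ev (A := At) (B := A) (PicM.of (PicLoc.isInvertible_pullback (pullbackSymmetry At.hom A.hom).hom hP)) f t *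
        ev (PicM.of (PicLoc.isInvertible_pullback (pullbackSymmetry At.hom A.hom).hom hP)) g t := by
  obtain ⟨Pc, hPc, h0, hid, hrig⟩ := exists_poincare hPξ
  obtain rfl : Pc = PicM.of hP := PicM.ext hPc.symm
  have h : ∀ f : V ⟶ At, ev (A := At) (B := A)
      (PicM.of (PicLoc.isInvertible_pullback (pullbackSymmetry At.hom A.hom).hom hP)) f t =
        ev (A := A) (B := At) (PicM.of hP) t f := fun f => by
    rw [← PicM.pull_of _ hP, ev, PicM.pull_pull,
      show (pullbackSymmetry At.hom A.hom).hom = (CartesianMonoidalCategory.lift (snd At A) (fst At A)).left from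
        sym_eq At A, ← Over.comp_left, comp_lift, lift_fst, lift_snd]
    rfl
  rw [h, h, h]
  exact FMClass.ev_mul_right hφ h0 hid hrig t f g

end Groth.Agent.BCFlat16
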