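import Groth.Agent.BCFlat16.FMTen
import Groth.Agent.BCFlat16.FMClass

/-!
# Manipulations of Fourier-Mukai kernels
-/

set_option autoImplicit false
set_option backward.isDefEq.respectTransparency false
set_option linter.style.haveILetI false
set_option synthInstance.maxHeartbeats 100000

universe u

open CategoryTheory CategoryTheory.Limits AlgebraicGeometry
open Groth.Agent.PicLib

attribute [local instance] HasDerivedCategory.standard

namespace Groth.Agent.BCFlat16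

variable {X Y Z Y' : Scheme.{u}}

/-- `Lg^* ⋙ Lf^* = Lh^*`. -/
theorem nonempty_Lpull_comp (f : X ⟶ Y) (g : Y ⟶ Z) (h : X ⟶ Z) (e : f ≫ g = h) [DCoh.HasLpull f]
    [DCoh.HasLpull g] [DCoh.HasLpull h] : Nonempty (DCoh.Lpull g ⋙ DCoh.Lpull f ≅ DCoh.Lpull h) := by
  subst e
  exact DCat.nonempty_LpullComp f g

/-- `Rf_* ⋙ Rg_* = Rh_*`. -/
theorem nonempty_Rpush_comp (f : X ⟶ Y) (g : Y ⟶ Z) (h : X ⟶ Z) (e : f ≫ g = h) [DCoh.HasRpush f]
    [DCoh.HasRpush g] [DCoh.HasRpush h] : Nonempty (DCoh.Rpush f ⋙ DCoh.Rpush g ≅ DCoh.Rpush h) := by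
  subst e
  exact DCat.nonempty_RpushComp f g

theorem isQCohD_kernel (p : Z ⟶ X) [DCoh.HasLpull p] {P : Z.Modules} (hP : PicF.IsInvertible P)
    (K : (DCoh.IsQCohD (X := X)).FullSubcategory) :
    DCoh.IsQCohD (((DCoh.IsQCohD (X := X)).ι ⋙ DCoh.Lpull p ⋙ tens P).obj K) :=
  TenBC.isQCohD_tens (AmpleLib.isQCoh_of_isInvertible hP) (DQCoh.isQCohD_Lpull _ _ K.2)

variable {Z' : Scheme.{u}}

/-- Base change of a kernel functor along a morphism of the target. -/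
theorem nonempty_kernel_bc (p : Z ⟶ X) {q : Z ⟶ Y} [QuasiCompact q] [QuasiSeparated q] [Flat q] (g : Y' ⟶ Y)
    {G : Z' ⟶ Z} {q' : Z' ⟶ Y'} (hsq : IsPullback G q' q g) (p' : Z' ⟶ X) (hp : G ≫ p = p')
    {P : Z.Modules} (hP : PicF.IsInvertible P) [DCoh.HasLTensorMod P] [DCoh.HasLpull p] [DCoh.HasRpush q]
    [DCoh.HasLpull g] [DCoh.HasLpull p'] [DCoh.HasRpush q'] :
    Nonempty ((DCoh.IsQCohD (X := X)).ι ⋙ (DCoh.Lpull p ⋙ DCoh.LTensorMod P ⋙ DCoh.Rpush q) ⋙ DCoh.Lpull g ≅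
      (DCoh.IsQCohD (X := X)).ι ⋙ DCoh.Lpull p' ⋙ tens ((Scheme.Modules.pullback G).obj P) ⋙ DCoh.Rpush q') := by
  haveI := DCat.hasLpull G
  obtain ⟨c⟩ := nonempty_bc_nat hsq (Or.inl inferInstance) ((DCoh.IsQCohD (X := X)).ι ⋙ DCoh.Lpull p ⋙ tens P)
    (isQCohD_kernel p hP)
  obtain ⟨v⟩ := nonempty_Lpull_tens_inv G hP
  obtain ⟨w⟩ := nonempty_Lpull_comp G p p' hp
  obtain ⟨n⟩ := nonempty_LTensorMod_nat P
  refine ⟨Functor.isoWhiskerLeft _ (Functor.associator _ _ _ ≪≫ Functor.isoWhiskerLeft _ (Functor.associator _ _ _ ≪≫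
      Functor.isoWhiskerRight n _ )) ≪≫ (Functor.associator _ _ _).symm ≪≫ ?_⟩
  exact (Functor.associator _ _ _).trans (Functor.isoWhiskerLeft _ (Functor.associator _ _ _).symm) ≪≫
    (Functor.associator _ _ _).symm ≪≫ c ≪≫ Functor.associator _ _ _ ≪≫
    Functor.isoWhiskerLeft _ (Functor.associator _ _ _ ≪≫
      Functor.isoWhiskerLeft _ ((Functor.associator _ _ _).symm ≪≫ Functor.isoWhiskerRight v _ ≪≫
        Functor.associator _ _ _) ≪≫ (Functor.associator _ _ _).symm ≪≫ Functor.isoWhiskerRight w _)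

end Groth.Agent.BCFlat16
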