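import Groth.Agent.BCFlat16.Affine
import Groth.Agent.BCFlat16.Cx
import Groth.Agent.DQCoh.CechFlat17

/-!
# Base change for modules flat over the base: separated sources over affine bases
-/

set_option autoImplicit false
set_option backward.isDefEq.respectTransparency false
set_option backward.defeqAttrib.useBackward true
set_option linter.style.haveILetI false
set_option linter.unusedSectionVars false
set_option synthInstance.maxHeartbeats 100000

universe u

open CategoryTheory CategoryTheory.Limits CategoryTheory.Pretriangulated AlgebraicGeometry DerivedCategory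
open CochainComplex.HomComplex
open Groth.Agent.DCat Groth.Agent.DCat.PerfLocal Groth.Agent.Dual22Lib Groth.Agent.Dual22Lib.WeakExact
open Groth.Agent.DQCoh Groth.Agent.DQCoh.CechFlat17

attribute [local instance] HasDerivedCategory.standard
attribute [-instance] Int.instConditionallyCompleteLinearOrder

namespace Groth.Agent.BCFlat16

variable {X Y X' Y' : Scheme.{u}}

/-- The comparison of complexes gives the one of modules. -/
theorem g1_of_tau {f : X ⟶ Y} {g : Y' ⟶ Y} {f' : X' ⟶ Y'} {g' : X' ⟶ X} {M : X.Modules}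
    (h : ∀ (_ : DCoh.HasRpush f) (_ : DCoh.HasRpush g) (_ : DCoh.HasLpull g) (_ : DCoh.HasRpush f')
      (_ : DCoh.HasRpush g') (_ : DCoh.HasLpull g') (adjg : DCoh.Lpull g ⊣ DCoh.Rpush g)
      (adjg' : DCoh.Lpull g' ⊣ DCoh.Rpush g')
      (e : DCoh.Rpush g' ⋙ DCoh.Rpush f ≅ DCoh.Rpush f' ⋙ DCoh.Rpush g),
      IsIso ((tau f g f' g' adjg adjg' e).app (sgl 0 M))) : G1 f g f' g' M := by
  intro _ _ _ _ _ _ adjg adjg' e N κ hκ
  have h0 := h inferInstance inferInstance inferInstance inferInstance inferInstance inferInstance adjg adjg' e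
  rw [tau_app] at h0
  let i : DCoh.inD X M ≅ DerivedCategory.Qh.obj (sgl 0 M) :=
    (singleFunctorIsoCompQ X.Modules 0).app M ≪≫
      ((DerivedCategory.quotientCompQhIso X.Modules).app _).symm
  obtain ⟨φ, hφ⟩ := ((tr_lcounit g' 0 M).precomp ((DCoh.Lpull g').map i.hom)).exists_iso hκ
  have hn := (BCAlg.bc adjg adjg' e).naturality i.hom
  dsimp at hn
  rw [← hφ, Functor.map_comp, Functor.map_comp, Category.assoc, ← reassoc_of% hn]
  haveI := h0
  rw [← Category.assoc ((BCAlg.bc adjg adjg' e).app _)]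
  infer_instance

/-- Flatness over the base of restrictions. -/
theorem flatOver_pullback_open {U : Scheme.{u}} (j : U ⟶ X) [IsOpenImmersion j] (f : X ⟶ Y) (M : X.Modules)
    (hfl : FlatMod.IsFlatOver f M) : FlatMod.IsFlatOver (j ≫ f) ((Scheme.Modules.pullback j).obj M) := fun x =>
  (Props12.isFlatOverAt_pullback_iff j f M x
    (RingHom.Flat.of_bijective (ConcreteCategory.bijective_of_isIso (j.stalkMap x)))).1 (hfl (j x))

variable {A B : CommRingCat.{u}} (φ : A ⟶ B)

/-- Affine sources over affine bases. -/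
theorem g1_affineSrc {Z Z' : Scheme.{u}} [IsAffine Z] {f : Z ⟶ Spec A} {f' : Z' ⟶ Spec B} {g' : Z' ⟶ Z}
    (hsq : IsPullback g' f' f (Spec.map φ)) (M : Z.Modules) (hM : Coh.IsQCoh M) (hfl : FlatMod.IsFlatOver f M) :
    G1 f (Spec.map φ) f' g' M := by
  let j : Spec Γ(Z, ⊤) ⟶ Z := Z.isoSpec.inv
  let ψ : A ⟶ Γ(Z, ⊤) := Spec.preimage (j ≫ f)
  have hψ : Spec.map ψ = j ≫ f := Spec.map_preimage _
  have hj : IsPullback (pullback.fst j g') (pullback.snd j g') j g' := IsPullback.of_hasPullback j g'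
  let M₀ := (Scheme.Modules.restrictFunctor j).obj M
  haveI := hM
  have hM₀ : Coh.IsQCoh M₀ := Scheme.Modules.isQuasicoherent_restrictFunctor j M
  have hfl₀ : FlatMod.IsFlatOver (j ≫ f) M₀ := FlatAdm17.flatOver_of_iso _
    ((Scheme.Modules.restrictFunctorIsoPullback j).app M).symm (flatOver_pullback_open j f M hfl)
  have h := G1.push (f := f) (g := Spec.map φ) (f' := f') hj hM₀ (by
    have hsq' := hj.paste_vert hsq
    revert hsq' hfl₀
    rw [← hψ]
    exact fun hfl₀ hsq' => g1_affine φ ψ hsq' M₀ hM₀ hfl₀)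
  haveI : IsIso ((Scheme.Modules.restrictAdjunction j).unit.app M) := by
    rw [Scheme.Modules.Hom.isIso_iff_isIso_app]
    intro U
    rw [ConcreteCategory.isIso_iff_bijective, Scheme.Modules.restrictAdjunction_unit_app_app]
    refine Coherent.resM_bijective_of_eq M _ ?_
    rw [Scheme.Hom.image_preimage_eq_opensRange_inf, Scheme.Hom.opensRange_of_isIso, top_inf_eq]
  exact G1.of_iso (asIso ((Scheme.Modules.restrictAdjunction j).unit.app M)).symm h

section Sep

variable {Z Z' : Scheme.{u}} (f : Z ⟶ Spec A) [IsSeparated f]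

/-- Restriction to an open followed by direct image, on the homotopy category. -/
noncomputable abbrev resPush (U : Z.Opens) :
    HomotopyCategory Z.Modules (ComplexShape.up ℤ) ⥤ HomotopyCategory Z.Modules (ComplexShape.up ℤ) :=
  (Scheme.Modules.restrictFunctor U.ι ⋙ Scheme.Modules.pushforward U.ι).mapHomotopyCategory (ComplexShape.up ℤ)

/-- Complexes built from modules flat over the base. -/
inductive Gen : HomotopyCategory Z.Modules (ComplexShape.up ℤ) → Prop
  | sgl (n : ℤ) (M : Z.Modules) (hq : Coh.IsQCoh M) (hfl : FlatMod.IsFlatOver f M) : Gen (BCFlat16.sgl n M)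
  | iso {P Q : HomotopyCategory Z.Modules (ComplexShape.up ℤ)} (e : P ≅ Q) (h : Gen P) : Gen Q
  | cone {T : Triangle (HomotopyCategory Z.Modules (ComplexShape.up ℤ))} (hT : T ∈ distTriang _)
      (h₁ : Gen T.obj₁) (h₂ : Gen T.obj₂) : Gen T.obj₃

theorem isAffine_parts (U : Z.affineOpens) : IsAffineHom U.1.ι ∧ IsAffineHom (U.1.ι ≫ f) := by
  letI : Z.Over (Spec (CommRingCat.of A)) := ⟨f⟩
  haveI : IsSeparated (Z ↘ Spec (CommRingCat.of A)) := ‹IsSeparated f›
  exact isAffineHom_ι (A := A) U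

theorem resPush_parts (U : Z.affineOpens) (M : Z.Modules) (hq : Coh.IsQCoh M) (hfl : FlatMod.IsFlatOver f M) :
    Coh.IsQCoh ((Scheme.Modules.restrictFunctor U.1.ι ⋙ Scheme.Modules.pushforward U.1.ι).obj M) ∧
      FlatMod.IsFlatOver f ((Scheme.Modules.restrictFunctor U.1.ι ⋙ Scheme.Modules.pushforward U.1.ι).obj M) := by
  obtain ⟨_, _⟩ := isAffine_parts f U
  haveI := hq
  haveI : Coh.IsQCoh ((Scheme.Modules.restrictFunctor U.1.ι).obj M) :=
    Scheme.Modules.isQuasicoherent_restrictFunctor U.1.ι M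
  have hfl' : FlatMod.IsFlatOver (U.1.ι ≫ f) ((Scheme.Modules.restrictFunctor U.1.ι).obj M) :=
    FlatAdm17.flatOver_of_iso _ ((Scheme.Modules.restrictFunctorIsoPullback U.1.ι).app M).symm
      (flatOver_pullback_open U.1.ι f M hfl)
  refine ⟨Coherent.isQCoh_push U.1.ι _, fun z => ?_⟩
  obtain ⟨V, hV, hzV, -⟩ := exists_isAffineOpen_mem_and_subset (x := f z) (U := (⊤ : (Spec A).Opens)) trivial
  obtain ⟨W, hW, hzW, hWV⟩ := exists_isAffineOpen_mem_and_subset (x := z) (U := f ⁻¹ᵁ V) hzV
  exact (FlatQCoh17.flatOver_push_iff U.1.ι f _ V W hV hW hWV).2 (fun x _ => hfl' x) z hzW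

noncomputable def resPushSgl (U : Z.Opens) (n : ℤ) (M : Z.Modules) : (resPush U).obj (BCFlat16.sgl n M) ≅
    BCFlat16.sgl n ((Scheme.Modules.restrictFunctor U.ι ⋙ Scheme.Modules.pushforward U.ι).obj M) :=
  ((Scheme.Modules.restrictFunctor U.ι ⋙ Scheme.Modules.pushforward U.ι).mapHomotopyCategoryFactors
      (ComplexShape.up ℤ)).app _ ≪≫
    (HomotopyCategory.quotient Z.Modules (ComplexShape.up ℤ)).mapIso
      ((HomologicalComplex.singleMapHomologicalComplex (Scheme.Modules.restrictFunctor U.ι ⋙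
        Scheme.Modules.pushforward U.ι) (ComplexShape.up ℤ) n).app M)

theorem Gen.resPush (U : Z.affineOpens) {P : HomotopyCategory Z.Modules (ComplexShape.up ℤ)} (h : Gen f P) :
    Gen f ((resPush U.1).obj P) := by
  induction h with
  | sgl n M hq hfl => exact .iso (resPushSgl U.1 n M).symm (.sgl n _ (resPush_parts f U M hq hfl).1 (resPush_parts f U M hq hfl).2)
  | iso e _ ih => exact .iso ((BCFlat16.resPush U.1).mapIso e) ih
  | cone hT _ _ ih₁ ih₂ => exact .cone ((BCFlat16.resPush U.1).map_distinguished _ hT) ih₁ ih₂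

variable {f} {f' : Z' ⟶ Spec B} {g' : Z' ⟶ Z} (hsq : IsPullback g' f' f (Spec.map φ))

include hsq in
theorem g1_resPush (U : Z.affineOpens) (M : Z.Modules) (hq : Coh.IsQCoh M) (hfl : FlatMod.IsFlatOver f M) :
    G1 f (Spec.map φ) f' g' ((Scheme.Modules.restrictFunctor U.1.ι ⋙ Scheme.Modules.pushforward U.1.ι).obj M) := by
  obtain ⟨_, _⟩ := isAffine_parts f U
  haveI := hq
  haveI : IsAffine (U.1 : Scheme.{u}) := U.2
  have hj : IsPullback (pullback.fst U.1.ι g') (pullback.snd U.1.ι g') U.1.ι g' := IsPullback.of_hasPullback _ _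
  have hq' : Coh.IsQCoh ((Scheme.Modules.restrictFunctor U.1.ι).obj M) :=
    Scheme.Modules.isQuasicoherent_restrictFunctor U.1.ι M
  have hfl' : FlatMod.IsFlatOver (U.1.ι ≫ f) ((Scheme.Modules.restrictFunctor U.1.ι).obj M) :=
    FlatAdm17.flatOver_of_iso _ ((Scheme.Modules.restrictFunctorIsoPullback U.1.ι).app M).symm
      (flatOver_pullback_open U.1.ι f M hfl)
  exact G1.push hj hq' (g1_affineSrc φ (hj.paste_vert hsq) _ hq' hfl')

variable [DCoh.HasRpush f] [DCoh.HasRpush (Spec.map φ)] [DCoh.HasLpull (Spec.map φ)] [DCoh.HasRpush f']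
  [DCoh.HasRpush g'] [DCoh.HasLpull g']
  (adjg : DCoh.Lpull (Spec.map φ) ⊣ DCoh.Rpush (Spec.map φ)) (adjg' : DCoh.Lpull g' ⊣ DCoh.Rpush g')
  (e : DCoh.Rpush g' ⋙ DCoh.Rpush f ≅ DCoh.Rpush f' ⋙ DCoh.Rpush (Spec.map φ))

include hsq in
theorem goodCx_resPush (U : Z.affineOpens) {P : HomotopyCategory Z.Modules (ComplexShape.up ℤ)} (h : Gen f P) :
    GoodCx adjg adjg' e ((resPush U.1).obj P) := by
  induction h with
  | sgl n M hq hfl =>
    exact IsoShifts.of_iso (resPushSgl U.1 n M).symm (goodCx_sgl adjg adjg' e _ (g1_resPush φ hsq U M hq hfl) n)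
  | iso a _ ih => exact IsoShifts.of_iso ((resPush U.1).mapIso a) ih
  | cone hT _ _ ih₁ ih₂ =>
    exact IsoShifts.cone triExact_src triExact_tgt ((resPush U.1).map_distinguished _ hT) ih₁ ih₂

include hsq in
theorem goodCx_of_cover (l : List Z.affineOpens) : ∀ (done : List Z.affineOpens) (K : CochainComplex Z.Modules ℤ)
    (b : ℤ), Gen f ((HomotopyCategory.quotient Z.Modules (ComplexShape.up ℤ)).obj K) →
    (∀ i, b < i → IsZero (K.X i)) → (∀ i, Coh.IsQCoh (K.X i)) → (∀ i, FlatMod.IsFlatOver f (K.X i)) →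
    (∀ x : Z, ∃ V ∈ done ++ l, x ∈ V.1) → (∀ V ∈ done, ExOn K V.1) →
    GoodCx adjg adjg' e ((HomotopyCategory.quotient Z.Modules (ComplexShape.up ℤ)).obj K) := by
  induction l with
  | nil =>
    intro done K b _ hb hq hfl hcov hex m
    have hK : ∀ n, K.ExactAt n := exactAt_of_exOn K fun x => by
      obtain ⟨V, hV, hx⟩ := hcov x
      exact ⟨V.1, hx, hex V (by simpa using hV)⟩
    let q := HomotopyCategory.quotient Z.Modules (ComplexShape.up ℤ)
    have h₁ : IsZero (DerivedCategory.Qh.obj (q.obj K)) :=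
      (DCat.CohDimShift.isZero_Q_of_acyclic K hK).of_iso ((DerivedCategory.quotientCompQhIso Z.Modules).app K)
    have h₂ : IsZero ((DCoh.pullKh g').obj (q.obj K)) :=
      (DCat.CohDimShift.isZero_Q_of_acyclic _ (HTor16.exactAt_pullback_of_flatOver hsq K b hb hq hfl hK)).of_iso
        ((DerivedCategory.quotientCompQhIso Z'.Modules).app _)
    have h₁' : IsZero (DerivedCategory.Qh.obj ((q.obj K)⟦m⟧)) :=
      ((shiftFunctor (DCoh.D Z) m).map_isZero h₁).of_iso ((DerivedCategory.Qh.commShiftIso m).app _)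
    have h₂' : IsZero ((DCoh.pullKh g').obj ((q.obj K)⟦m⟧)) :=
      ((shiftFunctor (DCoh.D Z') m).map_isZero h₂).of_iso (((DCoh.pullKh g').commShiftIso m).app _)
    exact ⟨⟨0, (((TenLocal.triExact_Rpush f).comp (TenLocal.triExact_Lpull (Spec.map φ))).map_isZero h₁').eq_of_src _ _,
      ((TenLocal.triExact_Rpush f').map_isZero h₂').eq_of_src _ _⟩⟩
  | cons U l ih =>
    intro done K b hgen hb hq hfl hcov hex
    obtain ⟨_, _⟩ := isAffine_parts f U
    let η := etaC U.1 K
    let q := HomotopyCategory.quotient Z.Modules (ComplexShape.up ℤ)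
    let F := Scheme.Modules.restrictFunctor U.1.ι ⋙ Scheme.Modules.pushforward U.1.ι
    let L := (F.mapHomologicalComplex (ComplexShape.up ℤ)).obj K
    have hL : ∀ n, Coh.IsQCoh (L.X n) ∧ FlatMod.IsFlatOver f (L.X n) := fun n =>
      resPush_parts f U (K.X n) (hq n) (hfl n)
    have hLz : ∀ n, b < n → IsZero (L.X n) := fun n hn => (Scheme.Modules.pushforward U.1.ι).map_isZero
      ((Scheme.Modules.restrictFunctor U.1.ι).map_isZero (hb n hn))
    have hgenL : Gen f (q.obj L) := Gen.iso ((F.mapHomotopyCategoryFactors (ComplexShape.up ℤ)).app K) (hgen.resPush f U)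
    have hgoodL : GoodCx adjg adjg' e (q.obj L) :=
      IsoShifts.of_iso ((F.mapHomotopyCategoryFactors (ComplexShape.up ℤ)).app K)
        (goodCx_resPush φ hsq adjg adjg' e U hgen)
    have hT := HomotopyCategory.mappingCone_triangleh_distinguished η
    refine IsoShifts.fibre triExact_src triExact_tgt hT hgoodL ?_
    have hX : ∀ n, Nonempty ((CochainComplex.mappingCone η).X n ≅ K.X (n + 1) ⊞ L.X n) := fun n =>
      ⟨HomologicalComplex.homotopyCofiber.XIsoBiprod η n (n + 1) rfl⟩
    refine ih (done ++ [U]) (CochainComplex.mappingCone η) b (Gen.cone hT hgen hgenL) (fun n hn => ?_) (fun n => ?_)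
      (fun n => ?_) (fun x => ?_) fun V hV => ?_
    · rw [CochainComplex.mappingCone.isZero_X_iff]
      exact ⟨hb (n + 1) (by omega), hLz n hn⟩
    · haveI := hq (n + 1)
      haveI := (hL n).1
      exact Coherent.isQCoh_of_iso (hX n).some.symm (h := Coherent.isQCoh_biprod _ _)
    · exact FlatAdm17.flatOver_of_iso _ (hX n).some.symm (FlatAdm17.flatOver_biprod _ (hfl (n + 1)) (hL n).2)
    · obtain ⟨V, hV, hx⟩ := hcov x
      exact ⟨V, by simpa using hV, hx⟩
    · rcases List.mem_append.1 hV with hV' | hV'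
      · refine exOn_cone η _ (hex V hV') fun W hW hWV i n k hi hk x hx => ?_
        have hW' : IsAffineOpen (U.1.ι ''ᵁ U.1.ι ⁻¹ᵁ W) := (hW.preimage U.1.ι).image_of_isOpenImmersion U.1.ι
        exact hex V hV' _ hW' ((U.1.ι.image_preimage_eq_opensRange_inf W).le.trans (inf_le_right.trans hWV))
          i n k hi hk x hx
      · obtain rfl : V = U := by simpa using hV'
        exact exOn_cone_of_bijective η _ fun W _ hW n => bijective_etaC _ _ W hW n

end Sep

/-- Separated quasi-compact sources over affine bases. -/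
theorem g1_sep {Z Z' : Scheme.{u}} {f : Z ⟶ Spec A} [IsSeparated f] [CompactSpace Z] {f' : Z' ⟶ Spec B} {g' : Z' ⟶ Z}
    (hsq : IsPullback g' f' f (Spec.map φ)) (M : Z.Modules) (hM : Coh.IsQCoh M) (hfl : FlatMod.IsFlatOver f M) :
    G1 f (Spec.map φ) f' g' M := by
  refine g1_of_tau fun _ _ _ _ _ _ adjg adjg' e => ?_
  obtain ⟨t, ht⟩ := isCompact_univ.elim_finite_subcover (fun V : Z.affineOpens => (V.1 : Set Z)) (fun V => V.1.2)
    (fun x _ => by
      obtain ⟨W, hW, hxW, -⟩ := exists_isAffineOpen_mem_and_subset (x := x) (U := (⊤ : Z.Opens)) trivial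
      exact Set.mem_iUnion.2 ⟨⟨W, hW⟩, hxW⟩)
  refine (goodCx_of_cover φ hsq adjg adjg' e t.toList [] _ 0 (Gen.sgl 0 M hM hfl)
    (fun i hi => HomologicalComplex.isZero_single_obj_X _ _ _ _ (by omega)) (fun i => ?_) (fun i => ?_)
    (fun x => ?_) fun V hV => (List.not_mem_nil hV).elim).app
  · by_cases hi : i = 0
    · subst hi
      exact Coherent.isQCoh_of_iso (HomologicalComplex.singleObjXSelf (ComplexShape.up ℤ) 0 M).symm (h := hM)
    · exact Coherent.isQCoh_of_isZero (HomologicalComplex.isZero_single_obj_X _ _ _ _ hi)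
  · by_cases hi : i = 0
    · subst hi
      exact FlatAdm17.flatOver_of_iso _ (HomologicalComplex.singleObjXSelf (ComplexShape.up ℤ) 0 M).symm hfl
    · exact FlatAdm17.flatOver_of_isZero _ (HomologicalComplex.isZero_single_obj_X _ _ _ _ hi)
  · obtain ⟨V, hV, hx⟩ := Set.mem_iUnion₂.1 (ht (Set.mem_univ x))
    exact ⟨V, by simpa using hV, hx⟩

end Groth.Agent.BCFlat16
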