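import Groth.Agent.BCFlat16.Local

/-!
# Base change for bounded above complexes of modules flat over the base
-/

set_option autoImplicit false
set_option backward.isDefEq.respectTransparency false
set_option linter.style.haveILetI false
set_option linter.unusedSectionVars false
set_option synthInstance.maxHeartbeats 100000

universe u

open CategoryTheory CategoryTheory.Limits AlgebraicGeometry DerivedCategory
open Groth.Agent.DCat Groth.Agent.Dual22Lib

attribute [local instance] HasDerivedCategory.standard

namespace Groth.Agent.BCFlat16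

variable {X Y X' Y' : Scheme.{u}} {f : X ⟶ Y} {g : Y' ⟶ Y} {f' : X' ⟶ Y'} {g' : X' ⟶ X}

/-- Base change at a module flat over the base, for separated quasi-compact morphisms. -/
theorem g1_main [QuasiCompact f] [IsSeparated f] (hsq : IsPullback g' f' f g) (M : X.Modules) (hM : Coh.IsQCoh M)
    (hfl : FlatMod.IsFlatOver f M) : G1 f g f' g' M := by
  refine G1.of_cover hsq hM fun y => ?_
  obtain ⟨U, hU, hgy, -⟩ := exists_isAffineOpen_mem_and_subset (show g y ∈ (⊤ : Y.Opens) from trivial)
  obtain ⟨U', hU', hy, hle⟩ := exists_isAffineOpen_mem_and_subset (show y ∈ g ⁻¹ᵁ U from hgy)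
  haveI : CompactSpace (pullback f hU.fromSpec : Scheme.{u}) :=
    QuasiCompact.compactSpace_of_compactSpace (pullback.snd f hU.fromSpec)
  haveI : IsSeparated (pullback.snd f hU.fromSpec) :=
    MorphismProperty.of_isPullback (P := @IsSeparated) (IsPullback.of_hasPullback f hU.fromSpec) inferInstance
  haveI := hM
  let a := pullback.fst f hU.fromSpec
  have hflU : FlatMod.IsFlatOver (pullback.snd f hU.fromSpec) ((Scheme.Modules.pullback a).obj M) := fun x =>
    Desc19b.isFlatOverAt_baseChange f (pullback.snd f hU.fromSpec) a hU.fromSpec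
      (IsPullback.of_hasPullback f hU.fromSpec) M x (hfl _)
  refine ⟨_, _, hU.fromSpec, hU'.fromSpec, Spec.map (g.appLE U U' hle), inferInstance, inferInstance,
    pullback f hU.fromSpec, _, a, pullback.snd f hU.fromSpec,
    pullback.fst (pullback.snd f hU.fromSpec) (Spec.map (g.appLE U U' hle)),
    pullback.snd (pullback.snd f hU.fromSpec) (Spec.map (g.appLE U U' hle)), (Scheme.Modules.pullback a).obj M,
    IsAffineOpen.SpecMap_appLE_fromSpec g hU hU' hle, ?_, IsPullback.of_hasPullback _ _,
    IsPullback.of_hasPullback _ _, ⟨Iso.refl _⟩, ?_⟩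
  · rw [hU'.opensRange_fromSpec]
    exact hy
  · exact g1_sep _ (IsPullback.of_hasPullback _ _) _ (EGA43.InjFibre.isQCoh_pullback a M) hflU

/-- `Lg^* Rf_* P ≅ Rf'_* (g'^* P)` for bounded above complexes of modules flat over the base. -/
theorem nonempty_baseChange [QuasiCompact f] [IsSeparated f] (hsq : IsPullback g' f' f g)
    [DCoh.HasRpush f] [DCoh.HasLpull g] [DCoh.HasRpush f']
    (P : CochainComplex X.Modules ℤ) (b : ℤ) (hb : ∀ i, b < i → IsZero (P.X i)) (hq : ∀ i, Coh.IsQCoh (P.X i))
    (hfl : ∀ i, FlatMod.IsFlatOver f (P.X i)) :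
    Nonempty ((DCoh.Lpull g).obj ((DCoh.Rpush f).obj (DCoh.toD X P)) ≅ (DCoh.Rpush f').obj
      (DCoh.toD X' (((Scheme.Modules.pullback g').mapHomologicalComplex (ComplexShape.up ℤ)).obj P))) := by
  haveI := hasRpush g
  haveI := hasRpush g'
  haveI := hasLpull g'
  haveI : IsSeparated f' := MorphismProperty.of_isPullback (P := @IsSeparated) hsq inferInstance
  haveI : QuasiCompact f' := MorphismProperty.of_isPullback (P := @QuasiCompact) hsq inferInstance
  obtain ⟨adjg⟩ := nonempty_pullPushAdj g
  obtain ⟨adjg'⟩ := nonempty_pullPushAdj g'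
  obtain ⟨e⟩ := BCSquare.exists_e hsq.w
  haveI := isIso_tau_of_bddAbove adjg adjg' e P b hb hq fun i => g1_main hsq _ (hq i) (hfl i)
  exact ⟨(DCoh.Lpull g).mapIso ((DCoh.Rpush f).mapIso ((DerivedCategory.quotientCompQhIso X.Modules).app P).symm) ≪≫
    asIso ((tau f g f' g' adjg adjg' e).app ((HomotopyCategory.quotient X.Modules (ComplexShape.up ℤ)).obj P)) ≪≫
    (DCoh.Rpush f').mapIso ((DerivedCategory.quotientCompQhIso X'.Modules).app
      (((Scheme.Modules.pullback g').mapHomologicalComplex (ComplexShape.up ℤ)).obj P))⟩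

end Groth.Agent.BCFlat16
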