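import Groth.Agent.AbCohLib.PoincareEdge
import Groth.Agent.AbDualLib.DualDim
import Groth.Agent.AbSchLib.FiniteKL
import Groth.Agent.AbCubeLib.ExistsAmple

/-!
# The points of `A` where the Poincaré module restricts trivially are finite in number
-/

set_option autoImplicit false
set_option linter.style.haveILetI false
set_option backward.isDefEq.respectTransparency.types false
set_option maxHeartbeats 1600000

universe u

open CategoryTheory CategoryTheory.Limits MonoidalCategory CartesianMonoidalCategory MonObj GrpObj AlgebraicGeometry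
  Opposite TopologicalSpace
open Groth.Agent Groth.Agent.PicLib Groth.Agent.AbCubeLib Groth.Agent.AbDualLib
open Groth.Agent.AmpleLib (isInvertible_tensorMod)

namespace Groth.Agent.BCFlat16

variable {k : Type u} [Field k] {A At : Over (Spec (CommRingCat.of k))}
  [GrpObj A] [IsProper A.hom] [Smooth A.hom] [GeometricallyConnected A.hom]
  [GrpObj At] [IsProper At.hom] [Smooth At.hom] [GeometricallyConnected At.hom]
  {φ : ∀ T : Over (Spec (CommRingCat.of k)), PicF.Cl (PicF.XT A.hom T) → (T ⟶ At)}
  (hφ : AbDual.IsDualAV Scheme.fppfPrecoverage A At φ) {P : PicM (A ⊗ At).left}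
  (h0 : AbDual.IsPicZeroCl A.hom At P.val) (hid : φ At P.val = 𝟙 At) (hrig : ev P (1 : At ⟶ A) (𝟙 At) = 1)

include hφ h0 hid hrig in
/-- The points with trivial restriction of the Poincaré class form a finite set. -/
theorem exists_finite_trivial :
    ∃ S : Set A.left, S.Finite ∧ IsClosed S ∧ ∀ (K : Type u) [Field K] (s : Spec (CommRingCat.of K) ⟶ Spec (CommRingCat.of k))
      (x : Over.mk s ⟶ A), ev P (fst (Over.mk s) At ≫ x) (snd (Over.mk s) At) = 1 →
        x.left (IsLocalRing.closedPoint K) ∈ S := by
  haveI : GeometricallyIntegral A.hom := AbVarLib.geometricallyIntegral_of_smooth A.hom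
  haveI : GeometricallyIntegral At.hom := AbVarLib.geometricallyIntegral_of_smooth At.hom
  haveI := isCommMonObj_of_isProper_of_geometricallyIntegral A
  haveI := isCommMonObj_of_isProper_of_geometricallyIntegral At
  obtain ⟨L, hL, hamp⟩ := AbCubeLib.exists_ample A
  obtain ⟨c', hc'⟩ := PicM.exists_mul_eq_one (PicM.of hL)
  obtain ⟨Linv, hLi, rfl⟩ := PicM.exists_eq_of c'
  let Λ := CohB1.tensorMod (CohB1.tensorMod ((Scheme.Modules.pullback (μ[A]).left).obj L)
      ((Scheme.Modules.pullback (fst A A).left).obj Linv)) ((Scheme.Modules.pullback (snd A A).left).obj Linv)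
  have hΛ : PicF.IsInvertible Λ := isInvertible_tensorMod (isInvertible_tensorMod
    (PicLoc.isInvertible_pullback _ hL) (PicLoc.isInvertible_pullback _ hLi)) (PicLoc.isInvertible_pullback _ hLi)
  have hN : PicM.pull μ[A].left (PicM.of hL) =
      PicM.of hΛ * PicM.pull (fst A A).left (PicM.of hL) * PicM.pull (snd A A).left (PicM.of hL) := by
    show _ = PicM.pull μ[A].left (PicM.of hL) * PicM.pull (fst A A).left (PicM.of hLi) *
      PicM.pull (snd A A).left (PicM.of hLi) * PicM.pull (fst A A).left (PicM.of hL) *
        PicM.pull (snd A A).left (PicM.of hL)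
    calc PicM.pull μ[A].left (PicM.of hL)
        = PicM.pull μ[A].left (PicM.of hL) * PicM.pull (fst A A).left (PicM.of hL * PicM.of hLi) *
            PicM.pull (snd A A).left (PicM.of hL * PicM.of hLi) := by
          rw [hc', map_one, map_one, _root_.mul_one, _root_.mul_one]
      _ = _ := by rw [map_mul, map_mul]; ac_rfl
  let lam : A ⟶ At := φ A (PicF.cl Λ)
  have hlam : AgPol.IsLambda A At φ L lam := by
    refine ⟨Λ, hΛ, ?_, rfl⟩
    exact (PicM.of_eq_iff (isInvertible_tensorMod (isInvertible_tensorMod hΛ (PicLoc.isInvertible_pullback _ hL))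
      (PicLoc.isInvertible_pullback _ hL)) (PicLoc.isInvertible_pullback μ[A].left hL)).1 hN.symm
  obtain ⟨N, N0, Nrig, hNl, hmul⟩ := AbDualLib.exists_mumford hφ hL hlam
  have hNP : N = ev P (fst A A) (snd A A ≫ lam) := by
    have hp := poincare_point hφ h0 hid hrig lam
    exact eq_of_phi_eq hφ _ _ N0 hp.1 Nrig hp.2.2 (hNl.trans hp.2.1.symm)
  have hev : ∀ {V : Over (Spec (CommRingCat.of k))} (f g : V ⟶ A), ev N f g = ev P f (g ≫ lam) := fun f g => by
    rw [hNP]
    exact (pull_ev P _ _ _).trans (by rw [lift_fst, lift_snd_assoc])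
  have hsym : ∀ {V : Over (Spec (CommRingCat.of k))} (f g : V ⟶ A), ev N f g = ev N g f := fun f g => by
    have h₁ := hmul _ f g
    rw [mul_comm f g, hmul _ g f, _root_.mul_assoc, _root_.mul_assoc, mul_comm (pb g _) (pb f _)] at h₁
    exact (PicM.mul_right_cancel' h₁).symm
  let Z : Over (Spec (CommRingCat.of k)) := Over.mk (pullback.snd lam.left η[At].left)
  have hη : η[At].left ≫ At.hom = 𝟙 _ := (Over.w η[At]).trans rfl
  let i : Z ⟶ A := Over.homMk (pullback.fst lam.left η[At].left) (by
    show pullback.fst lam.left η[At].left ≫ A.hom = pullback.snd lam.left η[At].left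
    rw [← Over.w lam, pullback.condition_assoc, hη]
    exact Category.comp_id _)
  have hi : i ≫ lam = 1 := by
    refine Over.OverMorphism.ext ?_
    rw [Over.comp_left, show (1 : Z ⟶ At) = toUnit Z ≫ η[At] from rfl, Over.comp_left, Over.toUnit_left]
    exact pullback.condition
  haveI : IsClosedImmersion η[At].left := by
    haveI : IsClosedImmersion (η[At].left ≫ At.hom) := by rw [hη]; infer_instance
    exact IsClosedImmersion.of_comp _ At.hom
  haveI : IsClosedImmersion i.left := inferInstanceAs (IsClosedImmersion (pullback.fst lam.left η[At].left))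
  haveI hfinZ : Finite Z.left := by
    haveI : LocallyOfFiniteType Z.hom := by rw [← Over.w i]; infer_instance
    let Ω := AlgebraicClosure k
    let s : Spec (CommRingCat.of Ω) ⟶ Spec (CommRingCat.of k) := Spec.map (CommRingCat.ofHom (algebraMap k Ω))
    haveI : Finite (Over.mk s ⟶ Z) := by
      letI : GrpObj ((Over.pullback s).obj A) := Functor.grpObjObj
      let AK : Over (Spec (CommRingCat.of Ω)) := (Over.pullback s).obj A
      haveI : IsProper AK.hom := inferInstanceAs (IsProper (pullback.snd A.hom s))
      haveI : GeometricallyIntegral AK.hom := inferInstanceAs (GeometricallyIntegral (pullback.snd A.hom s))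
      haveI : IsAffineHom (pullback.fst A.hom s) :=
        MorphismProperty.pullback_fst (P := @IsAffineHom) A.hom s inferInstance
      have hamp' : CohB1.IsAmple ((Scheme.Modules.pullback (pullback.fst A.hom s)).obj L) :=
        AmpleLib.isAmple_pullback_of_isAffineHom (pullback.fst A.hom s) hamp
      haveI : Finite {x : 𝟙_ (Over (Spec (CommRingCat.of Ω))) ⟶ AK |
          pb (𝟙 AK * (toUnit AK ≫ x)) (PicM.of hamp'.1) = PicM.of hamp'.1} :=
        (finite_fixing_of_isAmple (A := AK) hamp').to_subtype
      refine Finite.of_injective (β := {x : 𝟙_ (Over (Spec (CommRingCat.of Ω))) ⟶ AK |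
          pb (𝟙 AK * (toUnit AK ≫ x)) (PicM.of hamp'.1) = PicM.of hamp'.1})
        (fun y => ⟨bcPts s A (y ≫ i), ?_⟩) fun y y' h => ?_
      · show pb _ _ = _
        rw [show PicM.of hamp'.1 = PicM.pull (pullback.fst A.hom s) (PicM.of hL) from rfl]
        refine AbSchLib.FiniteKL.pull_translate_eq s hL (y ≫ i) ?_
        have h1 : ev N (fst A (Over.mk s)) (snd A (Over.mk s) ≫ y ≫ i) = 1 := by
          rw [hev, Category.assoc, Category.assoc, hi, MonObj.comp_one, MonObj.comp_one]
          have hrig' := (poincare_point hφ h0 hid hrig (1 : Over.mk s ⟶ At))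
          have e := eq_of_phi_eq hφ _ _ hrig'.1 (AbCubeLib.isPicZeroCl_one _) hrig'.2.2 (map_one _)
            (hrig'.2.1.trans (phi_one hφ _).symm)
          rwa [MonObj.comp_one] at e
        have h2 := hmul _ (fst A (Over.mk s)) (snd A (Over.mk s) ≫ y ≫ i)
        rw [h1, _root_.one_mul] at h2
        refine ⟨Coh.structureModule _, AmpleLib.isInvertible_structureModule, ?_⟩
        have hS : PicF.IsInvertible ((Scheme.Modules.pullback (snd A (Over.mk s)).left).obj
            (Coh.structureModule (Over.mk s).left)) :=
          PicLoc.isInvertible_pullback _ AmpleLib.isInvertible_structureModule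
        refine (PicM.of_eq_iff (isInvertible_tensorMod (isInvertible_tensorMod hS (PicLoc.isInvertible_pullback _ hL))
          (PicLoc.isInvertible_pullback _ hL)) (PicLoc.isInvertible_pullback _ hL)).1 ?_
        rw [← PicM.of_mul (isInvertible_tensorMod hS (PicLoc.isInvertible_pullback _ hL)) (PicLoc.isInvertible_pullback _ hL),
          ← PicM.of_mul hS (PicLoc.isInvertible_pullback _ hL), ← PicM.pull_of _ hL, ← PicM.pull_of _ hL,
          ← PicM.pull_of _ hL, ← PicM.pull_of _ AmpleLib.isInvertible_structureModule,
          PicM.of_structureModule, map_one, _root_.one_mul]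
        refine h2.symm.trans ?_
        rw [show μ[A] = fst A A * snd A A by rw [Hom.mul_def, lift_fst_snd, Category.id_comp], MonObj.comp_mul,
          whiskerLeft_fst, whiskerLeft_snd]
      · haveI : Mono i := (Over.forget _).mono_of_mono_map (inferInstanceAs (Mono i.left))
        exact (cancel_mono i).1 ((bcPts_bijective s A).1 (congrArg Subtype.val h))
    let W := pullback Z.hom s
    haveI : JacobsonSpace W := LocallyOfFiniteType.jacobsonSpace (pullback.snd Z.hom s)
    have hclosed : (closedPoints W).Finite := by
      refine (Set.finite_range (fun y : Over.mk s ⟶ Z =>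
        (pullback.lift y.left (𝟙 _) (by rw [Category.id_comp]; exact Over.w y) : Spec (CommRingCat.of Ω) ⟶ W)
          (IsLocalRing.closedPoint Ω))).subset fun z hz => ?_
      refine ⟨Over.homMk (pointOfClosedPoint (pullback.snd Z.hom s) z hz ≫ pullback.fst Z.hom s) (by
        rw [Category.assoc, pullback.condition, pointOfClosedPoint_comp_assoc]; rfl), ?_⟩
      refine Eq.trans ?_ (pointOfClosedPoint_apply (pullback.snd Z.hom s) z hz (IsLocalRing.closedPoint Ω))
      exact congrArg (fun q : Spec (CommRingCat.of Ω) ⟶ W => q (IsLocalRing.closedPoint Ω))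
        (pullback.hom_ext (pullback.lift_fst _ _ _)
          ((pullback.lift_snd _ _ _).trans (pointOfClosedPoint_comp _ _ _).symm))
    have hfin : Finite W := by
      have h := closure_closedPoints (X := W)
      have hcl : IsClosed (closedPoints W) := by
        rw [← Set.biUnion_of_singleton (closedPoints W)]
        exact hclosed.isClosed_biUnion fun z hz => hz
      rw [hcl.closure_eq] at h
      exact Set.finite_univ_iff.1 (h ▸ hclosed)
    exact Finite.of_surjective (pullback.fst Z.hom s) fun z => by
      obtain ⟨w, hw, -⟩ := Scheme.Pullback.exists_preimage_pullback (f := Z.hom) (g := s) z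
        (IsLocalRing.closedPoint Ω) (Subsingleton.elim (α := PrimeSpectrum k) _ _)
      exact ⟨w, hw⟩
  refine ⟨Set.range i.left, Set.finite_range _, i.left.isClosedEmbedding.isClosed_range, fun K _ s x hx => ?_⟩
  have h1 : ev N (fst A (Over.mk s)) (snd A (Over.mk s) ≫ x) = 1 := by
    rw [hsym, hev]
    have e := congrArg (PicM.pull (CartesianMonoidalCategory.lift (snd A (Over.mk s))
      (fst A (Over.mk s) ≫ lam)).left) hx
    rw [pull_ev, lift_fst_assoc, lift_snd, map_one] at e
    exact e
  have h2 : x ≫ lam = 1 := by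
    rw [← hNl, ← phi_pb hφ x N N0]
    exact (congrArg (fun c : PicM (A ⊗ Over.mk s).left => φ (Over.mk s) c.val) h1).trans (phi_one hφ _)
  refine ⟨(pullback.lift x.left s ?_ : Spec (CommRingCat.of K) ⟶ Z.left) (IsLocalRing.closedPoint K), ?_⟩
  · rw [← Over.comp_left, h2, show (1 : Over.mk s ⟶ At) = toUnit _ ≫ η[At] from rfl, Over.comp_left, Over.toUnit_left]
    rfl
  · exact congrArg (fun q : Spec (CommRingCat.of K) ⟶ A.left => q (IsLocalRing.closedPoint K)) (pullback.lift_fst _ _ _)

end Groth.Agent.BCFlat16
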