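import Groth.Agent.BCFlat16.Ten
import Groth.Agent.BCFlat16.Main
import Groth.Agent.Dual22Lib.ProjQCoh

/-!
# Base change for `E ⊗^L G` with `G` flat over the base
-/

set_option autoImplicit false
set_option backward.isDefEq.respectTransparency false
set_option backward.defeqAttrib.useBackward true
set_option linter.style.haveILetI false
set_option linter.unusedSectionVars false
set_option synthInstance.maxHeartbeats 100000

universe u

open CategoryTheory CategoryTheory.Limits CategoryTheory.Pretriangulated AlgebraicGeometry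
open Groth.Agent.DCat Groth.Agent.DCat.PerfLocal Groth.Agent.Dual22Lib Groth.Agent.Dual22Lib.WeakExact
open Groth.Agent.Dual22Lib.BCSquare Groth.Agent.Coherent

attribute [local instance] HasDerivedCategory.standard

namespace Groth.Agent.BCFlat16.TenBC

variable {X Y X' Y' : Scheme.{u}}

/-- Base change followed by the projection. -/
noncomputable abbrev theta {f : X ⟶ Y} {g : Y' ⟶ Y} {f' : X' ⟶ Y'} {g' : X' ⟶ X} [DCoh.HasRpush f]
    [DCoh.HasRpush g] [DCoh.HasLpull g] [DCoh.HasRpush f'] [DCoh.HasRpush g'] [DCoh.HasLpull g']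
    (adjg : DCoh.Lpull g ⊣ DCoh.Rpush g) (adjg' : DCoh.Lpull g' ⊣ DCoh.Rpush g')
    (e : DCoh.Rpush g' ⋙ DCoh.Rpush f ≅ DCoh.Rpush f' ⋙ DCoh.Rpush g) {G : X.Modules} {G' : X'.Modules}
    (ψ : tens G ⋙ DCoh.Lpull g' ⟶ DCoh.Lpull g' ⋙ tens G') :
    tens G ⋙ DCoh.Rpush f ⋙ DCoh.Lpull g ⟶ DCoh.Lpull g' ⋙ tens G' ⋙ DCoh.Rpush f' :=
  Functor.whiskerLeft (tens G) (BCAlg.bc adjg adjg' e) ≫ (Functor.associator _ _ _).inv ≫
    Functor.whiskerRight ψ (DCoh.Rpush f') ≫ (Functor.associator _ _ _).hom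

/-- Base change holds at all `E ⊗^L G`. -/
def Good (f : X ⟶ Y) (g : Y' ⟶ Y) (f' : X' ⟶ Y') (g' : X' ⟶ X) (G : X.Modules) : Prop :=
  ∀ (_ : DCoh.HasRpush f) (_ : DCoh.HasRpush g) (_ : DCoh.HasLpull g) (_ : DCoh.HasRpush f')
    (_ : DCoh.HasRpush g') (_ : DCoh.HasLpull g'),
    ∀ (adjg : DCoh.Lpull g ⊣ DCoh.Rpush g) (adjg' : DCoh.Lpull g' ⊣ DCoh.Rpush g')
      (e : DCoh.Rpush g' ⋙ DCoh.Rpush f ≅ DCoh.Rpush f' ⋙ DCoh.Rpush g) (G' : X'.Modules)
      (ψ : tens G ⋙ DCoh.Lpull g' ⟶ DCoh.Lpull g' ⋙ tens G'), Dat g' ψ →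
      ∀ E, DCoh.IsQCohD E → IsIso ((BCAlg.bc adjg adjg' e).app ((tens G).obj E) ≫ (DCoh.Rpush f').map (ψ.app E))

/-- Transport of the projection property. -/
theorem tr_app_of_iso {A B : Type*} [Category A] {X : Scheme.{u}} {F F' : A ⥤ DCoh.D X} (φ : F ⟶ F') {a b : A}
    (i : a ≅ b) {n : ℤ} (h : Tr n (φ.app a)) : Tr n (φ.app b) := by
  have : φ.app b = F.map i.inv ≫ φ.app a ≫ F'.map i.hom := by
    rw [φ.naturality_assoc, ← F'.map_comp, Iso.inv_hom_id, F'.map_id, Category.comp_id]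
  rw [this]
  exact (h.comp_iso _).precomp _

theorem isQCohD_tens {G : X.Modules} (hG : Coh.IsQCoh G) {E : DCoh.D X} (hE : DCoh.IsQCohD E) :
    DCoh.IsQCohD ((tens G).obj E) :=
  DQCoh.isQCohD_LTensorCx _ (isQCohD_sM hG) E hE

/-- The target module is quasi-coherent. -/
theorem isQCoh_of_dat {g : X ⟶ Y} [DCoh.HasLpull g] {G : Y.Modules} (hG : Coh.IsQCoh G) {G' : X.Modules}
    {ψ : tens G ⋙ DCoh.Lpull g ⟶ DCoh.Lpull g ⋙ tens G'} (hψ : Dat g ψ) : Coh.IsQCoh G' := by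
  have h := (hψ 0).isQCohD (DQCoh.isQCohD_Lpull g _ (isQCohD_tens hG (isQCohD_ox 0)))
  obtain ⟨w⟩ := nonempty_Lpull_ox g 0
  obtain ⟨a⟩ := nonempty_LTensor_ox (sM G') 0
  have h' := DQCoh.isQCohD_of_iso ((tens G').mapIso w ≪≫ a ≪≫ (shiftFunctorZero _ ℤ).app _ ≪≫ (inDIso G').symm) h 0
  exact Coherent.isQCoh_of_iso ((DerivedCategory.singleFunctorCompHomologyFunctorIso _ 0).app G') (h := h')

section Vert

variable {X'' Y'' : Scheme.{u}} {h : Y'' ⟶ Y'} {f'' : X'' ⟶ Y''} {h' : X'' ⟶ X'} {gC : Y'' ⟶ Y} {gC' : X'' ⟶ X}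
  {f : X ⟶ Y} {g : Y' ⟶ Y} {f' : X' ⟶ Y'} {g' : X' ⟶ X}

/-- From the composite square to the lower square, after restricting. -/
theorem isIso_map_theta_of_comp (hg : h ≫ g = gC) (hg' : h' ≫ g' = gC') [IsOpenImmersion h]
    (hsq : IsPullback h' f'' f' h) {G : X.Modules} (hC : Good f gC f'' gC' G)
    [DCoh.HasRpush f] [DCoh.HasRpush g] [DCoh.HasLpull g] [DCoh.HasRpush f'] [DCoh.HasRpush g']
    [DCoh.HasLpull g'] [DCoh.HasLpull h] (adjg : DCoh.Lpull g ⊣ DCoh.Rpush g)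
    (adjg' : DCoh.Lpull g' ⊣ DCoh.Rpush g')
    (e : DCoh.Rpush g' ⋙ DCoh.Rpush f ≅ DCoh.Rpush f' ⋙ DCoh.Rpush g) {G' : X'.Modules}
    (ψ : tens G ⋙ DCoh.Lpull g' ⟶ DCoh.Lpull g' ⋙ tens G') (hψ : Dat g' ψ) (E : DCoh.D X) (hE : DCoh.IsQCohD E) :
    IsIso ((DCoh.Lpull h).map ((BCAlg.bc adjg adjg' e).app ((tens G).obj E) ≫ (DCoh.Rpush f').map (ψ.app E))) := by
  subst hg hg'
  haveI : IsOpenImmersion h' := MorphismProperty.of_isPullback hsq.flip inferInstance
  haveI := hasRpush h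
  haveI := hasRpush h'
  haveI := hasLpull h'
  haveI := hasRpush f''
  haveI := hasRpush (h ≫ g)
  haveI := hasRpush (h' ≫ g')
  haveI := hasLpull (h ≫ g)
  haveI := hasLpull (h' ≫ g')
  obtain ⟨ah⟩ := nonempty_pullPushAdj h
  obtain ⟨ah'⟩ := nonempty_pullPushAdj h'
  obtain ⟨aC⟩ := nonempty_pullPushAdj (h ≫ g)
  obtain ⟨aC'⟩ := nonempty_pullPushAdj (h' ≫ g')
  obtain ⟨eh⟩ := exists_e hsq.w
  obtain ⟨c⟩ := DCat.nonempty_LpullComp h g
  obtain ⟨c'⟩ := DCat.nonempty_LpullComp h' g'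
  obtain ⟨a'⟩ := nonempty_tens_open h' G'
  let ψC : tens G ⋙ DCoh.Lpull (h' ≫ g') ⟶ DCoh.Lpull (h' ≫ g') ⋙ tens ((Scheme.Modules.pullback h').obj G') :=
    Functor.whiskerLeft _ c'.inv ≫ (Functor.associator _ _ _).inv ≫ Functor.whiskerRight ψ (DCoh.Lpull h') ≫
      (Functor.associator _ _ _).hom ≫ Functor.whiskerLeft _ a'.hom ≫ (Functor.associator _ _ _).inv ≫
      Functor.whiskerRight c'.hom _
  have hψC : ∀ K, ψC.app K = c'.inv.app ((tens G).obj K) ≫ ((DCoh.Lpull h').map (ψ.app K) ≫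
      a'.hom.app ((DCoh.Lpull g').obj K)) ≫ (tens _).map (c'.hom.app K) := fun K => by simp [ψC]
  have hD : Dat (h' ≫ g') ψC := fun n => by
    rw [hψC]
    exact ((((hψ n).Lpull_open h').comp_iso _).comp_iso _).precomp _
  have h1 := hC inferInstance inferInstance inferInstance inferInstance inferInstance inferInstance aC aC'
    (BCAlg.moveE ((adjg.comp ah).ofNatIsoLeft c) aC ((adjg'.comp ah').ofNatIsoLeft c') aC' (BCAlg.vE e eh)) _ ψC
    hD E hE
  rw [hψC, BCAlg.bc_moveE, BCAlg.bc_ofNatIsoLeft, BCAlg.bc_vcomp] at h1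
  simp only [Category.assoc] at h1
  rw [← Functor.map_comp, Iso.hom_inv_id_app_assoc] at h1
  simp only [Functor.map_comp] at h1
  have hn := (BCAlg.bc ah ah' eh).naturality (ψ.app E)
  dsimp at hn
  rw [← reassoc_of% hn, ← Functor.map_comp_assoc, isIso_comp_left_iff] at h1
  haveI : IsIso ((BCAlg.bc ah ah' eh).app ((tens G').obj ((DCoh.Lpull g').obj E))) :=
    BCSquare.isIso_bc_open (BCSquare.opensRange_le_of_isPullback hsq) ah ah' eh _
  exact @IsIso.of_isIso_comp_right _ _ _ _ _ _ _ inferInstance h1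

/-- Base change for a composite whose first map is an open immersion. -/
theorem of_comp (hg : h ≫ g = gC) (hg' : h' ≫ g' = gC') [IsOpenImmersion g]
    (hsq : IsPullback g' f' f g) (w : h' ≫ f' = f'' ≫ h) {G : X.Modules}
    (hH : Good f' h f'' h' ((Scheme.Modules.pullback g').obj G)) : Good f gC f'' gC' G := by
  subst hg hg'
  intro _ _ _ _ _ _ aC aC' eC G'' ψC hψC E hE
  haveI : IsOpenImmersion g' := MorphismProperty.of_isPullback hsq.flip inferInstance
  haveI := hasRpush g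
  haveI := hasRpush g'
  haveI := hasRpush h
  haveI := hasRpush h'
  haveI := hasRpush f'
  haveI := hasLpull g
  haveI := hasLpull g'
  haveI := hasLpull h
  haveI := hasLpull h'
  obtain ⟨ag⟩ := nonempty_pullPushAdj g
  obtain ⟨ag'⟩ := nonempty_pullPushAdj g'
  obtain ⟨ah⟩ := nonempty_pullPushAdj h
  obtain ⟨ah'⟩ := nonempty_pullPushAdj h'
  obtain ⟨eg⟩ := exists_e hsq.w
  obtain ⟨c⟩ := DCat.nonempty_LpullComp h g
  obtain ⟨c'⟩ := DCat.nonempty_LpullComp h' g'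
  obtain ⟨a⟩ := nonempty_tens_open g' G
  haveI := BCSquare.isIso_counit g' ag'
  let φ : DCoh.Lpull g' ⋙ tens ((Scheme.Modules.pullback g').obj G) ⋙ DCoh.Lpull h' ⟶
      DCoh.Lpull g' ⋙ DCoh.Lpull h' ⋙ tens G'' :=
    (Functor.associator _ _ _).inv ≫ Functor.whiskerRight a.inv _ ≫ (Functor.associator _ _ _).hom ≫
      Functor.whiskerLeft _ c'.hom ≫ ψC ≫ Functor.whiskerRight c'.inv _ ≫ (Functor.associator _ _ _).hom
  have hφ : ∀ K, φ.app K = (DCoh.Lpull h').map (a.inv.app K) ≫ c'.hom.app ((tens G).obj K) ≫ ψC.app K ≫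
      (tens G'').map (c'.inv.app K) := fun K => by simp [φ]
  obtain ⟨ψh, hψh⟩ := exists_descend ag' (tens ((Scheme.Modules.pullback g').obj G) ⋙ DCoh.Lpull h')
    (DCoh.Lpull h' ⋙ tens G'') φ
  have hDh : Dat h' ψh := fun n => by
    obtain ⟨i⟩ := nonempty_Lpull_ox g' n
    refine tr_app_of_iso (B := Unit) ψh i ?_
    rw [hψh, hφ]
    exact (((hψC n).comp_iso _).precomp _).precomp _
  let a₂ := (ag.comp ah).ofNatIsoLeft c
  let a₂' := (ag'.comp ah').ofNatIsoLeft c'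
  let e₂ := BCAlg.moveE aC a₂ aC' a₂' eC
  obtain ⟨hF₁, hF₂⟩ := full_faithful_Rpush g
  let hFW := (Functor.FullyFaithful.ofFullyFaithful (DCoh.Rpush g)).whiskeringRight (DCoh.D X'')
  let eh : DCoh.Rpush h' ⋙ DCoh.Rpush f' ≅ DCoh.Rpush f'' ⋙ DCoh.Rpush h :=
    hFW.preimageIso (show (DCoh.Rpush h' ⋙ DCoh.Rpush f') ⋙ DCoh.Rpush g ≅
        (DCoh.Rpush f'' ⋙ DCoh.Rpush h) ⋙ DCoh.Rpush g from
      Functor.associator _ _ _ ≪≫ Functor.isoWhiskerLeft _ eg.symm ≪≫ (Functor.associator _ _ _).symm ≪≫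
        e₂ ≪≫ (Functor.associator _ _ _).symm)
  have he : BCAlg.vE eg eh = e₂ := by
    have h0 : Functor.whiskerRight eh.hom (DCoh.Rpush g) = (Functor.associator _ _ _ ≪≫
        Functor.isoWhiskerLeft _ eg.symm ≪≫ (Functor.associator _ _ _).symm ≪≫
        e₂ ≪≫ (Functor.associator _ _ _).symm).hom := hFW.map_preimage _
    ext M : 3
    have h1 := congrArg (fun t => NatTrans.app t M) h0
    dsimp [BCAlg.vE] at h1 ⊢
    rw [h1]
    simp
  have h2 := hH inferInstance inferInstance inferInstance inferInstance inferInstance inferInstance ah ah' eh G''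
    ψh hDh ((DCoh.Lpull g').obj E) (DQCoh.isQCohD_Lpull g' E hE)
  rw [hψh, hφ] at h2
  simp only [Functor.map_comp] at h2
  have hn := (BCAlg.bc ah ah' eh).naturality (a.inv.app E)
  dsimp at hn
  rw [← reassoc_of% hn, isIso_comp_left_iff, ← Category.assoc, ← Category.assoc, isIso_comp_right_iff,
    Category.assoc] at h2
  rw [← BCAlg.bc_moveE aC a₂ aC' a₂' eC, show BCAlg.moveE aC a₂ aC' a₂' eC = BCAlg.vE eg eh from he.symm,
    BCAlg.bc_ofNatIsoLeft, BCAlg.bc_vcomp]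
  simp only [Category.assoc]
  haveI := isIso_bc_open (opensRange_le_of_isPullback hsq) ag ag' eg ((tens G).obj E)
  rw [isIso_comp_left_iff, isIso_comp_left_iff]
  exact h2

end Vert

variable {f : X ⟶ Y} {g : Y' ⟶ Y} {f' : X' ⟶ Y'} {g' : X' ⟶ X}

/-- The property may be checked over affine covers of both bases. -/
theorem of_cover (hsq : IsPullback g' f' f g) {G : X.Modules}
    (H : ∀ y : Y', ∃ (U U' : Scheme.{u}) (a : U ⟶ Y) (b : U' ⟶ Y') (h : U' ⟶ U) (_ : IsOpenImmersion a)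
      (_ : IsOpenImmersion b) (XU X'' : Scheme.{u}) (aX : XU ⟶ X) (fU : XU ⟶ U) (hX : X'' ⟶ XU) (f'' : X'' ⟶ U'),
      h ≫ a = b ≫ g ∧ y ∈ b.opensRange ∧ IsPullback aX fU f a ∧ IsPullback hX f'' fU h ∧
        Good fU h f'' hX ((Scheme.Modules.pullback aX).obj G)) : Good f g f' g' G := by
  intro _ _ _ _ _ _ adjg adjg' e G' ψ hψ E hE
  refine ProjPerf.isIso_of_locally _ fun y => ?_
  obtain ⟨U, U', a, b, h, _, _, XU, X'', aX, fU, hX, f'', hw, hy, hU, hH, hgood⟩ := H y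
  have houter : IsPullback (hX ≫ aX) f'' f (b ≫ g) := hw ▸ hH.paste_horiz hU
  let bX : X'' ⟶ X' := hsq.lift (hX ≫ aX) (f'' ≫ b) (by rw [Category.assoc, hU.w, ← Category.assoc, hH.w]; simp [hw])
  have hbX : IsPullback bX f'' f' b := IsPullback.of_right' houter hsq
  have hC : Good f (b ≫ g) f'' (hX ≫ aX) G := of_comp hw rfl hU hH.w hgood
  haveI := hasLpull b
  haveI := isIso_map_theta_of_comp rfl (hsq.lift_fst _ _ _) hbX hC adjg adjg' e ψ hψ E hE
  obtain ⟨β⟩ := nonempty_Lpull_rd b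
  haveI : IsIso ((PerfLocal.rd b).map ((BCAlg.bc adjg adjg' e).app ((tens G).obj E) ≫
      (DCoh.Rpush f').map (ψ.app E))) := (NatIso.isIso_map_iff β _).1 ‹_›
  refine ⟨b.opensRange, hy, ?_⟩
  exact TenLocal.isIso_rd_of_isIso_rd b b.isoOpensRange.inv b.opensRange.ι b.isoOpensRange_inv_comp _

/-- Objects in the image of a fully faithful right adjoint. -/
theorem isIso_unit_of_iso {A B : Type*} [Category A] [Category B] {L : A ⥤ B} {R : B ⥤ A} (adj : L ⊣ R)
    [IsIso adj.counit] {Z : A} {K : B} (i : Z ≅ R.obj K) : IsIso (adj.unit.app Z) := by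
  refine (NatTrans.isIso_app_iff_of_iso adj.unit i).2 ?_
  haveI : IsIso (R.map (adj.counit.app K)) := inferInstance
  exact BCSquare.isIso_of_comp_eq_id (adj.right_triangle_components K)

section Push

variable {V V' : Scheme.{u}} {j : V ⟶ X} {j' : V' ⟶ X'} {g'' : V' ⟶ V}

/-- From a quasi-compact open of the source to direct images from it. -/
theorem isIso_theta_push [IsOpenImmersion j] [QuasiCompact j] (hsq : IsPullback g'' j' j g') {G : X.Modules}
    (hG : Coh.IsQCoh G) (hC : Good (j ≫ f) g (j' ≫ f') g'' ((Scheme.Modules.pullback j).obj G))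
    [DCoh.HasRpush f] [DCoh.HasRpush g] [DCoh.HasLpull g] [DCoh.HasRpush f'] [DCoh.HasRpush g']
    [DCoh.HasLpull g'] [DCoh.HasRpush j] (adjg : DCoh.Lpull g ⊣ DCoh.Rpush g)
    (adjg' : DCoh.Lpull g' ⊣ DCoh.Rpush g')
    (e : DCoh.Rpush g' ⋙ DCoh.Rpush f ≅ DCoh.Rpush f' ⋙ DCoh.Rpush g) {G' : X'.Modules}
    (ψ : tens G ⋙ DCoh.Lpull g' ⟶ DCoh.Lpull g' ⋙ tens G') (hψ : Dat g' ψ) (K : DCoh.D V) (hK : DCoh.IsQCohD K) :
    IsIso ((BCAlg.bc adjg adjg' e).app ((tens G).obj ((DCoh.Rpush j).obj K)) ≫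
      (DCoh.Rpush f').map (ψ.app ((DCoh.Rpush j).obj K))) := by
  haveI : IsOpenImmersion j' := MorphismProperty.of_isPullback (P := @IsOpenImmersion) hsq inferInstance
  haveI : QuasiCompact j' := MorphismProperty.of_isPullback (P := @QuasiCompact) hsq inferInstance
  haveI := hG
  haveI := hasRpush j'
  haveI := hasRpush g''
  haveI := hasLpull j
  haveI := hasLpull j'
  haveI := hasLpull g''
  haveI := hasRpush (j ≫ f)
  haveI := hasRpush (j' ≫ f')
  obtain ⟨aj⟩ := nonempty_pullPushAdj j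
  obtain ⟨aj'⟩ := nonempty_pullPushAdj j'
  obtain ⟨a''⟩ := nonempty_pullPushAdj g''
  haveI := BCSquare.isIso_counit j aj
  haveI := BCSquare.isIso_counit j' aj'
  obtain ⟨ej⟩ := exists_e hsq.w
  let adjA := (aj.comp a'').ofNatIsoRight ej
  let adjB := adjg'.comp aj'
  let c : DCoh.Lpull g' ⋙ DCoh.Lpull j' ≅ DCoh.Lpull j ⋙ DCoh.Lpull g'' := adjB.leftAdjointUniq adjA
  have hc : ∀ Z, (DCoh.Lpull g').map (aj.unit.app Z) ≫ (BCAlg.bc adjg' a'' ej).app ((DCoh.Lpull j).obj Z) =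
      aj'.unit.app ((DCoh.Lpull g').obj Z) ≫ (DCoh.Rpush j').map (c.hom.app Z) := fun Z => by
    apply (adjg'.homEquiv _ _).injective
    rw [adjg'.homEquiv_naturality_left]
    refine (congrArg (aj.unit.app Z ≫ ·) (BCAlg.unit_bc adjg' a'' ej ((DCoh.Lpull j).obj Z))).trans ?_
    have h := Adjunction.unit_leftAdjointUniq_hom_app adjB adjA Z
    simp [adjA, adjB, Adjunction.ofNatIsoRight, Adjunction.homEquiv_unit] at h ⊢
    exact h.symm
  obtain ⟨aT⟩ := nonempty_tens_open j G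
  obtain ⟨aT'⟩ := nonempty_tens_open j' G'
  let φ : DCoh.Lpull j ⋙ tens ((Scheme.Modules.pullback j).obj G) ⋙ DCoh.Lpull g'' ⟶
      DCoh.Lpull j ⋙ DCoh.Lpull g'' ⋙ tens ((Scheme.Modules.pullback j').obj G') :=
    (Functor.associator _ _ _).inv ≫ Functor.whiskerRight aT.inv _ ≫ (Functor.associator _ _ _).hom ≫
      Functor.whiskerLeft _ c.inv ≫ (Functor.associator _ _ _).inv ≫ Functor.whiskerRight ψ _ ≫
      (Functor.associator _ _ _).hom ≫ Functor.whiskerLeft _ aT'.hom ≫ (Functor.associator _ _ _).inv ≫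
      Functor.whiskerRight c.hom _ ≫ (Functor.associator _ _ _).hom
  have hφ : ∀ Z, φ.app Z = (DCoh.Lpull g'').map (aT.inv.app Z) ≫ c.inv.app ((tens G).obj Z) ≫
      (DCoh.Lpull j').map (ψ.app Z) ≫ aT'.hom.app ((DCoh.Lpull g').obj Z) ≫ (tens _).map (c.hom.app Z) :=
    fun Z => by simp [φ]
  obtain ⟨ψU, hψU⟩ := exists_descend aj (tens ((Scheme.Modules.pullback j).obj G) ⋙ DCoh.Lpull g'')
    (DCoh.Lpull g'' ⋙ tens ((Scheme.Modules.pullback j').obj G')) φ
  have hDU : Dat g'' ψU := fun n => by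
    obtain ⟨i⟩ := nonempty_Lpull_ox j n
    refine tr_app_of_iso (B := Unit) ψU i ?_
    rw [hψU, hφ]
    exact (((((hψ n).Lpull_open j').comp_iso _).precomp _).precomp _)
  let E := (DCoh.Rpush j).obj K
  let Z := (tens G).obj E
  have hE : DCoh.IsQCohD E := DQCoh.isQCohD_Rpush j K hK
  have hG' : Coh.IsQCoh G' := isQCoh_of_dat hG hψ
  haveI : IsIso (aj.unit.app Z) := by
    obtain ⟨d⟩ := FlatBC14.nonempty_Lpull_inD j G
    obtain ⟨p⟩ := ProjQCoh.nonempty_projection_qcoh j K hK (sM G) (isQCohD_sM hG)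
      (sM ((Scheme.Modules.pullback j).obj G))
      ⟨(inDIso _).symm ≪≫ d.symm ≪≫ (DCoh.Lpull j).mapIso (inDIso G)⟩
    exact isIso_unit_of_iso aj p
  haveI : IsIso (aj'.unit.app ((tens G').obj ((DCoh.Lpull g').obj E))) := by
    haveI := hG'
    haveI hb : IsIso ((BCAlg.bc adjg' a'' ej).app K) :=
      BCMain.good_of_flat j g' hsq (Or.inl inferInstance) inferInstance inferInstance inferInstance inferInstance
        inferInstance inferInstance adjg' a'' ej K hK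
    obtain ⟨d⟩ := FlatBC14.nonempty_Lpull_inD j' G'
    obtain ⟨p⟩ := ProjQCoh.nonempty_projection_qcoh j' ((DCoh.Lpull g'').obj K) (DQCoh.isQCohD_Lpull g'' K hK)
      (sM G') (isQCohD_sM hG') (sM ((Scheme.Modules.pullback j').obj G'))
      ⟨(inDIso _).symm ≪≫ d.symm ≪≫ (DCoh.Lpull j').mapIso (inDIso G')⟩
    exact isIso_unit_of_iso aj' ((tens G').mapIso (asIso ((BCAlg.bc adjg' a'' ej).app K)) ≪≫ p)
  obtain ⟨β⟩ := DCat.nonempty_RpushComp j f
  obtain ⟨β'⟩ := DCat.nonempty_RpushComp j' f'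
  have h1 := hC inferInstance inferInstance inferInstance inferInstance inferInstance inferInstance adjg a''
    (Functor.isoWhiskerLeft _ β.symm ≪≫ BCAlg.hE e ej ≪≫ Functor.isoWhiskerRight β' _) _ ψU hDU
    ((DCoh.Lpull j).obj E) (DQCoh.isQCohD_Lpull j E hE)
  rw [hψU, hφ] at h1
  simp only [Functor.map_comp] at h1
  have hn := (BCAlg.bc adjg a'' (Functor.isoWhiskerLeft _ β.symm ≪≫ BCAlg.hE e ej ≪≫
    Functor.isoWhiskerRight β' _)).naturality (aT.inv.app E)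
  dsimp at hn
  rw [← reassoc_of% hn, isIso_comp_left_iff, BCAlg.bc_iso, BCAlg.bc_hcomp adjg adjg'] at h1
  simp only [Category.assoc] at h1
  rw [isIso_comp_left_iff] at h1
  have n1 := β'.hom.naturality (c.inv.app Z)
  have n2 := β'.hom.naturality ((DCoh.Lpull j').map (ψ.app E))
  dsimp at n1 n2
  rw [← reassoc_of% n1, ← reassoc_of% n2] at h1
  simp only [← Category.assoc] at h1
  rw [isIso_comp_right_iff, isIso_comp_right_iff, isIso_comp_right_iff] at h1
  simp only [Category.assoc] at h1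
  have hψe : ψ.app E ≫ aj'.unit.app ((tens G').obj ((DCoh.Lpull g').obj E)) =
      aj'.unit.app ((DCoh.Lpull g').obj Z) ≫ (DCoh.Rpush j').map ((DCoh.Lpull j').map (ψ.app E)) :=
    aj'.unit.naturality (ψ.app E)
  have hu : aj'.unit.app ((DCoh.Lpull g').obj Z) = (DCoh.Lpull g').map (aj.unit.app Z) ≫
      (BCAlg.bc adjg' a'' ej).app ((DCoh.Lpull j).obj Z) ≫ (DCoh.Rpush j').map (c.inv.app Z) := by
    rw [reassoc_of% hc Z, ← Functor.map_comp, Iso.hom_inv_id_app]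
    erw [CategoryTheory.Functor.map_id, Category.comp_id]
  have key : ((BCAlg.bc adjg adjg' e).app Z ≫ (DCoh.Rpush f').map (ψ.app E)) ≫
      (DCoh.Rpush f').map (aj'.unit.app ((tens G').obj ((DCoh.Lpull g').obj E))) =
      (DCoh.Lpull g).map ((DCoh.Rpush f).map (aj.unit.app Z)) ≫
        (BCAlg.bc adjg adjg' e).app ((DCoh.Rpush j).obj ((DCoh.Lpull j).obj Z)) ≫
        (DCoh.Rpush f').map ((BCAlg.bc adjg' a'' ej).app ((DCoh.Lpull j).obj Z)) ≫
        (DCoh.Rpush f').map ((DCoh.Rpush j').map (c.inv.app Z)) ≫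
        (DCoh.Rpush f').map ((DCoh.Rpush j').map ((DCoh.Lpull j').map (ψ.app E))) := by
    rw [Category.assoc, ← Functor.map_comp, hψe, hu]
    simp only [Functor.map_comp, Category.assoc]
    have := (BCAlg.bc adjg adjg' e).naturality (aj.unit.app Z)
    dsimp at this
    rw [← reassoc_of% this]
  haveI := h1
  have h2 : IsIso (((BCAlg.bc adjg adjg' e).app Z ≫ (DCoh.Rpush f').map (ψ.app E)) ≫
      (DCoh.Rpush f').map (aj'.unit.app ((tens G').obj ((DCoh.Lpull g').obj E)))) := by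
    rw [key]
    infer_instance
  exact @IsIso.of_isIso_comp_right _ _ _ _ _ _ _ inferInstance h2

end Push

end Groth.Agent.BCFlat16.TenBC
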