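import Groth.Agent.BCFlat16.TenBC

/-!
# Base change for `E ⊗^L G` over quasi-compact quasi-separated morphisms
-/

set_option autoImplicit false
set_option backward.isDefEq.respectTransparency false
set_option backward.defeqAttrib.useBackward true
set_option linter.style.haveILetI false
set_option linter.unusedSectionVars false
set_option synthInstance.maxHeartbeats 100000

universe u

open CategoryTheory CategoryTheory.Limits CategoryTheory.Pretriangulated AlgebraicGeometry TopologicalSpace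
open Groth.Agent.DCat Groth.Agent.DCat.PerfLocal Groth.Agent.Dual22Lib Groth.Agent.Dual22Lib.WeakExact
open Groth.Agent.Dual22Lib.BCSquare Groth.Agent.Coherent

attribute [local instance] HasDerivedCategory.standard

namespace Groth.Agent.BCFlat16.TenBC

section Shifts

variable {X Y X' Y' : Scheme.{u}} {f : X ⟶ Y} {g : Y' ⟶ Y} {f' : X' ⟶ Y'} {g' : X' ⟶ X}
  [DCoh.HasRpush f] [DCoh.HasRpush g] [DCoh.HasLpull g] [DCoh.HasRpush f'] [DCoh.HasRpush g'] [DCoh.HasLpull g']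
  (adjg : DCoh.Lpull g ⊣ DCoh.Rpush g) (adjg' : DCoh.Lpull g' ⊣ DCoh.Rpush g')
  (e : DCoh.Rpush g' ⋙ DCoh.Rpush f ≅ DCoh.Rpush f' ⋙ DCoh.Rpush g) {G : X.Modules} {G' : X'.Modules}
  (ψ : tens G ⋙ DCoh.Lpull g' ⟶ DCoh.Lpull g' ⋙ tens G')

theorem theta_app (E : DCoh.D X) : (theta adjg adjg' e ψ).app E =
    (BCAlg.bc adjg adjg' e).app ((tens G).obj E) ≫ (DCoh.Rpush f').map (ψ.app E) := by
  simp [theta]

theorem triExact_src : TriExact (tens G ⋙ DCoh.Rpush f ⋙ DCoh.Lpull g) :=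
  (TenLocal.triExact_LTensor _).comp ((TenLocal.triExact_Rpush f).comp (TenLocal.triExact_Lpull g))

theorem triExact_tgt : TriExact (DCoh.Lpull g' ⋙ tens G' ⋙ DCoh.Rpush f') :=
  (TenLocal.triExact_Lpull g').comp ((TenLocal.triExact_LTensor _).comp (TenLocal.triExact_Rpush f'))

/-- The comparison at shifts of the structure sheaf. -/
theorem isIso_theta_ox (hψ : Dat g' ψ) (h1 : G1 f g f' g' G) (n : ℤ) :
    IsIso ((theta adjg adjg' e ψ).app ((ox X)⟦n⟧)) := by
  obtain ⟨a⟩ := nonempty_LTensor_ox (sM G) n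
  let i : (tens G).obj ((ox X)⟦n⟧) ≅ DerivedCategory.Qh.obj (sgl (-n) G) :=
    a ≪≫ ((DerivedCategory.Q.commShiftIso n).app _).symm ≪≫
      DerivedCategory.Q.mapIso (((CochainComplex.singleFunctors X.Modules).shiftIso n (-n) 0 (by omega)).app G) ≪≫
      ((DerivedCategory.quotientCompQhIso X.Modules).app _).symm
  have h0 := (goodCx_sgl adjg adjg' e G h1 (-n)).app
  rw [tau_app] at h0
  obtain ⟨φ, hφ⟩ := ((tr_lcounit g' (-n) G).precomp ((DCoh.Lpull g').map i.hom)).exists_iso (hψ n)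
  have hn := (BCAlg.bc adjg adjg' e).naturality i.hom
  simp only [Functor.comp_map, Functor.comp_obj] at hn
  rw [theta_app, ← hφ, Functor.map_comp, Functor.map_comp, Category.assoc, ← reassoc_of% hn]
  haveI := h0
  rw [← Category.assoc ((BCAlg.bc adjg adjg' e).app _)]
  infer_instance

/-- Both sides send sums to sums. -/
theorem isoShifts_sum [QuasiCompact f] [QuasiSeparated f] [QuasiCompact f'] [QuasiSeparated f'] (hG : Coh.IsQCoh G)
    (hG' : Coh.IsQCoh G') {κ : Type u} (Z : κ → DCoh.D X) (c : Cofan Z) (hc : IsColimit c)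
    (hZ : ∀ k, DCoh.IsQCohD (Z k) ∧ IsoShifts (theta adjg adjg' e ψ) (Z k)) :
    IsoShifts (theta adjg adjg' e ψ) c.pt := fun n => by
  let sh := shiftFunctor (DCoh.D X) n
  haveI := TenLocal.preservesCoproducts_LTensor (sM G) κ
  haveI := TenLocal.preservesCoproducts_LTensor (sM G') κ
  haveI := TenLocal.preservesCoproducts_Lpull g κ
  haveI := TenLocal.preservesCoproducts_Lpull g' κ
  let W := fun k => (Z k)⟦n⟧
  let c' : Cofan W := Cofan.mk (c.pt⟦n⟧) fun k => (c.inj k)⟦n⟧'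
  have hc' : IsColimit c' := (Cofan.isColimitMapCoconeEquiv _ _ _).1 (isColimitOfPreserves sh hc)
  let M := DCoh.Lpull g' ⋙ tens G'
  haveI := TenLocal.preservesColimit_Rpush f ((tens G).obj ∘ W) fun k =>
    isQCohD_tens hG (DQCoh.isQCohD_shift (hZ k).1 n)
  haveI := TenLocal.preservesColimit_Rpush f' (M.obj ∘ W) fun k =>
    isQCohD_tens hG' (DQCoh.isQCohD_Lpull g' _ (DQCoh.isQCohD_shift (hZ k).1 n))
  haveI : PreservesColimit (Discrete.functor W ⋙ tens G) (DCoh.Rpush f) :=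
    preservesColimit_of_iso_diagram _ (Discrete.compNatIsoDiscrete W (tens G)).symm
  haveI : PreservesColimit (Discrete.functor W ⋙ M) (DCoh.Rpush f') :=
    preservesColimit_of_iso_diagram _ (Discrete.compNatIsoDiscrete W M).symm
  haveI : PreservesColimit (Discrete.functor W) (tens G ⋙ DCoh.Rpush f) := inferInstance
  haveI : PreservesColimit (Discrete.functor W) ((tens G ⋙ DCoh.Rpush f) ⋙ DCoh.Lpull g) := inferInstance
  haveI : PreservesColimit (Discrete.functor W) (tens G ⋙ DCoh.Rpush f ⋙ DCoh.Lpull g) :=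
    preservesColimit_of_natIso _ (Functor.associator _ _ _)
  haveI : PreservesColimit (Discrete.functor W) (M ⋙ DCoh.Rpush f') := inferInstance
  haveI : PreservesColimit (Discrete.functor W) (DCoh.Lpull g' ⋙ tens G' ⋙ DCoh.Rpush f') :=
    preservesColimit_of_natIso _ (show M ⋙ DCoh.Rpush f' ≅ _ from Functor.associator _ _ _)
  exact WeakExact.isIso_app_of_isColimit (theta adjg adjg' e ψ) c'
    (isColimitOfPreserves (tens G ⋙ DCoh.Rpush f ⋙ DCoh.Lpull g) hc')
    (isColimitOfPreserves (DCoh.Lpull g' ⋙ tens G' ⋙ DCoh.Rpush f') hc') fun k => (hZ k).2 n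

end Shifts

variable {X Y X' Y' : Scheme.{u}} {f : X ⟶ Y} {g : Y' ⟶ Y} {f' : X' ⟶ Y'} {g' : X' ⟶ X}

/-- Two opens covering the source. -/
theorem good_of_two (hsq : IsPullback g' f' f g) {U₁ U₂ U₁' U₂' : Scheme.{u}} (j₁ : U₁ ⟶ X) (j₂ : U₂ ⟶ X)
    [IsOpenImmersion j₁] [IsOpenImmersion j₂] [QuasiCompact j₁] [QuasiCompact j₂]
    (hcov : ∀ x : X, x ∈ j₁.opensRange ∨ x ∈ j₂.opensRange)
    {j₁' : U₁' ⟶ X'} {j₂' : U₂' ⟶ X'} {g₁ : U₁' ⟶ U₁} {g₂ : U₂' ⟶ U₂}
    (e₁ : IsPullback g₁ j₁' j₁ g') (e₂ : IsPullback g₂ j₂' j₂ g') {G : X.Modules} (hG : Coh.IsQCoh G)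
    (h₁ : Good (j₁ ≫ f) g (j₁' ≫ f') g₁ ((Scheme.Modules.pullback j₁).obj G))
    (h₂ : Good (j₂ ≫ f) g (j₂' ≫ f') g₂ ((Scheme.Modules.pullback j₂).obj G)) : Good f g f' g' G := by
  intro _ _ _ _ _ _ adjg adjg' e G' ψ hψ E hE
  haveI := hasRpush j₁
  haveI := hasRpush j₂
  let τ := theta adjg adjg' e ψ
  have hs : ∀ {V V' : Scheme.{u}} (j : V ⟶ X) [IsOpenImmersion j] [QuasiCompact j] (j' : V' ⟶ X') (g'' : V' ⟶ V)
      [DCoh.HasRpush j], IsPullback g'' j' j g' →
      Good (j ≫ f) g (j' ≫ f') g'' ((Scheme.Modules.pullback j).obj G) →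
      ∀ K : DCoh.D V, DCoh.IsQCohD K → IsoShifts τ ((DCoh.Rpush j).obj K) := by
    intro V V' j _ _ j' g'' _ w hC K hK n
    obtain ⟨_, _⟩ := exists_commShift_Rpush j
    refine (NatTrans.isIso_app_iff_of_iso τ (((DCoh.Rpush j).commShiftIso n).app K)).1 ?_
    rw [theta_app]
    exact isIso_theta_push w hG hC adjg adjg' e ψ hψ _ (DQCoh.isQCohD_shift hK n)
  obtain ⟨a₁, ha₁⟩ := AdjGeom.exists_adj j₁
  obtain ⟨a₂, ha₂⟩ := AdjGeom.exists_adj j₂
  obtain ⟨C, v, w, hT⟩ := distinguished_cocone_triangle (a₁.unit.app E)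
  haveI : IsIso ((rd j₁).map (a₁.unit.app E)) :=
    isIso_of_comp_eq_id (a₁.left_triangle_components E)
  have hC : AdjGeom.killed j₁ C :=
    (Triangle.isZero₃_iff_isIso₁ _ ((rd j₁).map_distinguished _ hT)).2 ‹IsIso ((rd j₁).map (a₁.unit.app E))›
  have hE₁ : DCoh.IsQCohD ((DCoh.restrictD j₁).obj E) := AdjGeom.isQCohD_restrictD j₁ hE
  have hR₁ : DCoh.IsQCohD ((DCoh.Rpush j₁).obj ((DCoh.restrictD j₁).obj E)) := DQCoh.isQCohD_Rpush j₁ _ hE₁
  have hCq : DCoh.IsQCohD C := DQCoh.isQCohD_obj₃ hT hE hR₁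
  haveI : IsIso (a₂.unit.app C) := by
    haveI : IsIso ((rd j₂).map (a₂.unit.app C)) :=
      isIso_of_comp_eq_id (a₂.left_triangle_components C)
    refine ProjPerf.isIso_of_locally _ fun x => ?_
    rcases hcov x with hx | hx
    · refine ⟨j₁.opensRange, hx, ?_⟩
      have hk₁ : AdjGeom.killed j₁.opensRange.ι C :=
        AdjGeom.killed_mono j₁ _ (by rw [Scheme.Opens.opensRange_ι]) hC
      have hk₂ : AdjGeom.killed j₁.opensRange.ι ((DCoh.Rpush j₂).obj ((DCoh.restrictD j₂).obj C)) :=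
        TenLocal.isZero_rd_Rpush j₂ _ (by
          exact (RdComp.isZero_rd_comp_iff (j₂ ⁻¹ᵁ j₁.opensRange).ι j₂ C).2
            (AdjGeom.killed_mono j₁ _ (by
              rw [Scheme.Hom.opensRange_comp, Scheme.Opens.opensRange_ι]
              exact (j₂.image_preimage_eq_opensRange_inf _).le.trans inf_le_right) hC))
      exact ⟨(hk₁.isoZero ≪≫ hk₂.isoZero.symm).inv, hk₁.eq_of_src _ _, hk₂.eq_of_src _ _⟩
    · exact ⟨j₂.opensRange, hx,
        TenLocal.isIso_rd_of_isIso_rd j₂ j₂.isoOpensRange.inv j₂.opensRange.ι j₂.isoOpensRange_inv_comp _⟩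
  have hC₂ : IsoShifts τ C := (hs j₂ j₂' g₂ e₂ h₂ _ (AdjGeom.isQCohD_restrictD j₂ hCq)).of_iso
    (asIso (a₂.unit.app C)).symm
  rw [← theta_app]
  exact (IsoShifts.fibre (triExact_src (f := f) (g := g)) (triExact_tgt (f' := f') (g' := g')) hT
    (hs j₁ j₁' g₁ e₁ h₁ _ hE₁) hC₂).app

/-- Base change holds for all flat modules on the given source over affine bases. -/
def GoodSrc (Z : Scheme.{u}) : Prop :=
  ∀ (A B : CommRingCat.{u}) (φ : A ⟶ B) (f : Z ⟶ Spec A) (X' : Scheme.{u}) (f' : X' ⟶ Spec B) (g' : X' ⟶ Z),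
    IsPullback g' f' f (Spec.map φ) → ∀ G : Z.Modules, Coh.IsQCoh G → FlatMod.IsFlatOver f G →
      Good f (Spec.map φ) f' g' G

theorem goodSrc_spec (R : CommRingCat.{u}) : GoodSrc (Spec R) := by
  intro A B φ f X' f' g' hsq G hG hfl
  intro _ _ _ _ _ _ adjg adjg' e G' ψ hψ E hE
  haveI : QuasiCompact f' := MorphismProperty.of_isPullback (P := @QuasiCompact) hsq inferInstance
  haveI : QuasiSeparated f' := MorphismProperty.of_isPullback (P := @QuasiSeparated) hsq inferInstance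
  have h1 := g1_affineSrc φ hsq G hG hfl
  have hG' := isQCoh_of_dat hG hψ
  rw [← theta_app]
  refine IsoShifts.app ((DQCoh.qcohD_induction R
    (fun L => DCoh.IsQCohD L ∧ IsoShifts (theta adjg adjg' e ψ) L)
    (fun a h => ⟨DQCoh.isQCohD_of_iso a h.1, h.2.of_iso a⟩)
    (fun T hT h₁ h₂ => ⟨DQCoh.isQCohD_obj₃ hT h₁.1 h₂.1, IsoShifts.cone triExact_src triExact_tgt hT h₁.2 h₂.2⟩)
    (fun κ Z c hc h => ⟨?_, isoShifts_sum adjg adjg' e ψ hG hG' Z c hc h⟩)
    (fun n => ?_) E hE).2)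
  · haveI : HasCoproduct Z := ⟨⟨⟨c, hc⟩⟩⟩
    exact DQCoh.isQCohD_of_iso ((coproductIsCoproduct _).coconePointUniqueUpToIso hc)
      (DQCoh.isQCohD_sigma _ fun k => (h k).1)
  · refine ⟨DQCoh.isQCohD_of_iso ((shiftFunctor _ n).mapIso (oxSec (Spec R))) (isQCohD_ox n), ?_⟩
    refine (IsoShifts.shift ?_ n).of_iso ((shiftFunctor _ n).mapIso (oxSec (Spec R)))
    exact fun m => isIso_theta_ox adjg adjg' e ψ hψ h1 m

theorem flatOver_push_open {U : Scheme.{u}} (j : U ⟶ X) [IsOpenImmersion j] {G : X.Modules}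
    (hfl : FlatMod.IsFlatOver f G) : FlatMod.IsFlatOver (j ≫ f) ((Scheme.Modules.pullback j).obj G) :=
  flatOver_pullback_open j f G hfl

theorem goodSrc_affine (Z : Scheme.{u}) [IsAffine Z] : GoodSrc Z := by
  intro A B φ f X' f' g' hsq G hG hfl
  haveI := hG
  let j : Spec Γ(Z, ⊤) ⟶ Z := Z.isoSpec.inv
  have hj : IsPullback (pullback.fst j g') (pullback.snd j g') j g' := IsPullback.of_hasPullback j g'
  have h := goodSrc_spec Γ(Z, ⊤) A B φ (j ≫ f) _ _ _ (hj.paste_vert hsq) ((Scheme.Modules.pullback j).obj G)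
    (EGA43.InjFibre.isQCoh_pullback j G) (flatOver_push_open j hfl)
  exact good_of_two hsq j j (fun x => Or.inl ⟨(inv j).base x, by rw [← Scheme.Hom.comp_apply, IsIso.inv_hom_id]; rfl⟩)
    hj hj hG h h

/-- Quasi-compact quasi-separated sources over affine bases. -/
theorem goodSrc_qcqs {X : Scheme.{u}} [CompactSpace X] [QuasiSeparatedSpace X] : GoodSrc X := by
  have h : ∀ O : X.Opens, IsCompact (O : Set X) → OpenInduct.At GoodSrc O := fun O hO => by
    refine compact_open_induction_on (P := OpenInduct.At GoodSrc) O hO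
      (OpenInduct.at_bot fun T hT => @goodSrc_affine T (@isAffine_of_isEmpty T hT)) fun S hS U ih => ?_
    have hU : OpenInduct.At GoodSrc U.1 := OpenInduct.at_of_isAffineOpen (fun T hT => @goodSrc_affine T hT) U.2
    intro T k _ hk A B φ f X' f' g' hsq G hG hfl
    haveI : QuasiSeparatedSpace T := QuasiSeparatedSpace.of_isOpenEmbedding k.isOpenEmbedding
    haveI := hG
    have hr : ∀ O : X.Opens, O ≤ S ⊔ U.1 → ((k ⁻¹ᵁ O).ι ≫ k).opensRange = O := fun O hO => by
      rw [Scheme.Hom.opensRange_comp, Scheme.Opens.opensRange_ι, Scheme.Hom.image_preimage_eq_opensRange_inf, hk]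
      exact inf_eq_right.2 hO
    have hc : ∀ O : X.Opens, O ≤ S ⊔ U.1 → IsCompact (O : Set X) → QuasiCompact (k ⁻¹ᵁ O).ι := fun O hO hOc => by
      haveI : CompactSpace (k ⁻¹ᵁ O) := isCompact_iff_compactSpace.1 (k.isOpenEmbedding.isInducing.isCompact_iff.2 (by
        rwa [show (⇑k '' ((k ⁻¹ᵁ O : T.Opens) : Set T)) = (O : Set X) from Set.image_preimage_eq_iff.2 (by
          change (O : Set X) ⊆ (k.opensRange : Set X)
          rw [hk]
          exact hO)]))
      infer_instance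
    haveI := hc S le_sup_left hS
    haveI := hc U.1 le_sup_right U.2.isCompact
    have hmem : ∀ t : T, t ∈ k ⁻¹ᵁ S ∨ t ∈ k ⁻¹ᵁ U.1 := fun t => by
      have : k t ∈ S ⊔ U.1 := hk ▸ ⟨t, rfl⟩
      exact this
    have e₁ := IsPullback.of_hasPullback (k ⁻¹ᵁ S).ι g'
    have e₂ := IsPullback.of_hasPullback (k ⁻¹ᵁ U.1).ι g'
    exact good_of_two hsq _ _ (by simpa using hmem) e₁ e₂ hG
      (ih _ _ (hr _ le_sup_left) A B φ _ _ _ _ (e₁.paste_vert hsq) _ (EGA43.InjFibre.isQCoh_pullback _ G)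
        (flatOver_push_open _ hfl))
      (hU _ _ (hr _ le_sup_right) A B φ _ _ _ _ (e₂.paste_vert hsq) _ (EGA43.InjFibre.isQCoh_pullback _ G)
        (flatOver_push_open _ hfl))
  exact h ⊤ isCompact_univ X (𝟙 X) (Scheme.Hom.opensRange_of_isIso _)

/-- Base change at `E ⊗^L G`. -/
theorem good_main [QuasiCompact f] [QuasiSeparated f] (hsq : IsPullback g' f' f g) (G : X.Modules)
    (hG : Coh.IsQCoh G) (hfl : FlatMod.IsFlatOver f G) : Good f g f' g' G := by
  refine of_cover hsq fun y => ?_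
  obtain ⟨U, hU, hgy, -⟩ := exists_isAffineOpen_mem_and_subset (show g y ∈ (⊤ : Y.Opens) from trivial)
  obtain ⟨U', hU', hy, hle⟩ := exists_isAffineOpen_mem_and_subset (show y ∈ g ⁻¹ᵁ U from hgy)
  haveI : CompactSpace (pullback f hU.fromSpec : Scheme.{u}) :=
    QuasiCompact.compactSpace_of_compactSpace (pullback.snd f hU.fromSpec)
  haveI : QuasiSeparatedSpace (pullback f hU.fromSpec : Scheme.{u}) :=
    quasiSeparatedSpace_of_quasiSeparated (pullback.snd f hU.fromSpec)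
  haveI := hG
  let a := pullback.fst f hU.fromSpec
  have hflU : FlatMod.IsFlatOver (pullback.snd f hU.fromSpec) ((Scheme.Modules.pullback a).obj G) := fun x =>
    Desc19b.isFlatOverAt_baseChange f (pullback.snd f hU.fromSpec) a hU.fromSpec
      (IsPullback.of_hasPullback f hU.fromSpec) G x (hfl _)
  refine ⟨_, _, hU.fromSpec, hU'.fromSpec, Spec.map (g.appLE U U' hle), inferInstance, inferInstance,
    pullback f hU.fromSpec, _, a, pullback.snd f hU.fromSpec,
    pullback.fst (pullback.snd f hU.fromSpec) (Spec.map (g.appLE U U' hle)),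
    pullback.snd (pullback.snd f hU.fromSpec) (Spec.map (g.appLE U U' hle)),
    IsAffineOpen.SpecMap_appLE_fromSpec g hU hU' hle, ?_, IsPullback.of_hasPullback _ _,
    IsPullback.of_hasPullback _ _, ?_⟩
  · rw [hU'.opensRange_fromSpec]
    exact hy
  · exact goodSrc_qcqs _ _ _ _ _ _ _ (IsPullback.of_hasPullback _ _) _ (EGA43.InjFibre.isQCoh_pullback a G) hflU

/-- `- ⊗^L G` in the two normalizations. -/
theorem nonempty_LTensorMod_tens (G : X.Modules) [DCoh.HasLTensorMod G] (E : DCoh.D X) :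
    Nonempty ((DCoh.LTensorMod G).obj E ≅ (tens G).obj E) := by
  obtain ⟨P, c, hP, hc⟩ := RelTorDim.exists_resolution G
  haveI := hc
  haveI := LTensorSheaf.hasLTensorCx P
  obtain ⟨a⟩ := RelTorDim.nonempty_LTensorMod_iso G hP c E
  obtain ⟨b⟩ := TensorCongr.nonempty_of_quasiIso c
  exact ⟨a ≪≫ b.app E⟩

/-- `Lg^* Rf_*(E ⊗^L G) ≅ Rf'_*(Lg'^* E ⊗^L g'^* G)`. -/
theorem nonempty_baseChange [QuasiCompact f] [QuasiSeparated f] (hsq : IsPullback g' f' f g)
    (E : DCoh.D X) (hE : DCoh.IsQCohD E) (G : X.Modules) (hG : Coh.IsQCoh G) (hfl : FlatMod.IsFlatOver f G)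
    [DCoh.HasLTensorMod G] [DCoh.HasRpush f] [DCoh.HasLpull g] [DCoh.HasLpull g'] [DCoh.HasRpush f']
    [DCoh.HasLTensorMod ((Scheme.Modules.pullback g').obj G)] :
    Nonempty ((DCoh.Lpull g).obj ((DCoh.Rpush f).obj ((DCoh.LTensorMod G).obj E)) ≅
      (DCoh.Rpush f').obj ((DCoh.LTensorMod ((Scheme.Modules.pullback g').obj G)).obj ((DCoh.Lpull g').obj E))) := by
  haveI := hasRpush g
  haveI := hasRpush g'
  obtain ⟨adjg⟩ := nonempty_pullPushAdj g
  obtain ⟨adjg'⟩ := nonempty_pullPushAdj g'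
  obtain ⟨e⟩ := BCSquare.exists_e hsq.w
  obtain ⟨ψ, hψ⟩ := exists_dat g' G
  obtain ⟨a⟩ := nonempty_LTensorMod_tens G E
  obtain ⟨b⟩ := nonempty_LTensorMod_tens ((Scheme.Modules.pullback g').obj G) ((DCoh.Lpull g').obj E)
  haveI := good_main hsq G hG hfl inferInstance inferInstance inferInstance inferInstance inferInstance inferInstance
    adjg adjg' e _ ψ hψ E hE
  exact ⟨(DCoh.Lpull g).mapIso ((DCoh.Rpush f).mapIso a) ≪≫
    asIso ((BCAlg.bc adjg adjg' e).app ((tens G).obj E) ≫ (DCoh.Rpush f').map (ψ.app E)) ≪≫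
    (DCoh.Rpush f').mapIso b.symm⟩

end Groth.Agent.BCFlat16.TenBC
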