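import Mathlib.Algebra.Homology.DerivedCategory.TStructure
import Mathlib.Algebra.Homology.DerivedCategory.HomologySequence
import Mathlib.CategoryTheory.Triangulated.Yoneda
import Mathlib.CategoryTheory.Triangulated.TStructure.TruncLTGE
import Groth.Agent.Dual22Lib.WeakExact

/-!
# Truncation maps characterised by homology
-/

set_option autoImplicit false
set_option backward.isDefEq.respectTransparency false
set_option linter.style.haveILetI false

universe w v u

open CategoryTheory CategoryTheory.Limits CategoryTheory.Pretriangulated DerivedCategory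

namespace Groth.Agent.BCFlat16

variable {A : Type u} [Category.{v} A] [Abelian A] [HasDerivedCategory.{w} A]

/-- `κ` is the projection to the top homology, placed in degree `n`. -/
structure Tr (n : ℤ) {K N : DerivedCategory A} (κ : K ⟶ N) : Prop where
  le : K.IsLE n
  geN : N.IsGE n
  leN : N.IsLE n
  iso : IsIso ((homologyFunctor A n).map κ)

theorem Tr.cone_le {n : ℤ} {K N : DerivedCategory A} {κ : K ⟶ N} (h : Tr n κ) {C : DerivedCategory A}
    {v : N ⟶ C} {w : C ⟶ K⟦(1 : ℤ)⟧} (hT : Triangle.mk κ v w ∈ distTriang _) : C.IsLE (n - 2) := by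
  obtain ⟨hle, hge, hleN, hiso⟩ := h
  refine (DerivedCategory.isLE_iff _ _).2 fun i hi => ?_
  refine ShortComplex.Exact.isZero_of_both_zeros (HomologySequence.exact₃ _ hT i (i + 1) rfl) ?_ ?_
  · show (homologyFunctor A i).map v = 0
    by_cases hin : i = n
    · subst hin
      haveI : Epi ((homologyFunctor A i).map (Triangle.mk κ v w).mor₁) :=
        show Epi ((homologyFunctor A i).map κ) by infer_instance
      exact (HomologySequence.epi_homologyMap_mor₁_iff _ hT i).1 inferInstance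
    · refine IsZero.eq_of_src ?_ _ _
      rcases lt_or_gt_of_ne hin with h' | h'
      · exact N.isZero_of_isGE n i h'
      · exact N.isZero_of_isLE n i h'
  · show HomologySequence.δ _ i (i + 1) rfl = 0
    by_cases hin : i + 1 = n
    · haveI : Mono ((homologyFunctor A (i + 1)).map (Triangle.mk κ v w).mor₁) := by
        show Mono ((homologyFunctor A (i + 1)).map κ)
        subst hin
        infer_instance
      exact (HomologySequence.mono_homologyMap_mor₁_iff _ hT i (i + 1) rfl).1 inferInstance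
    · exact IsZero.eq_of_tgt (K.isZero_of_isLE n (i + 1) (by omega)) _ _

/-- A projection to the top homology is universal among maps to objects in degrees at least `n`. -/
theorem Tr.bijective {n : ℤ} {K N : DerivedCategory A} {κ : K ⟶ N} (h : Tr n κ) (Z : DerivedCategory A)
    [Z.IsGE n] : Function.Bijective (fun φ : N ⟶ Z => κ ≫ φ) := by
  obtain ⟨C, v, w, hT⟩ := distinguished_cocone_triangle κ
  haveI := h.cone_le hT
  refine ⟨fun φ ψ hφ => sub_eq_zero.1 ?_, fun φ => ?_⟩
  · obtain ⟨χ, hχ⟩ := Triangle.yoneda_exact₂ _ hT (φ - ψ) (by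
      show κ ≫ (φ - ψ) = 0
      rw [Preadditive.comp_sub, sub_eq_zero]
      exact hφ)
    haveI : (Triangle.mk κ v w).obj₃.IsLE (n - 2) := inferInstanceAs (C.IsLE (n - 2))
    rw [hχ, TStructure.t.zero χ (n - 2) n (by omega), comp_zero]
  · have hR := inv_rot_of_distTriang _ hT
    haveI : (C⟦(-1 : ℤ)⟧).IsLE (n - 1) := TStructure.t.isLE_shift C (n - 2) (-1) (n - 1) (by omega)
    obtain ⟨χ, hχ⟩ := Triangle.yoneda_exact₂ _ hR φ (TStructure.t.zero
      ((Triangle.mk κ v w).invRotate.mor₁ ≫ φ : C⟦(-1 : ℤ)⟧ ⟶ Z) (n - 1) n (by omega))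
    exact ⟨χ, hχ.symm⟩

/-- Two projections of the same object differ by an isomorphism. -/
theorem Tr.exists_iso {n : ℤ} {K N N' : DerivedCategory A} {κ : K ⟶ N} {κ' : K ⟶ N'} (h : Tr n κ) (h' : Tr n κ') :
    ∃ e : N ≅ N', κ ≫ e.hom = κ' := by
  haveI := h.geN
  haveI := h'.geN
  obtain ⟨a, ha⟩ := (h.bijective N').2 κ'
  obtain ⟨b, hb⟩ := (h'.bijective N).2 κ
  refine ⟨⟨a, b, (h.bijective N).1 ?_, (h'.bijective N').1 ?_⟩, ha⟩
  · show κ ≫ a ≫ b = κ ≫ 𝟙 N
    rw [← Category.assoc, show κ ≫ a = κ' from ha, show κ' ≫ b = κ from hb, Category.comp_id]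
  · show κ' ≫ b ≫ a = κ' ≫ 𝟙 N'
    rw [← Category.assoc, show κ' ≫ b = κ from hb, show κ ≫ a = κ' from ha, Category.comp_id]

theorem Tr.precomp {n : ℤ} {K K' N : DerivedCategory A} {κ : K ⟶ N} (h : Tr n κ) (a : K' ⟶ K) [IsIso a] :
    Tr n (a ≫ κ) := by
  obtain ⟨hle, hge, hleN, hiso⟩ := h
  refine ⟨TStructure.t.isLE_of_iso (asIso a).symm n, hge, hleN, ?_⟩
  rw [Functor.map_comp]
  infer_instance

theorem Tr.comp_iso {n : ℤ} {K N N' : DerivedCategory A} {κ : K ⟶ N} (h : Tr n κ) (a : N ⟶ N') [IsIso a] :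
    Tr n (κ ≫ a) := by
  obtain ⟨hle, hge, hleN, hiso⟩ := h
  refine ⟨hle, TStructure.t.isGE_of_iso (asIso a) n, TStructure.t.isLE_of_iso (asIso a) n, ?_⟩
  rw [Functor.map_comp]
  infer_instance

theorem Tr.of_cone {n : ℤ} {K N C : DerivedCategory A} {κ : K ⟶ N} {v : N ⟶ C} {w : C ⟶ K⟦(1 : ℤ)⟧}
    (hT : Triangle.mk κ v w ∈ distTriang _) [C.IsLE (n - 2)] [K.IsLE n] [N.IsGE n] : Tr n κ where
  le := inferInstance
  geN := inferInstance
  leN := TStructure.t.isLE₂ _ hT n ‹K.IsLE n› (TStructure.t.isLE_of_le C (n - 2) n (by omega))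
  iso := by
    haveI : Mono ((homologyFunctor A n).map (Triangle.mk κ v w).mor₁) :=
      (HomologySequence.mono_homologyMap_mor₁_iff _ hT (n - 1) n (by omega)).2
        (IsZero.eq_of_src (C.isZero_of_isLE (n - 2) (n - 1) (by omega)) _ _)
    haveI : Epi ((homologyFunctor A n).map (Triangle.mk κ v w).mor₁) :=
      (HomologySequence.epi_homologyMap_mor₁_iff _ hT n).2
        (IsZero.eq_of_tgt (C.isZero_of_isLE (n - 2) n (by omega)) _ _)
    exact isIso_of_mono_of_epi (C := A) ((homologyFunctor A n).map (Triangle.mk κ v w).mor₁)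

theorem exists_tr (n : ℤ) (K : DerivedCategory A) [K.IsLE n] :
    ∃ (N : DerivedCategory A) (κ : K ⟶ N), Tr n κ := by
  let t : Triangulated.TStructure (DerivedCategory A) := TStructure.t
  have hT := t.triangleLTGE_distinguished n K
  haveI : ((t.truncGE n).obj K).IsGE n := t.isGE_truncGE_obj K n n (by omega)
  haveI : (((t.truncLT n).obj K)⟦(1 : ℤ)⟧).IsLE (n - 2) := by
    haveI := t.isLE_truncLT_obj K n (n - 1) (by omega)
    exact t.isLE_shift ((t.truncLT n).obj K) (n - 1) 1 (n - 2) (by omega)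
  exact ⟨_, _, Tr.of_cone (K := K) (C := ((t.truncLT n).obj K)⟦(1 : ℤ)⟧) (κ := (t.truncGEπ n).app K)
    (rot_of_distTriang _ hT)⟩

/-- Weakly exact functors preserving the relevant bounds preserve projections to the top homology. -/
theorem Tr.map {n : ℤ} {K N : DerivedCategory A} {κ : K ⟶ N} (h : Tr n κ)
    {B : Type*} [Category B] [Abelian B] [HasDerivedCategory.{w} B]
    (F : DerivedCategory A ⥤ DerivedCategory B) (hF : Dual22Lib.WeakExact.TriExact F)
    (hle : (F.obj K).IsLE n) (hge : (F.obj N).IsGE n)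
    (hC : ∀ C : DerivedCategory A, C.IsLE (n - 2) → (∃ (v : N ⟶ C) (w : C ⟶ K⟦(1 : ℤ)⟧),
      Triangle.mk κ v w ∈ distTriang _) → (F.obj C).IsLE (n - 2)) : Tr n (F.map κ) := by
  obtain ⟨C, v, w, hT⟩ := distinguished_cocone_triangle κ
  obtain ⟨δ, hδ⟩ := hF _ hT
  haveI := hle
  haveI := hge
  haveI : (F.obj C).IsLE (n - 2) := hC C (h.cone_le hT) ⟨v, w, hT⟩
  exact Tr.of_cone (C := F.obj C) hδ

end Groth.Agent.BCFlat16
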